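import Cfsg.Agent.Lib.JankoThree.Checks
import Cfsg.Agent.Lib.JankoThree.OrderData

/-! # Evaluating words on the columns of a matrix -/

set_option autoImplicit false
set_option maxRecDepth 100000

namespace Cfsg.Agent.Lib.JankoThree

/-- Apply one map to a list of columns, evaluating each column first. -/
def mapAp (i : ℕ) : List ℕ → List ℕ
  | [] => []
  | v :: l => fce v (fun v => ap (tab i) v) :: mapAp i l

/-- Apply a word to a list of columns. -/
def evalW : List ℕ → List ℕ → List ℕ
  | [], L => L
  | i :: w, L => mapAp i (evalW w L)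

def beqL : List ℕ → List ℕ → Bool
  | [], [] => true
  | a :: l, b :: m => Nat.beq a b && beqL l m
  | _, _ => false

/-- The columns of a packed matrix. -/
def unpk (n : ℕ) : List ℕ :=
  fce n fun n => [n % 262144, n / 262144 % 262144, n / 68719476736 % 262144,
    n / 18014398509481984 % 262144, n / 4722366482869645213696 % 262144,
    n / 1237940039285380274899124224 % 262144, n / 324518553658426726783156020576256 % 262144,
    n / 85070591730234615865843651857942052864 % 262144,
    n / 22300745198530623141535718272648361505980416 % 262144]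

def idCols : List ℕ := [1, 4, 16, 64, 256, 1024, 4096, 16384, 65536]

def hCols (d : ℕ) : List ℕ := unpk (hTree.get d)
def kW (c : ℕ) : List ℕ := kWord.getD c []
def tW (a : ℕ) : List ℕ := tWord.getD a []
def rW (r : ℕ) : List ℕ := repWord.getD r []

/-- One step in the group fixing the first basis line. -/
def hStepOk (d : ℕ) : Bool :=
  fce d fun d => fce (hStep.get d) fun s =>
    Nat.blt (s % 8192) 6480 && (Nat.blt (s / 8192) 6480 &&
    (beqL (evalW (hWord 0) (hCols d)) (hCols (s % 8192)) &&
    beqL (evalW (hWord 1) (hCols d)) (hCols (s / 8192))))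

/-- The parent of an element. -/
def hParOk (d : ℕ) : Bool :=
  fce d fun d => fce (hPar.get d) fun s => fce (s % 8192) fun p =>
    bif Nat.beq (s / 16384) 0 then Nat.beq d hRoot else
      Nat.blt p 6480 && (Nat.blt (hPar.get p / 16384) (s / 16384) &&
        beqL (evalW (hWord (s / 8192 % 2)) (hCols p)) (hCols d))

/-- The matrices are packed in increasing order. -/
def hSorted (d : ℕ) : Bool :=
  fce d fun d => Nat.blt (hTree.get d) (hTree.get (d + 1))

def kStepOk (c : ℕ) : Bool :=
  (List.range 3).all fun j =>
    Nat.blt ((kNext.getD c []).getD j 0) 72 &&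
    beqL (evalW (kGenWord.getD j [] ++ kW c) idCols) (evalW (kW ((kNext.getD c []).getD j 0)) idCols)

def kParOk (c : ℕ) : Bool :=
  bif Nat.beq c 0 then beqL (evalW (kW c) idCols) idCols else
    fce ((kPar.getD c []).getD 0 0) fun p => fce ((kPar.getD c []).getD 1 0) fun j =>
      Nat.blt p c && (Nat.blt j 3 &&
        beqL (evalW (kGenWord.getD j [] ++ kW p) idCols) (evalW (kW c) idCols))

def conjOk (j : ℕ) : Bool :=
  Nat.blt (kConj.getD j 0) 72 &&
    beqL (evalW ([3] ++ kGenWord.getD j []) idCols) (evalW (kW (kConj.getD j 0) ++ [3]) idCols)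

def tStepOk (a : ℕ) : Bool :=
  (List.range 3).all fun i =>
    fce ((((tStep.getD a []).getD i []).getD 0 0)) fun c =>
    fce ((((tStep.getD a []).getD i []).getD 1 0)) fun b =>
      Nat.blt c 72 && (Nat.blt b 81 &&
        beqL (evalW (tW a ++ [i]) idCols) (evalW (kW c ++ tW b) idCols))

/-- The transversal step of the remaining generator. -/
def cStepOk (n : ℕ) : Bool :=
  fce n fun n => fce (cStep.get n) fun s => fce (s % 128) fun c => fce (s / 128 % 128) fun b =>
  fce (s / 16384 % 32) fun r => fce (s / 524288) fun d =>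
    Nat.blt c 72 && (Nat.blt b 81 && (Nat.blt r 20 && (Nat.blt d 6480 &&
      beqL (evalW ([3] ++ tW (n / 20) ++ rW (n % 20)) idCols)
        (evalW (kW c ++ tW b ++ rW r) (hCols d)))))

/-- The monomial elements fixing the first basis line lie in the table. -/
def fixOk (n : ℕ) : Bool :=
  fce n fun n => fce ((evalW (kW (n / 81) ++ tW (n % 81)) [1]).getD 0 0) fun v =>
    bif Nat.blt v 4 then
      Nat.blt (fixIdx.get n) 6480 &&
        beqL (evalW (kW (n / 81) ++ tW (n % 81)) idCols) (hCols (fixIdx.get n))
    else true

def smallW (k : ℕ) (w : List ℕ) : Bool := w.all fun i => Nat.blt i k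

end Cfsg.Agent.Lib.JankoThree
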