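import Cfsg.Agent.Lib.JankoThree.Orbit
import Cfsg.Agent.Lib.JankoThree.OrderDefs

/-! # Words in the generators as group elements -/

set_option autoImplicit false
set_option maxRecDepth 100000

namespace Cfsg.Agent.Lib.JankoThree

open Cfsg.Spor Matrix

/-- The inverse of a word. -/
def winv (w : List ℕ) : List ℕ := w.reverse.flatMap fun i => List.replicate (ordGen i - 1) i

variable {F : Type*} [Field F] [Fintype F] {ω : F}

namespace Setup

variable (h : Setup ω)

/-- A generator as a group element. -/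
noncomputable def gl (i : ℕ) : GL F9 F :=
  if hi : i < 4 then (h.exists_gen i hi).choose else 1

/-- The product of a word. -/
noncomputable def wordGL (w : List ℕ) : GL F9 F := (w.map h.gl).prod

theorem gl_mem (i : ℕ) : h.gl i ∈ threeJ3 F ω := by
  unfold gl
  split_ifs with hi
  · exact (h.exists_gen i hi).choose_spec.1
  · exact one_mem _

theorem gl_val {i : ℕ} (hi : i < 4) : (h.gl i : Matrix F9 F9 F) = toMat ω (gLit i) := by
  rw [gl, dif_pos hi]
  exact (h.exists_gen i hi).choose_spec.2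

theorem wordGL_mem (w : List ℕ) : h.wordGL w ∈ threeJ3 F ω :=
  list_prod_mem fun x hx => by
    obtain ⟨i, -, rfl⟩ := List.mem_map.1 hx
    exact h.gl_mem i

theorem wordGL_append (a b : List ℕ) : h.wordGL (a ++ b) = h.wordGL a * h.wordGL b := by
  simp [wordGL]

theorem wordGL_cons (i : ℕ) (w : List ℕ) : h.wordGL (i :: w) = h.gl i * h.wordGL w := by
  simp [wordGL]

theorem wordGL_nil : h.wordGL [] = 1 := rfl

end Setup

/-- The columns of a group element, coded. -/
def Rep (ω : F) (g : GL F9 F) (L : List ℕ) : Prop :=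
  L.length = 9 ∧ (∀ v ∈ L, v < 4 ^ 9) ∧
    ∀ z : F9, (g : Matrix F9 F9 F) *ᵥ Pi.single z (1 : F) = vec ω (L.getD (idx z) 0)

theorem Rep.ext {g g' : GL F9 F} {L : List ℕ} (hg : Rep ω g L) (hg' : Rep ω g' L) : g = g' := by
  refine Units.ext ?_
  ext w z
  have := (hg.2.2 z).trans (hg'.2.2 z).symm
  simpa [Matrix.mulVec_single] using congrFun this w

theorem Rep.unique (h : Setup ω) {g : GL F9 F} {L L' : List ℕ} (hg : Rep ω g L) (hg' : Rep ω g L') :
    L = L' := by
  refine List.ext_getElem (hg.1.trans hg'.1.symm) fun i h1 h2 => ?_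
  have hi : i < 9 := hg.1 ▸ h1
  refine h.vec_inj (hg.2.1 _ (List.getElem_mem h1)) (hg'.2.1 _ (List.getElem_mem h2)) ?_
  have := (hg.2.2 (unidx i)).symm.trans (hg'.2.2 (unidx i))
  rwa [idx_unidx i hi, List.getD_eq_getElem _ _ h1, List.getD_eq_getElem _ _ h2] at this

theorem rep_one (ω : F) : Rep ω (1 : GL F9 F) idCols := by
  refine ⟨rfl, by decide, fun z => ?_⟩
  have e : ∀ z w : F9, dig (idx w) (idCols.getD (idx z) 0) = if w = z then 1 else 0 := by decide +kernel
  rw [Units.val_one, Matrix.one_mulVec]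
  funext w
  rw [vec, e, Pi.single_apply]
  split_ifs <;> rfl

theorem mapAp_eq (i : ℕ) : ∀ L : List ℕ, mapAp i L = L.map (ap (tab i))
  | [] => rfl
  | v :: l => by rw [mapAp, fce_eq, mapAp_eq i l, List.map_cons]

theorem beqL_eq : ∀ {a b : List ℕ}, beqL a b = true → a = b
  | [], [], _ => rfl
  | [], _ :: _, h => by simp [beqL] at h
  | _ :: _, [], h => by simp [beqL] at h
  | a :: l, b :: m, h => by
    simp only [beqL, Bool.and_eq_true, Nat.beq_eq] at h
    rw [h.1, beqL_eq h.2]

theorem smallW_spec {k : ℕ} {w : List ℕ} (hw : smallW k w = true) : ∀ i ∈ w, i < k := fun i hi =>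
  by simpa [Nat.blt_eq] using List.all_eq_true.1 hw i hi

theorem Setup.rep_eval (h : Setup ω) {g : GL F9 F} {L : List ℕ} (hg : Rep ω g L) :
    ∀ {w : List ℕ}, (∀ i ∈ w, i < 4) → Rep ω (h.wordGL w * g) (evalW w L)
  | [], _ => by rw [Setup.wordGL_nil, one_mul]; exact hg
  | i :: w, hw => by
    have hi := hw i List.mem_cons_self
    obtain ⟨hl, hlt, hz⟩ := Setup.rep_eval h hg (w := w) fun j hj => hw j (List.mem_cons_of_mem _ hj)
    rw [evalW, mapAp_eq]
    refine ⟨by simpa using hl, fun v hv => ?_, fun z => ?_⟩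
    · obtain ⟨u, hu, rfl⟩ := List.mem_map.1 hv
      exact ap_lt (tab_small i (by omega)) (hlt u hu)
    · have hlen : idx z < (evalW w L).length := by rw [hl]; exact idx_lt z
      rw [h.wordGL_cons, mul_assoc, Units.val_mul, ← Matrix.mulVec_mulVec, hz z,
        List.getD_eq_getElem _ _ hlen, List.getD_eq_getElem _ _ (by simpa using hlen), List.getElem_map,
        h.vec_ap (small_gLit i (by omega)) (tabOk i (by omega)) (hlt _ (List.getElem_mem hlen)),
        h.gl_val hi]

theorem Setup.word_eq (h : Setup ω) {w u : List ℕ} (hw : ∀ i ∈ w, i < 4) (hu : ∀ i ∈ u, i < 4)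
    (e : beqL (evalW w idCols) (evalW u idCols) = true) : h.wordGL w = h.wordGL u := by
  have h1 := h.rep_eval (rep_one ω) hw
  have h2 := h.rep_eval (rep_one ω) hu
  rw [beqL_eq e, mul_one] at h1
  rw [mul_one] at h2
  exact h1.ext h2

theorem Setup.gl_pow (h : Setup ω) (i : ℕ) (hi : i < 4) : h.gl i ^ ordGen i = 1 := by
  have e : ∀ i < 4, beqL (evalW (List.replicate (ordGen i) i) idCols) (evalW [] idCols) = true := by
    decide +kernel
  have := h.word_eq (fun j hj => by rw [List.eq_of_mem_replicate hj]; exact hi) (by simp) (e i hi)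
  rwa [Setup.wordGL, List.map_replicate, List.prod_replicate, Setup.wordGL_nil] at this

theorem Setup.wordGL_winv (h : Setup ω) {w : List ℕ} (hw : ∀ i ∈ w, i < 4) :
    h.wordGL (winv w) = (h.wordGL w)⁻¹ ∧ ∀ i ∈ winv w, i < 4 := by
  refine ⟨?_, fun i hi => ?_⟩
  · induction w with
    | nil => simp [winv, Setup.wordGL]
    | cons i w ih =>
      have hi := hw i List.mem_cons_self
      rw [h.wordGL_cons, _root_.mul_inv_rev, ← ih fun j hj => hw j (List.mem_cons_of_mem _ hj),
        show winv (i :: w) = winv w ++ List.replicate (ordGen i - 1) i by simp [winv],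
        h.wordGL_append]
      congr 1
      rw [Setup.wordGL, List.map_replicate, List.prod_replicate]
      refine (inv_eq_of_mul_eq_one_right ?_).symm
      have : 0 < ordGen i := by interval_cases i <;> decide
      rw [← pow_succ', Nat.sub_add_cancel this, h.gl_pow i hi]
  · obtain ⟨j, hj, hi'⟩ := List.mem_flatMap.1 hi
    rw [List.eq_of_mem_replicate hi']
    exact hw j (List.mem_reverse.1 hj)

theorem Setup.closure_gl (h : Setup ω) :
    threeJ3 F ω = Subgroup.closure (Set.range fun i : Fin 4 => h.gl i.val) := by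
  refine le_antisymm ?_ ((Subgroup.closure_le _).2 (by rintro _ ⟨i, rfl⟩; exact h.gl_mem _))
  intro g hg
  set S := Subgroup.closure (Set.range fun i : Fin 4 => h.gl i.val)
  have key : ∃ g' ∈ S, (g' : Matrix F9 F9 F) = (g : Matrix F9 F9 F) :=
    h.induction (P := fun A => ∃ g' ∈ S, (g' : Matrix F9 F9 F) = A) ⟨1, one_mem _, rfl⟩
      (fun A B ⟨a, ha, ea⟩ ⟨b, hb, eb⟩ => ⟨a * b, mul_mem ha hb, by rw [Units.val_mul, ea, eb]⟩)
      (fun i hi => ⟨h.gl i, Subgroup.subset_closure ⟨⟨i, hi⟩, rfl⟩, h.gl_val hi⟩) hg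
  obtain ⟨g', hg', e⟩ := key
  rwa [← Units.ext e]

end Cfsg.Agent.Lib.JankoThree
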