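import Cfsg.Agent.Lib.JankoThree.OrderDefs

/-! # Checks of the certificates for the order -/

set_option autoImplicit false
set_option maxRecDepth 100000

namespace Cfsg.Agent.Lib.JankoThree

/-- A check on a segment. -/
def seg (P : ℕ → Bool) (a n : ℕ) : Bool := (List.range n).all fun i => P (a + i)

theorem hStep_seg0 : seg hStepOk 0 1080 = true := by decide +kernel

theorem hStep_seg1 : seg hStepOk 1080 1080 = true := by decide +kernel

theorem hStep_seg2 : seg hStepOk 2160 1080 = true := by decide +kernel

theorem hStep_seg3 : seg hStepOk 3240 1080 = true := by decide +kernel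

theorem hStep_seg4 : seg hStepOk 4320 1080 = true := by decide +kernel

theorem hStep_seg5 : seg hStepOk 5400 1080 = true := by decide +kernel

theorem hPar_seg0 : seg hParOk 0 2160 = true := by decide +kernel

theorem hPar_seg1 : seg hParOk 2160 2160 = true := by decide +kernel

theorem hPar_seg2 : seg hParOk 4320 2160 = true := by decide +kernel

theorem hSort_seg0 : seg hSorted 0 6479 = true := by decide +kernel

theorem cStep_seg0 : seg cStepOk 0 405 = true := by decide +kernel

theorem cStep_seg1 : seg cStepOk 405 405 = true := by decide +kernel

theorem cStep_seg2 : seg cStepOk 810 405 = true := by decide +kernel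

theorem cStep_seg3 : seg cStepOk 1215 405 = true := by decide +kernel

theorem fix_seg0 : seg fixOk 0 1944 = true := by decide +kernel

theorem fix_seg1 : seg fixOk 1944 1944 = true := by decide +kernel

theorem fix_seg2 : seg fixOk 3888 1944 = true := by decide +kernel

theorem kStep_all : seg kStepOk 0 72 = true := by decide +kernel

theorem kPar_all : seg kParOk 0 72 = true := by decide +kernel

theorem conj_all : seg conjOk 0 3 = true := by decide +kernel

theorem tStep_all : seg tStepOk 0 81 = true := by decide +kernel

theorem words_small : ((kGenWord ++ kWord ++ tWord).all (smallW 3) && (repWord.all (smallW 4) &&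
    (smallW 4 (hWord 0) && smallW 4 (hWord 1) && smallW 4 aWord && smallW 4 scalWord &&
      aExpr.all fun p => p.all (smallW 4)))) = true := by decide +kernel

end Cfsg.Agent.Lib.JankoThree
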