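import Cfsg.Agent.Lib.JankoThree.Defs

/-! # Coefficients of polynomials in the element of order nineteen (data) -/

set_option autoImplicit false

namespace Cfsg.Agent.Lib.JankoThree

def commPoly : List (List ℕ) := [[1, 0, 0, 0, 0, 0, 0, 0, 0], [2, 3, 3, 0, 3, 2, 1, 1, 2], [1, 2, 2, 0, 0, 0, 3, 0, 1], [0, 3, 0, 0, 0, 0, 0, 0, 0], [3, 1, 2, 3, 2, 2, 3, 2, 0], [3, 3, 0, 2, 1, 0, 1, 1, 2], [2, 1, 1, 3, 2, 2, 3, 2, 0], [3, 3, 0, 3, 2, 1, 2, 1, 1], [1, 0, 1, 1, 3, 2, 2, 0, 0]]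

def testPoly : List (List ℕ) := [[0, 3, 1, 1, 1, 2, 2, 3, 0], [0, 0, 3, 3, 2, 0, 0, 1, 2], [1, 0, 2, 2, 2, 3, 3, 3, 3], [1, 0, 0, 0, 1, 1, 3, 1, 1]]

end Cfsg.Agent.Lib.JankoThree
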