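import Cfsg.Agent.Lib.JankoThree.AutDefs
import Cfsg.Agent.Lib.JankoThree.OrderChecks
import Cfsg.Agent.Lib.JankoThree.Group
import Cfsg.Agent.Lib.JankoThree.PolyData

/-! # Small checks used for the automorphism group -/

set_option autoImplicit false
set_option maxRecDepth 100000

namespace Cfsg.Agent.Lib.JankoThree

open Cfsg.Spor

def wordEqProj (w u : List ℕ) : Bool := projEq (evalW w idCols) (evalW u idCols)

/-- The conjugate of the element of order three fixing the line of index `i`. -/
def candWord (i s : ℕ) : List ℕ :=
  fixWord.getD i [] ++ (List.replicate s tEltWord).flatten ++ winv (fixWord.getD i [])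

/-- The third generator. -/
def thirdWord : List ℕ := candWord baseFix basePow

def pw (k : ℕ) (w : List ℕ) : List ℕ := (List.replicate k w).flatten

/-- Words in the three generators and their inverses. -/
def pickWord : ℕ → List ℕ
  | 0 => aWord
  | 1 => eWord
  | 2 => thirdWord
  | 3 => winv aWord
  | 4 => winv eWord
  | _ => winv thirdWord

theorem autCols_words : beqL (evalW tEltWord idCols) (autC 0) = true ∧
    beqL (evalW fWord idCols) (autC 1) = true ∧ beqL (evalW (pw 3 eWord) idCols) (autC 2) = true := by
  decide +kernel

theorem autCols_wf : autCols.all (fun L => Nat.beq L.length 9 && L.all (Nat.blt · 262144)) = true ∧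
    commCols.all (fun L => Nat.beq L.length 9 && L.all (Nat.blt · 262144)) = true := by decide +kernel

theorem tabCols_zero : tabColsOk 0 = true := by decide +kernel
theorem tabCols_one : tabColsOk 1 = true := by decide +kernel
theorem tabCols_two : tabColsOk 2 = true := by decide +kernel
theorem tabCols_three : tabColsOk 3 = true := by decide +kernel
theorem tabCols_four : tabColsOk 4 = true := by decide +kernel
theorem tabCols_five : tabColsOk 5 = true := by decide +kernel
theorem tabCols_six : tabColsOk 6 = true := by decide +kernel

theorem commCols_first : ∀ i < 9, (commCols.getD i []).getD 0 0 = idCols.getD i 0 := by decide +kernel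

/-- The columns of a polynomial in the element of order nineteen. -/
def polyCols (co : List ℕ) : List ℕ :=
  (List.range 9).map fun z =>
    xor9 fun k => mulS (co.getD k 0) ((evalW (pw k aWord) idCols).getD z 0)

theorem polyCols_comm : ∀ i < 9, beqL (polyCols (commPoly.getD i [])) (commCols.getD i []) = true ∧
    (commPoly.getD i []).all (Nat.blt · 4) = true := by decide +kernel

theorem polyCols_test : ∀ j < 4, beqL (polyCols (testPoly.getD j [])) (autC (3 + j)) = true ∧
    (testPoly.getD j []).all (Nat.blt · 4) = true ∧ inLines ((autC (3 + j)).getD 0 0) = true := by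
  decide +kernel

theorem cycle_check : lineCycle.all (fun v =>
    (List.range 19).any fun i => Nat.beq (nrmC ((evalW (pw i aWord) idCols).getD 0 0)) v) = true := by
  decide +kernel

theorem fix_check : ∀ i < 9, Nat.beq (nrmC ((evalW (fixWord.getD i []) idCols).getD 0 0)) (fixLines.getD i 0) = true := by
  decide +kernel

theorem fix_length : fixLines.length = 9 := by decide

theorem e_check : beqL (evalW (eWord ++ aWord ++ winv eWord) idCols) (evalW (pw 4 aWord) idCols) = true := by
  decide +kernel

theorem f_order : beqL (evalW (pw 5 fWord) idCols) idCols = true ∧ projEq (evalW fWord idCols) idCols = false := by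
  decide +kernel

theorem t_order : beqL (evalW (pw 3 tEltWord) idCols) idCols = true ∧ projEq (evalW tEltWord idCols) idCols = false ∧
    (autC 0).getD 0 0 = 1 := by decide +kernel

theorem t_f_comm : wordEqProj (tEltWord ++ fWord) (fWord ++ tEltWord) = true := by decide +kernel

theorem third_check : wordEqProj (thirdWord ++ pw 3 eWord) (pw 3 eWord ++ thirdWord) = true ∧
    (basePow = 1 ∨ basePow = 2) ∧ baseFix < 9 := by
  decide +kernel

theorem invariant_check : ∀ i < 9, ∀ s < 3, s ≠ 0 →
    (projEq (evalW (pw 12 (aWord ++ eWord ++ candWord i s)) idCols) idCols = true ↔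
      i = baseFix ∧ s = basePow) := by
  decide +kernel

theorem normalise_check : ∀ k < 2,
    (wordEqProj (hWord k ++ tEltWord ++ winv (hWord k)) tEltWord ||
      wordEqProj (hWord k ++ tEltWord ++ winv (hWord k)) (pw 2 tEltWord)) = true := by
  decide +kernel

theorem gen_check : ∀ g < 4, wordEqProj [g] ((genExpr.getD g []).flatMap pickWord) = true := by
  decide +kernel

theorem aut_words_small : smallW 4 eWord = true ∧ smallW 4 tEltWord = true ∧ smallW 4 fWord = true ∧
    fixWord.all (smallW 4) = true ∧ sigmaWord.all (smallW 4) = true := by decide +kernel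

theorem cent_seg0 : seg centOk 0 3240 = true := by decide +kernel
theorem cent_seg1 : seg centOk 3240 3240 = true := by decide +kernel

/-- Diagonal trace code. -/
def trCode (L : List ℕ) : ℕ := xor9 fun k => dig k (L.getD k 0)

theorem trace_check : (trCode (evalW aWord idCols) = 2 ∨ trCode (evalW aWord idCols) = 3) ∧
    trCode (evalW tEltWord idCols) ≠ 0 := by decide +kernel

/-- The image of a coded matrix under the outer automorphism. -/
def sigCode (M : List ℕ) : List ℕ :=
  mc fun w z => [0, 1, 3, 2].getD (ent2 M (idx (w.1, -w.2)) (idx (z.1, -z.2))) 0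

theorem sigma_check : ∀ g < 4, ∀ w z : F9,
    Nat.beq (dig (idx w) ((evalW (sigmaWord.getD g []) idCols).getD (idx z) 0))
      (ent2 (sigCode (gLit g)) (idx w) (idx z)) = true := by decide +kernel

end Cfsg.Agent.Lib.JankoThree
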