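import Cfsg.Agent.Lib.JankoThree.Defs

/-! # Certificates for the automorphisms of `J₃` (data) -/

set_option autoImplicit false
set_option maxRecDepth 100000

namespace Cfsg.Agent.Lib.JankoThree

local notation "L" => Tr.leaf
local notation "N" => Tr.node

def autLo0 : Tr :=
  (N (N (N (N (N (N (N (N (N (L 0) (L 768)) (N (L 192) (L 960))) (N (N (L 128) (L 896)) (N (L 64) (L 832)))) (N (N (N (L 48) (L 816)) (N (L 240) (L 1008))) (N (N (L 176) (L 944)) (N (L 112) (L 880))))) (N (N (N (N (L 32) (L 800)) (N (L 224) (L 992))) (N (N (L 160) (L 928)) (N (L 96) (L 864)))) (N (N (N (L 16) (L 784)) (N (L 208) (L 976))) (N (N (L 144) (L 912)) (N (L 80) (L 848)))))) (N (N (N (N (N (L 12) (L 780)) (N (L 204) (L 972))) (N (N (L 140) (L 908)) (N (L 76) (L 844)))) (N (N (N (L 60) (L 828)) (N (L 252) (L 1020))) (N (N (L 188) (L 956)) (N (L 124) (L 892))))) (N (N (N (N (L 44) (L 812)) (N (L 236) (L 1004))) (N (N (L 172) (L 940)) (N (L 108) (L 876)))) (N (N (N (L 28) (L 796)) (N (L 220) (L 988)))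 (N (N (L 156) (L 924)) (N (L 92) (L 860))))))) (N (N (N (N (N (N (L 8) (L 776)) (N (L 200) (L 968))) (N (N (L 136) (L 904)) (N (L 72) (L 840)))) (N (N (N (L 56) (L 824)) (N (L 248) (L 1016))) (N (N (L 184) (L 952)) (N (L 120) (L 888))))) (N (N (N (N (L 40) (L 808)) (N (L 232) (L 1000))) (N (N (L 168) (L 936)) (N (L 104) (L 872)))) (N (N (N (L 24) (L 792)) (N (L 216) (L 984))) (N (N (L 152) (L 920)) (N (L 88) (L 856)))))) (N (N (N (N (N (L 4) (L 772)) (N (L 196) (L 964))) (N (N (L 132) (L 900)) (N (L 68) (L 836)))) (N (N (N (L 52) (L 820)) (N (L 244) (L 1012))) (N (N (L 180) (L 948)) (N (L 116) (L 884))))) (N (N (N (N (L 36) (L 804)) (N (L 228) (L 996))) (N (N (L 164) (L 932)) (N (L 100) (L 868)))) (N (N (N (L 20) (L 788)) (N (L 212) (L 980))) (N (N (L 148) (L 916)) (N (L 84) (L 852)))))))) (N (N (N (N (N (N (N (L 2) (L 770)) (N (L 194) (L 962))) (N (N (L 130) (L 898)) (N (L 66) (L 834)))) (N (N (N (L 50) (L 818)) (N (L 242) (L 1010))) (N (N (L 178) (L 946)) (N (L 114) (L 882)))))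 (N (N (N (N (L 34) (L 802)) (N (L 226) (L 994))) (N (N (L 162) (L 930)) (N (L 98) (L 866)))) (N (N (N (L 18) (L 786)) (N (L 210) (L 978))) (N (N (L 146) (L 914)) (N (L 82) (L 850)))))) (N (N (N (N (N (L 14) (L 782)) (N (L 206) (L 974))) (N (N (L 142) (L 910)) (N (L 78) (L 846)))) (N (N (N (L 62) (L 830)) (N (L 254) (L 1022))) (N (N (L 190) (L 958)) (N (L 126) (L 894))))) (N (N (N (N (L 46) (L 814)) (N (L 238) (L 1006))) (N (N (L 174) (L 942)) (N (L 110) (L 878)))) (N (N (N (L 30) (L 798)) (N (L 222) (L 990))) (N (N (L 158) (L 926)) (N (L 94) (L 862))))))) (N (N (N (N (N (N (L 10) (L 778)) (N (L 202) (L 970))) (N (N (L 138) (L 906)) (N (L 74) (L 842)))) (N (N (N (L 58) (L 826)) (N (L 250) (L 1018))) (N (N (L 186) (L 954)) (N (L 122) (L 890))))) (N (N (N (N (L 42) (L 810)) (N (L 234) (L 1002))) (N (N (L 170) (L 938)) (N (L 106) (L 874)))) (N (N (N (L 26) (L 794)) (N (L 218) (L 986))) (N (N (L 154) (L 922)) (N (L 90) (L 858)))))) (N (N (N (N (N (L 6) (L 774)) (N (L 198) (L 966))) (N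 (N (L 134) (L 902)) (N (L 70) (L 838)))) (N (N (N (L 54) (L 822)) (N (L 246) (L 1014))) (N (N (L 182) (L 950)) (N (L 118) (L 886))))) (N (N (N (N (L 38) (L 806)) (N (L 230) (L 998))) (N (N (L 166) (L 934)) (N (L 102) (L 870)))) (N (N (N (L 22) (L 790)) (N (L 214) (L 982))) (N (N (L 150) (L 918)) (N (L 86) (L 854))))))))) (N (N (N (N (N (N (N (N (L 1) (L 769)) (N (L 193) (L 961))) (N (N (L 129) (L 897)) (N (L 65) (L 833)))) (N (N (N (L 49) (L 817)) (N (L 241) (L 1009))) (N (N (L 177) (L 945)) (N (L 113) (L 881))))) (N (N (N (N (L 33) (L 801)) (N (L 225) (L 993))) (N (N (L 161) (L 929)) (N (L 97) (L 865)))) (N (N (N (L 17) (L 785)) (N (L 209) (L 977))) (N (N (L 145) (L 913)) (N (L 81) (L 849)))))) (N (N (N (N (N (L 13) (L 781)) (N (L 205) (L 973))) (N (N (L 141) (L 909)) (N (L 77) (L 845)))) (N (N (N (L 61) (L 829)) (N (L 253) (L 1021))) (N (N (L 189) (L 957)) (N (L 125) (L 893))))) (N (N (N (N (L 45) (L 813)) (N (L 237) (L 1005))) (N (N (L 173) (L 941)) (N (L 109) (L 877)))) (N (N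 (N (L 29) (L 797)) (N (L 221) (L 989))) (N (N (L 157) (L 925)) (N (L 93) (L 861))))))) (N (N (N (N (N (N (L 9) (L 777)) (N (L 201) (L 969))) (N (N (L 137) (L 905)) (N (L 73) (L 841)))) (N (N (N (L 57) (L 825)) (N (L 249) (L 1017))) (N (N (L 185) (L 953)) (N (L 121) (L 889))))) (N (N (N (N (L 41) (L 809)) (N (L 233) (L 1001))) (N (N (L 169) (L 937)) (N (L 105) (L 873)))) (N (N (N (L 25) (L 793)) (N (L 217) (L 985))) (N (N (L 153) (L 921)) (N (L 89) (L 857)))))) (N (N (N (N (N (L 5) (L 773)) (N (L 197) (L 965))) (N (N (L 133) (L 901)) (N (L 69) (L 837)))) (N (N (N (L 53) (L 821)) (N (L 245) (L 1013))) (N (N (L 181) (L 949)) (N (L 117) (L 885))))) (N (N (N (N (L 37) (L 805)) (N (L 229) (L 997))) (N (N (L 165) (L 933)) (N (L 101) (L 869)))) (N (N (N (L 21) (L 789)) (N (L 213) (L 981))) (N (N (L 149) (L 917)) (N (L 85) (L 853)))))))) (N (N (N (N (N (N (N (L 3) (L 771)) (N (L 195) (L 963))) (N (N (L 131) (L 899)) (N (L 67) (L 835)))) (N (N (N (L 51) (L 819)) (N (L 243) (L 1011))) (N (N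 (L 179) (L 947)) (N (L 115) (L 883))))) (N (N (N (N (L 35) (L 803)) (N (L 227) (L 995))) (N (N (L 163) (L 931)) (N (L 99) (L 867)))) (N (N (N (L 19) (L 787)) (N (L 211) (L 979))) (N (N (L 147) (L 915)) (N (L 83) (L 851)))))) (N (N (N (N (N (L 15) (L 783)) (N (L 207) (L 975))) (N (N (L 143) (L 911)) (N (L 79) (L 847)))) (N (N (N (L 63) (L 831)) (N (L 255) (L 1023))) (N (N (L 191) (L 959)) (N (L 127) (L 895))))) (N (N (N (N (L 47) (L 815)) (N (L 239) (L 1007))) (N (N (L 175) (L 943)) (N (L 111) (L 879)))) (N (N (N (L 31) (L 799)) (N (L 223) (L 991))) (N (N (L 159) (L 927)) (N (L 95) (L 863))))))) (N (N (N (N (N (N (L 11) (L 779)) (N (L 203) (L 971))) (N (N (L 139) (L 907)) (N (L 75) (L 843)))) (N (N (N (L 59) (L 827)) (N (L 251) (L 1019))) (N (N (L 187) (L 955)) (N (L 123) (L 891))))) (N (N (N (N (L 43) (L 811)) (N (L 235) (L 1003))) (N (N (L 171) (L 939)) (N (L 107) (L 875)))) (N (N (N (L 27) (L 795)) (N (L 219) (L 987))) (N (N (L 155) (L 923)) (N (L 91) (L 859)))))) (N (N (N (N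 (N (L 7) (L 775)) (N (L 199) (L 967))) (N (N (L 135) (L 903)) (N (L 71) (L 839)))) (N (N (N (L 55) (L 823)) (N (L 247) (L 1015))) (N (N (L 183) (L 951)) (N (L 119) (L 887))))) (N (N (N (N (L 39) (L 807)) (N (L 231) (L 999))) (N (N (L 167) (L 935)) (N (L 103) (L 871)))) (N (N (N (L 23) (L 791)) (N (L 215) (L 983))) (N (N (L 151) (L 919)) (N (L 87) (L 855))))))))))

def autHi0 : Tr :=
  (N (N (N (N (N (N (N (N (N (L 0) (L 65536)) (N (L 196608) (L 131072))) (N (N (L 16384) (L 81920)) (N (L 212992) (L 147456)))) (N (N (N (L 49152) (L 114688)) (N (L 245760) (L 180224))) (N (N (L 32768) (L 98304)) (N (L 229376) (L 163840))))) (N (N (N (N (L 12288) (L 77824)) (N (L 208896) (L 143360))) (N (N (L 28672) (L 94208)) (N (L 225280) (L 159744)))) (N (N (N (L 61440) (L 126976)) (N (L 258048) (L 192512))) (N (N (L 45056) (L 110592)) (N (L 241664) (L 176128)))))) (N (N (N (N (N (L 8192) (L 73728)) (N (L 204800) (L 139264))) (N (N (L 24576) (L 90112)) (N (L 221184) (L 155648)))) (N (N (N (L 57344)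 (L 122880)) (N (L 253952) (L 188416))) (N (N (L 40960) (L 106496)) (N (L 237568) (L 172032))))) (N (N (N (N (L 4096) (L 69632)) (N (L 200704) (L 135168))) (N (N (L 20480) (L 86016)) (N (L 217088) (L 151552)))) (N (N (N (L 53248) (L 118784)) (N (L 249856) (L 184320))) (N (N (L 36864) (L 102400)) (N (L 233472) (L 167936))))))) (N (N (N (N (N (N (L 1024) (L 66560)) (N (L 197632) (L 132096))) (N (N (L 17408) (L 82944)) (N (L 214016) (L 148480)))) (N (N (N (L 50176) (L 115712)) (N (L 246784) (L 181248))) (N (N (L 33792) (L 99328)) (N (L 230400) (L 164864))))) (N (N (N (N (L 13312) (L 78848)) (N (L 209920) (L 144384))) (N (N (L 29696) (L 95232)) (N (L 226304) (L 160768)))) (N (N (N (L 62464) (L 128000)) (N (L 259072) (L 193536))) (N (N (L 46080) (L 111616)) (N (L 242688) (L 177152)))))) (N (N (N (N (N (L 9216) (L 74752)) (N (L 205824) (L 140288))) (N (N (L 25600) (L 91136)) (N (L 222208) (L 156672)))) (N (N (N (L 58368) (L 123904)) (N (L 254976) (L 189440))) (N (N (L 41984) (L 107520))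 (N (L 238592) (L 173056))))) (N (N (N (N (L 5120) (L 70656)) (N (L 201728) (L 136192))) (N (N (L 21504) (L 87040)) (N (L 218112) (L 152576)))) (N (N (N (L 54272) (L 119808)) (N (L 250880) (L 185344))) (N (N (L 37888) (L 103424)) (N (L 234496) (L 168960)))))))) (N (N (N (N (N (N (N (L 3072) (L 68608)) (N (L 199680) (L 134144))) (N (N (L 19456) (L 84992)) (N (L 216064) (L 150528)))) (N (N (N (L 52224) (L 117760)) (N (L 248832) (L 183296))) (N (N (L 35840) (L 101376)) (N (L 232448) (L 166912))))) (N (N (N (N (L 15360) (L 80896)) (N (L 211968) (L 146432))) (N (N (L 31744) (L 97280)) (N (L 228352) (L 162816)))) (N (N (N (L 64512) (L 130048)) (N (L 261120) (L 195584))) (N (N (L 48128) (L 113664)) (N (L 244736) (L 179200)))))) (N (N (N (N (N (L 11264) (L 76800)) (N (L 207872) (L 142336))) (N (N (L 27648) (L 93184)) (N (L 224256) (L 158720)))) (N (N (N (L 60416) (L 125952)) (N (L 257024) (L 191488))) (N (N (L 44032) (L 109568)) (N (L 240640) (L 175104))))) (N (N (N (N (L 7168) (L 72704))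 (N (L 203776) (L 138240))) (N (N (L 23552) (L 89088)) (N (L 220160) (L 154624)))) (N (N (N (L 56320) (L 121856)) (N (L 252928) (L 187392))) (N (N (L 39936) (L 105472)) (N (L 236544) (L 171008))))))) (N (N (N (N (N (N (L 2048) (L 67584)) (N (L 198656) (L 133120))) (N (N (L 18432) (L 83968)) (N (L 215040) (L 149504)))) (N (N (N (L 51200) (L 116736)) (N (L 247808) (L 182272))) (N (N (L 34816) (L 100352)) (N (L 231424) (L 165888))))) (N (N (N (N (L 14336) (L 79872)) (N (L 210944) (L 145408))) (N (N (L 30720) (L 96256)) (N (L 227328) (L 161792)))) (N (N (N (L 63488) (L 129024)) (N (L 260096) (L 194560))) (N (N (L 47104) (L 112640)) (N (L 243712) (L 178176)))))) (N (N (N (N (N (L 10240) (L 75776)) (N (L 206848) (L 141312))) (N (N (L 26624) (L 92160)) (N (L 223232) (L 157696)))) (N (N (N (L 59392) (L 124928)) (N (L 256000) (L 190464))) (N (N (L 43008) (L 108544)) (N (L 239616) (L 174080))))) (N (N (N (N (L 6144) (L 71680)) (N (L 202752) (L 137216))) (N (N (L 22528) (L 88064)) (N (L 219136)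 (L 153600)))) (N (N (N (L 55296) (L 120832)) (N (L 251904) (L 186368))) (N (N (L 38912) (L 104448)) (N (L 235520) (L 169984))))))))) (N (N (N (N (N (N (N (N (L 256) (L 65792)) (N (L 196864) (L 131328))) (N (N (L 16640) (L 82176)) (N (L 213248) (L 147712)))) (N (N (N (L 49408) (L 114944)) (N (L 246016) (L 180480))) (N (N (L 33024) (L 98560)) (N (L 229632) (L 164096))))) (N (N (N (N (L 12544) (L 78080)) (N (L 209152) (L 143616))) (N (N (L 28928) (L 94464)) (N (L 225536) (L 160000)))) (N (N (N (L 61696) (L 127232)) (N (L 258304) (L 192768))) (N (N (L 45312) (L 110848)) (N (L 241920) (L 176384)))))) (N (N (N (N (N (L 8448) (L 73984)) (N (L 205056) (L 139520))) (N (N (L 24832) (L 90368)) (N (L 221440) (L 155904)))) (N (N (N (L 57600) (L 123136)) (N (L 254208) (L 188672))) (N (N (L 41216) (L 106752)) (N (L 237824) (L 172288))))) (N (N (N (N (L 4352) (L 69888)) (N (L 200960) (L 135424))) (N (N (L 20736) (L 86272)) (N (L 217344) (L 151808)))) (N (N (N (L 53504) (L 119040)) (N (L 250112)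 (L 184576))) (N (N (L 37120) (L 102656)) (N (L 233728) (L 168192))))))) (N (N (N (N (N (N (L 1280) (L 66816)) (N (L 197888) (L 132352))) (N (N (L 17664) (L 83200)) (N (L 214272) (L 148736)))) (N (N (N (L 50432) (L 115968)) (N (L 247040) (L 181504))) (N (N (L 34048) (L 99584)) (N (L 230656) (L 165120))))) (N (N (N (N (L 13568) (L 79104)) (N (L 210176) (L 144640))) (N (N (L 29952) (L 95488)) (N (L 226560) (L 161024)))) (N (N (N (L 62720) (L 128256)) (N (L 259328) (L 193792))) (N (N (L 46336) (L 111872)) (N (L 242944) (L 177408)))))) (N (N (N (N (N (L 9472) (L 75008)) (N (L 206080) (L 140544))) (N (N (L 25856) (L 91392)) (N (L 222464) (L 156928)))) (N (N (N (L 58624) (L 124160)) (N (L 255232) (L 189696))) (N (N (L 42240) (L 107776)) (N (L 238848) (L 173312))))) (N (N (N (N (L 5376) (L 70912)) (N (L 201984) (L 136448))) (N (N (L 21760) (L 87296)) (N (L 218368) (L 152832)))) (N (N (N (L 54528) (L 120064)) (N (L 251136) (L 185600))) (N (N (L 38144) (L 103680)) (N (L 234752) (L 169216))))))))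 (N (N (N (N (N (N (N (L 3328) (L 68864)) (N (L 199936) (L 134400))) (N (N (L 19712) (L 85248)) (N (L 216320) (L 150784)))) (N (N (N (L 52480) (L 118016)) (N (L 249088) (L 183552))) (N (N (L 36096) (L 101632)) (N (L 232704) (L 167168))))) (N (N (N (N (L 15616) (L 81152)) (N (L 212224) (L 146688))) (N (N (L 32000) (L 97536)) (N (L 228608) (L 163072)))) (N (N (N (L 64768) (L 130304)) (N (L 261376) (L 195840))) (N (N (L 48384) (L 113920)) (N (L 244992) (L 179456)))))) (N (N (N (N (N (L 11520) (L 77056)) (N (L 208128) (L 142592))) (N (N (L 27904) (L 93440)) (N (L 224512) (L 158976)))) (N (N (N (L 60672) (L 126208)) (N (L 257280) (L 191744))) (N (N (L 44288) (L 109824)) (N (L 240896) (L 175360))))) (N (N (N (N (L 7424) (L 72960)) (N (L 204032) (L 138496))) (N (N (L 23808) (L 89344)) (N (L 220416) (L 154880)))) (N (N (N (L 56576) (L 122112)) (N (L 253184) (L 187648))) (N (N (L 40192) (L 105728)) (N (L 236800) (L 171264))))))) (N (N (N (N (N (N (L 2304) (L 67840)) (N (L 198912) (L 133376)))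 (N (N (L 18688) (L 84224)) (N (L 215296) (L 149760)))) (N (N (N (L 51456) (L 116992)) (N (L 248064) (L 182528))) (N (N (L 35072) (L 100608)) (N (L 231680) (L 166144))))) (N (N (N (N (L 14592) (L 80128)) (N (L 211200) (L 145664))) (N (N (L 30976) (L 96512)) (N (L 227584) (L 162048)))) (N (N (N (L 63744) (L 129280)) (N (L 260352) (L 194816))) (N (N (L 47360) (L 112896)) (N (L 243968) (L 178432)))))) (N (N (N (N (N (L 10496) (L 76032)) (N (L 207104) (L 141568))) (N (N (L 26880) (L 92416)) (N (L 223488) (L 157952)))) (N (N (N (L 59648) (L 125184)) (N (L 256256) (L 190720))) (N (N (L 43264) (L 108800)) (N (L 239872) (L 174336))))) (N (N (N (N (L 6400) (L 71936)) (N (L 203008) (L 137472))) (N (N (L 22784) (L 88320)) (N (L 219392) (L 153856)))) (N (N (N (L 55552) (L 121088)) (N (L 252160) (L 186624))) (N (N (L 39168) (L 104704)) (N (L 235776) (L 170240))))))))))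

def autLo1 : Tr :=
  (N (N (N (N (N (N (N (N (N (L 0) (L 213248)) (N (L 216) (L 213464))) (N (N (L 180) (L 213428)) (N (L 108) (L 213356)))) (N (N (N (L 8324) (L 221572)) (N (L 8284) (L 221532))) (N (N (L 8240) (L 221488)) (N (L 8424) (L 221672))))) (N (N (N (N (L 4172) (L 217420)) (N (L 4244) (L 217492))) (N (N (L 4344) (L 217592)) (N (L 4128) (L 217376)))) (N (N (N (L 12488) (L 225736)) (N (L 12304) (L 225552))) (N (N (L 12412) (L 225660)) (N (L 12452) (L 225700)))))) (N (N (N (N (N (L 8368) (L 221616)) (N (L 8296) (L 221544))) (N (N (L 8196) (L 221444)) (N (L 8412) (L 221660)))) (N (N (N (L 52) (L 213300)) (N (L 236) (L 213484))) (N (N (L 128) (L 213376)) (N (L 88) (L 213336))))) (N (N (N (N (L 12540) (L 225788)) (N (L 12324) (L 225572))) (N (N (L 12360) (L 225608)) (N (L 12432) (L 225680)))) (N (N (N (L 4216) (L 217464)) (N (L 4256) (L 217504))) (N (N (L 4300) (L 217548)) (N (L 4116) (L 217364))))))) (N (N (N (N (N (N (L 4192) (L 217440)) (N (L 4280) (L 217528))) (N (N (L 4308)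 (L 217556)) (N (L 4108) (L 217356)))) (N (N (N (L 12516) (L 225764)) (N (L 12348) (L 225596))) (N (N (L 12368) (L 225616)) (N (L 12424) (L 225672))))) (N (N (N (N (L 44) (L 213292)) (N (L 244) (L 213492))) (N (N (L 152) (L 213400)) (N (L 64) (L 213312)))) (N (N (N (L 8360) (L 221608)) (N (L 8304) (L 221552))) (N (N (L 8220) (L 221468)) (N (L 8388) (L 221636)))))) (N (N (N (N (N (L 12496) (L 225744)) (N (L 12296) (L 225544))) (N (N (L 12388) (L 225636)) (N (L 12476) (L 225724)))) (N (N (N (L 4180) (L 217428)) (N (L 4236) (L 217484))) (N (N (L 4320) (L 217568)) (N (L 4152) (L 217400))))) (N (N (N (N (L 8348) (L 221596)) (N (L 8260) (L 221508))) (N (N (L 8232) (L 221480)) (N (L 8432) (L 221680)))) (N (N (N (L 24) (L 213272)) (N (L 192) (L 213440))) (N (N (L 172) (L 213420)) (N (L 116) (L 213364)))))))) (N (N (N (N (N (N (N (L 2) (L 213250)) (N (L 218) (L 213466))) (N (N (L 182) (L 213430)) (N (L 110) (L 213358)))) (N (N (N (L 8326) (L 221574)) (N (L 8286) (L 221534))) (N (N (L 8242)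 (L 221490)) (N (L 8426) (L 221674))))) (N (N (N (N (L 4174) (L 217422)) (N (L 4246) (L 217494))) (N (N (L 4346) (L 217594)) (N (L 4130) (L 217378)))) (N (N (N (L 12490) (L 225738)) (N (L 12306) (L 225554))) (N (N (L 12414) (L 225662)) (N (L 12454) (L 225702)))))) (N (N (N (N (N (L 8370) (L 221618)) (N (L 8298) (L 221546))) (N (N (L 8198) (L 221446)) (N (L 8414) (L 221662)))) (N (N (N (L 54) (L 213302)) (N (L 238) (L 213486))) (N (N (L 130) (L 213378)) (N (L 90) (L 213338))))) (N (N (N (N (L 12542) (L 225790)) (N (L 12326) (L 225574))) (N (N (L 12362) (L 225610)) (N (L 12434) (L 225682)))) (N (N (N (L 4218) (L 217466)) (N (L 4258) (L 217506))) (N (N (L 4302) (L 217550)) (N (L 4118) (L 217366))))))) (N (N (N (N (N (N (L 4194) (L 217442)) (N (L 4282) (L 217530))) (N (N (L 4310) (L 217558)) (N (L 4110) (L 217358)))) (N (N (N (L 12518) (L 225766)) (N (L 12350) (L 225598))) (N (N (L 12370) (L 225618)) (N (L 12426) (L 225674))))) (N (N (N (N (L 46) (L 213294)) (N (L 246) (L 213494))) (N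 (N (L 154) (L 213402)) (N (L 66) (L 213314)))) (N (N (N (L 8362) (L 221610)) (N (L 8306) (L 221554))) (N (N (L 8222) (L 221470)) (N (L 8390) (L 221638)))))) (N (N (N (N (N (L 12498) (L 225746)) (N (L 12298) (L 225546))) (N (N (L 12390) (L 225638)) (N (L 12478) (L 225726)))) (N (N (N (L 4182) (L 217430)) (N (L 4238) (L 217486))) (N (N (L 4322) (L 217570)) (N (L 4154) (L 217402))))) (N (N (N (N (L 8350) (L 221598)) (N (L 8262) (L 221510))) (N (N (L 8234) (L 221482)) (N (L 8434) (L 221682)))) (N (N (N (L 26) (L 213274)) (N (L 194) (L 213442))) (N (N (L 174) (L 213422)) (N (L 118) (L 213366))))))))) (N (N (N (N (N (N (N (N (L 1) (L 213249)) (N (L 217) (L 213465))) (N (N (L 181) (L 213429)) (N (L 109) (L 213357)))) (N (N (N (L 8325) (L 221573)) (N (L 8285) (L 221533))) (N (N (L 8241) (L 221489)) (N (L 8425) (L 221673))))) (N (N (N (N (L 4173) (L 217421)) (N (L 4245) (L 217493))) (N (N (L 4345) (L 217593)) (N (L 4129) (L 217377)))) (N (N (N (L 12489) (L 225737)) (N (L 12305) (L 225553)))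 (N (N (L 12413) (L 225661)) (N (L 12453) (L 225701)))))) (N (N (N (N (N (L 8369) (L 221617)) (N (L 8297) (L 221545))) (N (N (L 8197) (L 221445)) (N (L 8413) (L 221661)))) (N (N (N (L 53) (L 213301)) (N (L 237) (L 213485))) (N (N (L 129) (L 213377)) (N (L 89) (L 213337))))) (N (N (N (N (L 12541) (L 225789)) (N (L 12325) (L 225573))) (N (N (L 12361) (L 225609)) (N (L 12433) (L 225681)))) (N (N (N (L 4217) (L 217465)) (N (L 4257) (L 217505))) (N (N (L 4301) (L 217549)) (N (L 4117) (L 217365))))))) (N (N (N (N (N (N (L 4193) (L 217441)) (N (L 4281) (L 217529))) (N (N (L 4309) (L 217557)) (N (L 4109) (L 217357)))) (N (N (N (L 12517) (L 225765)) (N (L 12349) (L 225597))) (N (N (L 12369) (L 225617)) (N (L 12425) (L 225673))))) (N (N (N (N (L 45) (L 213293)) (N (L 245) (L 213493))) (N (N (L 153) (L 213401)) (N (L 65) (L 213313)))) (N (N (N (L 8361) (L 221609)) (N (L 8305) (L 221553))) (N (N (L 8221) (L 221469)) (N (L 8389) (L 221637)))))) (N (N (N (N (N (L 12497) (L 225745)) (N (L 12297)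 (L 225545))) (N (N (L 12389) (L 225637)) (N (L 12477) (L 225725)))) (N (N (N (L 4181) (L 217429)) (N (L 4237) (L 217485))) (N (N (L 4321) (L 217569)) (N (L 4153) (L 217401))))) (N (N (N (N (L 8349) (L 221597)) (N (L 8261) (L 221509))) (N (N (L 8233) (L 221481)) (N (L 8433) (L 221681)))) (N (N (N (L 25) (L 213273)) (N (L 193) (L 213441))) (N (N (L 173) (L 213421)) (N (L 117) (L 213365)))))))) (N (N (N (N (N (N (N (L 3) (L 213251)) (N (L 219) (L 213467))) (N (N (L 183) (L 213431)) (N (L 111) (L 213359)))) (N (N (N (L 8327) (L 221575)) (N (L 8287) (L 221535))) (N (N (L 8243) (L 221491)) (N (L 8427) (L 221675))))) (N (N (N (N (L 4175) (L 217423)) (N (L 4247) (L 217495))) (N (N (L 4347) (L 217595)) (N (L 4131) (L 217379)))) (N (N (N (L 12491) (L 225739)) (N (L 12307) (L 225555))) (N (N (L 12415) (L 225663)) (N (L 12455) (L 225703)))))) (N (N (N (N (N (L 8371) (L 221619)) (N (L 8299) (L 221547))) (N (N (L 8199) (L 221447)) (N (L 8415) (L 221663)))) (N (N (N (L 55) (L 213303)) (N (L 239)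 (L 213487))) (N (N (L 131) (L 213379)) (N (L 91) (L 213339))))) (N (N (N (N (L 12543) (L 225791)) (N (L 12327) (L 225575))) (N (N (L 12363) (L 225611)) (N (L 12435) (L 225683)))) (N (N (N (L 4219) (L 217467)) (N (L 4259) (L 217507))) (N (N (L 4303) (L 217551)) (N (L 4119) (L 217367))))))) (N (N (N (N (N (N (L 4195) (L 217443)) (N (L 4283) (L 217531))) (N (N (L 4311) (L 217559)) (N (L 4111) (L 217359)))) (N (N (N (L 12519) (L 225767)) (N (L 12351) (L 225599))) (N (N (L 12371) (L 225619)) (N (L 12427) (L 225675))))) (N (N (N (N (L 47) (L 213295)) (N (L 247) (L 213495))) (N (N (L 155) (L 213403)) (N (L 67) (L 213315)))) (N (N (N (L 8363) (L 221611)) (N (L 8307) (L 221555))) (N (N (L 8223) (L 221471)) (N (L 8391) (L 221639)))))) (N (N (N (N (N (L 12499) (L 225747)) (N (L 12299) (L 225547))) (N (N (L 12391) (L 225639)) (N (L 12479) (L 225727)))) (N (N (N (L 4183) (L 217431)) (N (L 4239) (L 217487))) (N (N (L 4323) (L 217571)) (N (L 4155) (L 217403))))) (N (N (N (N (L 8351) (L 221599))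 (N (L 8263) (L 221511))) (N (N (L 8235) (L 221483)) (N (L 8435) (L 221683)))) (N (N (N (L 27) (L 213275)) (N (L 195) (L 213443))) (N (N (L 175) (L 213423)) (N (L 119) (L 213367))))))))))

def autHi1 : Tr :=
  (N (N (N (N (N (N (N (N (N (L 0) (L 133888)) (N (L 67072) (L 199936))) (N (N (L 51968) (L 180224)) (N (L 118016) (L 247296)))) (N (N (N (L 34304) (L 167168)) (N (L 98304) (L 232192))) (N (N (L 19712) (L 148992)) (N (L 84736) (L 212992))))) (N (N (N (N (L 4140) (L 138028)) (N (L 71212) (L 204076))) (N (N (L 56108) (L 184364)) (N (L 122156) (L 251436)))) (N (N (N (L 38444) (L 171308)) (N (L 102444) (L 236332))) (N (N (L 23852) (L 153132)) (N (L 88876) (L 217132)))))) (N (N (N (N (N (L 12312) (L 146200)) (N (L 79384) (L 212248))) (N (N (L 64280) (L 192536)) (N (L 130328) (L 259608)))) (N (N (N (L 46616) (L 179480)) (N (L 110616) (L 244504))) (N (N (L 32024) (L 161304)) (N (L 97048) (L 225304))))) (N (N (N (N (L 8244) (L 142132)) (N (L 75316) (L 208180))) (N (N (L 60212) (L 188468))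 (N (L 126260) (L 255540)))) (N (N (N (L 42548) (L 175412)) (N (L 106548) (L 240436))) (N (N (L 27956) (L 157236)) (N (L 92980) (L 221236))))))) (N (N (N (N (N (N (L 99328) (L 233216)) (N (L 33280) (L 166144))) (N (N (L 85760) (L 214016)) (N (L 18688) (L 147968)))) (N (N (N (L 66048) (L 198912)) (N (L 1024) (L 134912))) (N (N (L 116992) (L 246272)) (N (L 52992) (L 181248))))) (N (N (N (N (L 103468) (L 237356)) (N (L 37420) (L 170284))) (N (N (L 89900) (L 218156)) (N (L 22828) (L 152108)))) (N (N (N (L 70188) (L 203052)) (N (L 5164) (L 139052))) (N (N (L 121132) (L 250412)) (N (L 57132) (L 185388)))))) (N (N (N (N (N (L 111640) (L 245528)) (N (L 45592) (L 178456))) (N (N (L 98072) (L 226328)) (N (L 31000) (L 160280)))) (N (N (N (L 78360) (L 211224)) (N (L 13336) (L 147224))) (N (N (L 129304) (L 258584)) (N (L 65304) (L 193560))))) (N (N (N (N (L 107572) (L 241460)) (N (L 41524) (L 174388))) (N (N (L 94004) (L 222260)) (N (L 26932) (L 156212)))) (N (N (N (L 74292) (L 207156)) (N (L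 9268) (L 143156))) (N (N (L 125236) (L 254516)) (N (L 61236) (L 189492)))))))) (N (N (N (N (N (N (N (L 216064) (L 83712)) (N (L 150016) (L 16640))) (N (N (L 231168) (L 101376)) (N (L 164096) (L 35328)))) (N (N (N (L 248320) (L 114944)) (N (L 183296) (L 50944))) (N (N (L 196864) (L 68096)) (N (L 132864) (L 3072))))) (N (N (N (N (L 220204) (L 87852)) (N (L 154156) (L 20780))) (N (N (L 235308) (L 105516)) (N (L 168236) (L 39468)))) (N (N (N (L 252460) (L 119084)) (N (L 187436) (L 55084))) (N (N (L 201004) (L 72236)) (N (L 137004) (L 7212)))))) (N (N (N (N (N (L 228376) (L 96024)) (N (L 162328) (L 28952))) (N (N (L 243480) (L 113688)) (N (L 176408) (L 47640)))) (N (N (N (L 260632) (L 127256)) (N (L 195608) (L 63256))) (N (N (L 209176) (L 80408)) (N (L 145176) (L 15384))))) (N (N (N (N (L 224308) (L 91956)) (N (L 158260) (L 24884))) (N (N (L 239412) (L 109620)) (N (L 172340) (L 43572)))) (N (N (N (L 256564) (L 123188)) (N (L 191540) (L 59188))) (N (N (L 205108) (L 76340)) (N (L 141108)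 (L 11316))))))) (N (N (N (N (N (N (L 182272) (L 49920)) (N (L 249344) (L 115968))) (N (N (L 131840) (L 2048)) (N (L 197888) (L 69120)))) (N (N (N (L 151040) (L 17664)) (N (L 215040) (L 82688))) (N (N (L 165120) (L 36352)) (N (L 230144) (L 100352))))) (N (N (N (N (L 186412) (L 54060)) (N (L 253484) (L 120108))) (N (N (L 135980) (L 6188)) (N (L 202028) (L 73260)))) (N (N (N (L 155180) (L 21804)) (N (L 219180) (L 86828))) (N (N (L 169260) (L 40492)) (N (L 234284) (L 104492)))))) (N (N (N (N (N (L 194584) (L 62232)) (N (L 261656) (L 128280))) (N (N (L 144152) (L 14360)) (N (L 210200) (L 81432)))) (N (N (N (L 163352) (L 29976)) (N (L 227352) (L 95000))) (N (N (L 177432) (L 48664)) (N (L 242456) (L 112664))))) (N (N (N (N (L 190516) (L 58164)) (N (L 257588) (L 124212))) (N (N (L 140084) (L 10292)) (N (L 206132) (L 77364)))) (N (N (N (L 159284) (L 25908)) (N (L 223284) (L 90932))) (N (N (L 173364) (L 44596)) (N (L 238388) (L 108596))))))))) (N (N (N (N (N (N (N (N (L 98816) (L 231680))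 (N (L 33792) (L 167680))) (N (N (L 84224) (L 213504)) (N (L 20224) (L 148480)))) (N (N (N (L 66560) (L 200448)) (N (L 512) (L 133376))) (N (N (L 118528) (L 246784)) (N (L 51456) (L 180736))))) (N (N (N (N (L 102956) (L 235820)) (N (L 37932) (L 171820))) (N (N (L 88364) (L 217644)) (N (L 24364) (L 152620)))) (N (N (N (L 70700) (L 204588)) (N (L 4652) (L 137516))) (N (N (L 122668) (L 250924)) (N (L 55596) (L 184876)))))) (N (N (N (N (N (L 111128) (L 243992)) (N (L 46104) (L 179992))) (N (N (L 96536) (L 225816)) (N (L 32536) (L 160792)))) (N (N (N (L 78872) (L 212760)) (N (L 12824) (L 145688))) (N (N (L 130840) (L 259096)) (N (L 63768) (L 193048))))) (N (N (N (N (L 107060) (L 239924)) (N (L 42036) (L 175924))) (N (N (L 92468) (L 221748)) (N (L 28468) (L 156724)))) (N (N (N (L 74804) (L 208692)) (N (L 8756) (L 141620))) (N (N (L 126772) (L 255028)) (N (L 59700) (L 188980))))))) (N (N (N (N (N (N (L 1536) (L 134400)) (N (L 65536) (L 199424))) (N (N (L 52480) (L 181760)) (N (L 117504)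 (L 245760)))) (N (N (N (L 32768) (L 166656)) (N (L 99840) (L 232704))) (N (N (L 19200) (L 147456)) (N (L 85248) (L 214528))))) (N (N (N (N (L 5676) (L 138540)) (N (L 69676) (L 203564))) (N (N (L 56620) (L 185900)) (N (L 121644) (L 249900)))) (N (N (N (L 36908) (L 170796)) (N (L 103980) (L 236844))) (N (N (L 23340) (L 151596)) (N (L 89388) (L 218668)))))) (N (N (N (N (N (L 13848) (L 146712)) (N (L 77848) (L 211736))) (N (N (L 64792) (L 194072)) (N (L 129816) (L 258072)))) (N (N (N (L 45080) (L 178968)) (N (L 112152) (L 245016))) (N (N (L 31512) (L 159768)) (N (L 97560) (L 226840))))) (N (N (N (N (L 9780) (L 142644)) (N (L 73780) (L 207668))) (N (N (L 60724) (L 190004)) (N (L 125748) (L 254004)))) (N (N (N (L 41012) (L 174900)) (N (L 108084) (L 240948))) (N (N (L 27444) (L 155700)) (N (L 93492) (L 222772)))))))) (N (N (N (N (N (N (N (L 183808) (L 50432)) (N (L 247808) (L 115456))) (N (N (L 132352) (L 3584)) (N (L 197376) (L 67584)))) (N (N (N (L 149504) (L 17152)) (N (L 216576) (L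 83200))) (N (N (L 164608) (L 34816)) (N (L 230656) (L 101888))))) (N (N (N (N (L 187948) (L 54572)) (N (L 251948) (L 119596))) (N (N (L 136492) (L 7724)) (N (L 201516) (L 71724)))) (N (N (N (L 153644) (L 21292)) (N (L 220716) (L 87340))) (N (N (L 168748) (L 38956)) (N (L 234796) (L 106028)))))) (N (N (N (N (N (L 196120) (L 62744)) (N (L 260120) (L 127768))) (N (N (L 144664) (L 15896)) (N (L 209688) (L 79896)))) (N (N (N (L 161816) (L 29464)) (N (L 228888) (L 95512))) (N (N (L 176920) (L 47128)) (N (L 242968) (L 114200))))) (N (N (N (N (L 192052) (L 58676)) (N (L 256052) (L 123700))) (N (N (L 140596) (L 11828)) (N (L 205620) (L 75828)))) (N (N (N (L 157748) (L 25396)) (N (L 224820) (L 91444))) (N (N (L 172852) (L 43060)) (N (L 238900) (L 110132))))))) (N (N (N (N (N (N (L 215552) (L 82176)) (N (L 150528) (L 18176))) (N (N (L 229632) (L 100864)) (N (L 165632) (L 35840)))) (N (N (N (L 248832) (L 116480)) (N (L 182784) (L 49408))) (N (N (L 198400) (L 68608)) (N (L 131328) (L 2560)))))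 (N (N (N (N (L 219692) (L 86316)) (N (L 154668) (L 22316))) (N (N (L 233772) (L 105004)) (N (L 169772) (L 39980)))) (N (N (N (L 252972) (L 120620)) (N (L 186924) (L 53548))) (N (N (L 202540) (L 72748)) (N (L 135468) (L 6700)))))) (N (N (N (N (N (L 227864) (L 94488)) (N (L 162840) (L 30488))) (N (N (L 241944) (L 113176)) (N (L 177944) (L 48152)))) (N (N (N (L 261144) (L 128792)) (N (L 195096) (L 61720))) (N (N (L 210712) (L 80920)) (N (L 143640) (L 14872))))) (N (N (N (N (L 223796) (L 90420)) (N (L 158772) (L 26420))) (N (N (L 237876) (L 109108)) (N (L 173876) (L 44084)))) (N (N (N (L 257076) (L 124724)) (N (L 191028) (L 57652))) (N (N (L 206644) (L 76852)) (N (L 139572) (L 10804))))))))))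

def autLo2 : Tr :=
  (N (N (N (N (N (N (N (N (N (L 0) (L 153816)) (N (L 61650) (L 174090))) (N (N (L 41137) (L 194665)) (N (L 20579) (L 133307)))) (N (N (N (L 126796) (L 243604)) (N (L 73630) (L 214854))) (N (N (L 86013) (L 202533)) (N (L 114479) (L 255991))))) (N (N (N (N (L 236232) (L 115216)) (N (L 223770) (L 78530))) (N (N (L 211577) (L 90785)) (N (L 248491) (L 103027)))) (N (N (N (L 161156) (L 11612)) (N (L 165206) (L 56718))) (N (N (L 185653) (L 36333)) (N (L 140775) (L 32063)))))) (N (N (N (N (N (L 248653) (L 103317)) (N (L 211871) (L 90951))) (N (N (L 224252) (L 78628)) (N (L 236334) (L 115702)))) (N (N (N (L 140289) (L 31961)) (N (L 185555) (L 35851))) (N (N (L 165040) (L 56424)) (N (L 160866) (L 11450))))) (N (N (N (N (L 20869) (L 133469)) (N (L 41303) (L 194959))) (N (N (L 61748) (L 174572)) (N (L 486) (L 153918)))) (N (N (N (L 114377) (L 255505)) (N (L 85531) (L 202435))) (N (N (L 73336) (L 214688)) (N (L 126634) (L 243314))))))) (N (N (N (N (N (N (L 165579) (L 56851))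 (N (L 161305) (L 11969))) (N (N (L 140922) (L 32418)) (N (L 186024) (L 36464)))) (N (N (N (L 223623) (L 78175)) (N (L 235861) (L 115085))) (N (N (L 248118) (L 102894)) (N (L 211428) (L 90428))))) (N (N (N (N (L 72707) (L 214235)) (N (L 126161) (L 242697))) (N (N (L 113842) (L 255082)) (N (L 85088) (L 201912)))) (N (N (N (L 62287) (L 174999)) (N (L 925) (L 154437))) (N (N (L 21502) (L 133926)) (N (L 41772) (L 195572)))))) (N (N (N (N (N (L 85382) (L 202078)) (N (L 114004) (L 255372))) (N (N (L 126263) (L 243183)) (N (L 73189) (L 214333)))) (N (N (N (L 41674) (L 195090)) (N (L 21016) (L 133824))) (N (N (L 635) (L 154275)) (N (L 62121) (L 174705))))) (N (N (N (N (L 186190) (L 36758)) (N (L 141212) (L 32580))) (N (N (L 161791) (L 12071)) (N (L 165677) (L 57333)))) (N (N (N (L 210946) (L 90330)) (N (L 248016) (L 102408))) (N (N (L 235699) (L 114795)) (N (L 223329) (L 78009)))))))) (N (N (N (N (N (N (N (L 45118) (L 190694)) (N (L 16620) (L 137268))) (N (N (L 4239) (L 149591)) (N (L 57437)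 (L 178309)))) (N (N (N (L 89970) (L 198570)) (N (L 110496) (L 259960))) (N (N (L 131011) (L 239387)) (N (L 69393) (L 219081))))) (N (N (N (N (L 207606) (L 94766)) (N (L 252452) (L 99068))) (N (N (L 232007) (L 119455)) (N (L 227989) (L 74317)))) (N (N (N (L 181690) (L 40290)) (N (L 144744) (L 28080))) (N (N (L 156939) (L 15827)) (N (L 169433) (L 52481)))))) (N (N (N (N (N (L 228211) (L 74667)) (N (L 232353) (L 119673))) (N (N (L 252866) (L 99098)) (N (L 207632) (L 95176)))) (N (N (N (L 169023) (L 52455)) (N (L 156909) (L 15413))) (N (N (L 144526) (L 27734)) (N (L 181340) (L 40068))))) (N (N (N (N (L 57787) (L 178531)) (N (L 4457) (L 149937))) (N (N (L 16650) (L 137682)) (N (L 45528) (L 190720)))) (N (N (N (L 69367) (L 218671)) (N (L 130597) (L 239357))) (N (N (L 110150) (L 259742)) (N (L 89748) (L 198220))))))) (N (N (N (N (N (N (L 145141) (L 28205)) (N (L 181799) (L 40703))) (N (N (L 169540) (L 52892)) (N (L 157334) (L 15950)))) (N (N (N (L 252345) (L 98657)) (N (L 207211) (L 94643)))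 (N (N (L 227592) (L 74192)) (N (L 231898) (L 119042))))) (N (N (N (N (L 109629) (L 259301)) (N (L 89327) (L 197687))) (N (N (L 68748) (L 218196)) (N (L 130142) (L 238726)))) (N (N (N (L 17265) (L 138153)) (N (L 45987) (L 191355))) (N (N (L 58304) (L 178968)) (N (L 4882) (L 150474)))))) (N (N (N (N (N (L 130488) (L 238944)) (N (L 68970) (L 218546))) (N (N (L 89353) (L 198097)) (N (L 110043) (L 259331)))) (N (N (N (L 4852) (L 150060)) (N (L 57894) (L 178942))) (N (N (L 45637) (L 191133)) (N (L 17047) (L 137807))))) (N (N (N (N (L 157552) (L 16296)) (N (L 169890) (L 53114))) (N (N (L 182209) (L 40729)) (N (L 145171) (L 28619)))) (N (N (N (L 231484) (L 119012)) (N (L 227566) (L 73782))) (N (N (L 206989) (L 94293)) (N (L 251999) (L 98439))))))))) (N (N (N (N (N (N (N (N (L 24617) (L 145649)) (N (L 37115) (L 182307))) (N (N (L 49304) (L 170048)) (N (L 12362) (L 157842)))) (N (N (N (L 102245) (L 251837)) (N (L 98231) (L 206703))) (N (N (L 77780) (L 227084)) (N (L 122630) (L 231390)))))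 (N (N (N (N (L 260833) (L 107065)) (N (L 199219) (L 86763))) (N (N (L 219728) (L 66184)) (N (L 240258) (L 127578)))) (N (N (N (L 136621) (L 19829)) (N (L 189823) (L 48551))) (N (N (L 177436) (L 60868)) (N (L 148942) (L 7446)))))) (N (N (N (N (N (L 240484) (L 127932)) (N (L 220086) (L 66414))) (N (N (L 199637) (L 86797)) (N (L 260871) (L 107487)))) (N (N (N (L 148520) (L 7408)) (N (L 177402) (L 60450))) (N (N (L 189593) (L 48193)) (N (L 136267) (L 19603))))) (N (N (N (N (L 12716) (L 158068)) (N (L 49534) (L 170406))) (N (N (L 37149) (L 182725)) (N (L 25039) (L 145687)))) (N (N (N (L 122592) (L 230968)) (N (L 77362) (L 227050))) (N (N (L 97873) (L 206473)) (N (L 102019) (L 251483))))))) (N (N (N (N (N (N (L 190178) (L 48698)) (N (L 136752) (L 20200))) (N (N (L 149075) (L 7819)) (N (L 177793) (L 61017)))) (N (N (N (L 199086) (L 86390)) (N (L 260476) (L 106916))) (N (N (L 239903) (L 127431)) (N (L 219597) (L 65813))))) (N (N (N (N (L 97322) (L 206066)) (N (L 101624) (L 250912))) (N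 (N (L 122011) (L 230467)) (N (L 76873) (L 226449)))) (N (N (N (L 37734) (L 183230)) (N (L 25524) (L 146284))) (N (N (L 13271) (L 158479)) (N (L 49925) (L 170973)))))) (N (N (N (N (N (L 77231) (L 226679)) (N (L 122237) (L 230821))) (N (N (L 101662) (L 251334)) (N (L 97740) (L 206100)))) (N (N (N (L 49891) (L 170555)) (N (L 12849) (L 158441))) (N (N (L 25170) (L 146058)) (N (L 37504) (L 182872))))) (N (N (N (N (L 178023) (L 61375)) (N (L 149429) (L 8045))) (N (N (L 137174) (L 20238)) (N (L 190212) (L 49116)))) (N (N (N (L 219179) (L 65779)) (N (L 239865) (L 127009))) (N (N (L 260250) (L 106562)) (N (L 198728) (L 86160)))))))) (N (N (N (N (N (N (N (L 53271) (L 166095)) (N (L 8389) (L 161821))) (N (N (L 28838) (L 141438)) (N (L 32884) (L 186540)))) (N (N (N (L 81755) (L 223107)) (N (L 118665) (L 235345))) (N (N (L 106474) (L 247602)) (N (L 94008) (L 210912))))) (N (N (N (N (L 215775) (L 70151)) (N (L 244237) (L 123605))) (N (N (L 256622) (L 111286)) (N (L 203452) (L 82532)))) (N (N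 (N (L 173459) (L 64843)) (N (L 152897) (L 3481))) (N (N (L 132386) (L 24058)) (N (L 194032) (L 44328)))))) (N (N (N (N (N (L 203610) (L 82818)) (N (L 256904) (L 111440))) (N (N (L 244715) (L 123699)) (N (L 215865) (L 70625)))) (N (N (N (L 193558) (L 44238)) (N (L 132292) (L 23580))) (N (N (L 152743) (L 3199)) (N (L 173173) (L 64685))))) (N (N (N (N (L 33170) (L 186698)) (N (L 28992) (L 141720))) (N (N (L 8483) (L 162299)) (N (L 53745) (L 166185)))) (N (N (N (L 93918) (L 210438)) (N (L 105996) (L 247508))) (N (N (L 118383) (L 235191)) (N (L 81597) (L 222821))))))) (N (N (N (N (N (N (L 153308) (L 3588)) (N (L 173582) (L 65238))) (N (N (L 194157) (L 44725)) (N (L 132799) (L 24167)))) (N (N (N (L 244112) (L 123208)) (N (L 215362) (L 70042))) (N (N (L 203041) (L 82425)) (N (L 256499) (L 110891))))) (N (N (N (N (L 117780) (L 234700)) (N (L 81094) (L 222238))) (N (N (L 93349) (L 210045)) (N (L 105591) (L 246959)))) (N (N (N (L 9048) (L 162688)) (N (L 54154) (L 166738))) (N (N (L 33769)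 (L 187185)) (N (L 29499) (L 142307)))))) (N (N (N (N (N (L 105873) (L 247113)) (N (L 93507) (L 210331))) (N (N (L 81184) (L 222712)) (N (L 118258) (L 234794)))) (N (N (N (L 29405) (L 141829)) (N (L 33295) (L 187095))) (N (N (L 53868) (L 166580)) (N (L 8894) (L 162406))))) (N (N (N (N (L 132953) (L 24449)) (N (L 194443) (L 44883))) (N (N (L 174056) (L 65328)) (N (L 153402) (L 4066)))) (N (N (N (L 256021) (L 110797)) (N (L 202951) (L 81951))) (N (N (L 215204) (L 69756)) (N (L 243830) (L 123054))))))))))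

def autHi2 : Tr :=
  (N (N (N (N (N (N (N (N (N (L 0) (L 44150)) (N (L 22765) (L 62619))) (N (N (L 190125) (L 150235)) (N (L 179776) (L 135734)))) (N (N (N (L 105819) (L 78125)) (N (L 116150) (L 92608))) (N (N (L 228342) (L 251776)) (N (L 205595) (L 233325))))) (N (N (N (N (L 150842) (L 188748)) (N (L 136663) (L 178593))) (N (N (L 43927) (L 2017)) (N (L 62330) (L 24332)))) (N (N (N (L 249953) (L 228375)) (N (L 231564) (L 206074))) (N (N (L 79564) (L 105146)) (N (L 93729) (L 115287)))))) (N (N (N (N (N (L 117541) (L 91987)) (N (L 103368) (L 81854))) (N (N (L 208264) (L 229886)) (N (L 226661) (L 252179)))) (N (N (N (L 22142) (L 64008)) (N (L 3731) (L 41701))) (N (N (L 176339) (L 138405)) (N (L 190526) (L 148552))))) (N (N (N (N (L 230943) (L 207465)) (N (L 253682) (L 225924))) (N (N (L 90290) (L 117956)) (N (L 79967) (L 103465)))) (N (N (N (L 138052) (L 177970)) (N (L 148393) (L 192479))) (N (N (L 65001) (L 20895)) (N (L 42244) (L 2418))))))) (N (N (N (N (N (N (L 38866) (L 15268))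 (N (L 53055) (L 25417))) (N (N (L 160127) (L 187657)) (N (L 141714) (L 165348)))) (N (N (N (L 68233) (L 108287)) (N (L 86628) (L 130578))) (N (N (L 257060) (L 213074)) (N (L 242889) (L 202943))))) (N (N (N (N (L 187112) (L 161438)) (N (L 164357) (L 142963))) (N (N (L 15429) (L 36915)) (N (L 25768) (L 51422)))) (N (N (N (L 214963) (L 256965)) (N (L 204638) (L 242472))) (N (N (L 106782) (L 68968)) (N (L 129523) (L 87429)))))) (N (N (N (N (N (L 89335) (L 127105)) (N (L 66586) (L 108652))) (N (N (L 244314) (L 202284)) (N (L 254647) (L 216769)))) (N (N (N (L 49580) (L 28122)) (N (L 39233) (L 13623))) (N (N (L 141057) (L 166775)) (N (L 163820) (L 185242))))) (N (N (N (N (L 201165) (L 245179)) (N (L 215328) (L 255318))) (N (N (L 128864) (L 88854)) (N (L 110477) (L 66555)))) (N (N (N (L 167062) (L 139488)) (N (L 185467) (L 161805))) (N (N (L 27195) (L 50765)) (N (L 13014) (L 40608)))))))) (N (N (N (N (N (N (N (L 32433) (L 53959)) (N (L 9820) (L 35370))) (N (N (L 170012) (L 144490)) (N (L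 180465) (L 158855)))) (N (N (N (L 123882) (L 85916)) (N (L 113415) (L 71537))) (N (N (L 197959) (L 239921)) (N (L 220586) (L 258524))))) (N (N (N (N (L 144267) (L 172029)) (N (L 158566) (L 182032))) (N (N (L 54566) (L 31056)) (N (L 36299) (L 8637)))) (N (N (N (L 241360) (L 197286)) (N (L 259645) (L 219723))) (N (N (L 84093) (L 123915)) (N (L 69776) (L 113894)))))) (N (N (N (N (N (L 112020) (L 72162)) (N (L 126329) (L 82191))) (N (N (L 217913) (L 261967)) (N (L 199636) (L 239522)))) (N (N (N (L 10447) (L 33977)) (N (L 28706) (L 56404))) (N (N (L 183906) (L 156180)) (N (L 169615) (L 146169))))) (N (N (N (N (L 260270) (L 218328)) (N (L 237635) (L 199733))) (N (N (L 73219) (L 111221)) (N (L 83694) (L 125592)))) (N (N (N (L 157173) (L 182659)) (N (L 146712) (L 168302))) (N (N (L 33624) (L 12078)) (N (L 56245) (L 30659))))))) (N (N (N (N (N (N (L 59747) (L 17685)) (N (L 45454) (L 7672))) (N (N (L 135118) (L 172984)) (N (L 153379) (L 195413)))) (N (N (N (L 95288) (L 120910)) (N (L 77013)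 (L 98467))) (N (N (L 234133) (L 212707)) (N (L 248440) (L 222734))))) (N (N (N (N (L 173145) (L 133167)) (N (L 195764) (L 151746))) (N (N (L 17140) (L 61058)) (N (L 6681) (L 46703)))) (N (N (N (L 211202) (L 234868)) (N (L 221679) (L 249241))) (N (N (L 122799) (L 95193)) (N (L 100162) (L 76596)))))) (N (N (N (N (N (L 74310) (L 101936)) (N (L 96939) (L 120541))) (N (N (L 247019) (L 223389)) (N (L 236550) (L 209008)))) (N (N (N (L 48925) (L 4971)) (N (L 59376) (L 19334))) (N (N (L 154032) (L 193990)) (N (L 131421) (L 175403))))) (N (N (N (N (L 225148) (L 246538)) (N (L 210833) (L 236519))) (N (N (L 100817) (L 75175)) (N (L 119100) (L 97610)))) (N (N (N (L 193063) (L 155217)) (N (L 174794) (L 132796))) (N (N (L 5258) (L 47356)) (N (L 19559) (L 57361))))))))) (N (N (N (N (N (N (N (N (L 240748) (L 196634)) (N (L 259201) (L 219383))) (N (N (L 84673) (L 124599)) (N (L 70188) (L 114266)))) (N (N (N (L 143671) (L 171329)) (N (L 158170) (L 181676))) (N (N (L 55194) (L 31724)) (N (L 36727)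 (L 8961))))) (N (N (N (N (L 123222) (L 85280)) (N (L 113083) (L 71117))) (N (N (L 198651) (L 240525)) (N (L 220950) (L 258912)))) (N (N (N (L 31757) (L 53371)) (N (L 9440) (L 34966))) (N (N (L 170656) (L 145110)) (N (L 180813) (L 159291)))))) (N (N (N (N (N (L 157513) (L 183103)) (N (L 147364) (L 168914))) (N (N (L 33252) (L 11666)) (N (L 55561) (L 30079)))) (N (N (N (L 260626) (L 218724)) (N (L 238335) (L 200329))) (N (N (L 72895) (L 110793)) (N (L 83026) (L 124964))))) (N (N (N (N (L 10867) (L 34309)) (N (L 29342) (L 57064))) (N (N (L 183518) (L 155816)) (N (L 169011) (L 145477)))) (N (N (N (L 112424) (L 72542)) (N (L 126917) (L 82867))) (N (N (L 217477) (L 261619)) (N (L 199016) (L 238878))))))) (N (N (N (N (N (N (L 211902) (L 235464)) (N (L 222035) (L 249637))) (N (N (L 122131) (L 94565)) (N (L 99838) (L 76168)))) (N (N (N (L 173797) (L 133779)) (N (L 196104) (L 152190))) (N (N (L 16456) (L 60478)) (N (L 6309) (L 46291))))) (N (N (N (N (L 95876) (L 121586)) (N (L 77417) (L 98847)))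 (N (N (L 233513) (L 212063)) (N (L 248004) (L 222386)))) (N (N (N (L 60383) (L 18345)) (N (L 45874) (L 8004))) (N (N (L 134514) (L 172292)) (N (L 152991) (L 195049)))))) (N (N (N (N (N (L 192667) (L 154861)) (N (L 174198) (L 132096))) (N (N (L 5686) (L 47680)) (N (L 20187) (L 58029)))) (N (N (N (L 224704) (L 246198)) (N (L 210221) (L 235867))) (N (N (L 101229) (L 75547)) (N (L 119680) (L 98294))))) (N (N (N (N (L 48545) (L 4567)) (N (L 58700) (L 18746))) (N (N (L 154380) (L 194426)) (N (L 132065) (L 176023)))) (N (N (N (L 73978) (L 101516)) (N (L 96279) (L 119905))) (N (N (L 247383) (L 223777)) (N (L 237242) (L 209612)))))))) (N (N (N (N (N (N (N (L 250589) (L 229035)) (N (L 231984) (L 206406))) (N (N (L 78960) (L 104454)) (N (L 93341) (L 114923)))) (N (N (N (L 151430) (L 189424)) (N (L 137067) (L 178973))) (N (N (L 43307) (L 1373)) (N (L 61894) (L 23984))))) (N (N (N (N (L 106471) (L 78737)) (N (L 116490) (L 93052))) (N (N (L 227658) (L 251196)) (N (L 205223) (L 232913)))) (N (N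 (N (L 700) (L 44746)) (N (L 23121) (L 63015))) (N (N (L 189457) (L 149607)) (N (L 179452) (L 135306)))))) (N (N (N (N (N (L 137720) (L 177550)) (N (L 147733) (L 191843))) (N (N (L 65365) (L 21283)) (N (L 42936) (L 3022)))) (N (N (N (L 230563) (L 207061)) (N (L 253006) (L 225336))) (N (N (L 90638) (L 118392)) (N (L 80611) (L 104085))))) (N (N (N (N (L 21698) (L 63668)) (N (L 3119) (L 41049))) (N (N (L 176751) (L 138777)) (N (L 191106) (L 149236)))) (N (N (N (L 117145) (L 91631)) (N (L 102772) (L 81154))) (N (N (L 208692) (L 230210)) (N (L 227289) (L 252847))))))) (N (N (N (N (N (N (L 214287) (L 256377)) (N (L 204258) (L 242068))) (N (N (L 107426) (L 69588)) (N (L 129871) (L 87865)))) (N (N (N (L 186452) (L 160802)) (N (L 164025) (L 142543))) (N (N (L 16121) (L 37519)) (N (L 26132) (L 51810))))) (N (N (N (N (L 67637) (L 107587)) (N (L 86232) (L 130222))) (N (N (L 257688) (L 213742)) (N (L 243317) (L 203267)))) (N (N (N (L 38254) (L 14616)) (N (L 52611) (L 25077))) (N (N (L 160707)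 (L 188341)) (N (L 142126) (L 165720)))))) (N (N (N (N (N (L 167466) (L 139868)) (N (L 186055) (L 162481))) (N (N (L 26759) (L 50417)) (N (L 12394) (L 39964)))) (N (N (N (L 201585) (L 245511)) (N (L 215964) (L 255978))) (N (N (L 128476) (L 88490)) (N (L 109873) (L 65863))))) (N (N (N (N (L 49936) (L 28518)) (N (L 39933) (L 14219))) (N (N (L 140733) (L 166347)) (N (L 163152) (L 184614)))) (N (N (N (L 89675) (L 127549)) (N (L 67238) (L 109264))) (N (N (L 243942) (L 201872)) (N (L 253963) (L 216189))))))))))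

def autLo3 : Tr :=
  (N (N (N (N (N (N (N (N (N (L 0) (L 23245)) (N (L 114525) (L 124304))) (N (N (L 223995) (L 208950)) (N (L 185766) (L 167787)))) (N (N (N (L 214752) (L 203821)) (N (L 195005) (L 172912))) (N (N (L 11291) (L 30422)) (N (L 103238) (L 117131))))) (N (N (N (N (L 183696) (L 169821)) (N (L 225997) (L 206848))) (N (N (L 108395) (L 130470)) (N (L 6198) (L 17147)))) (N (N (N (L 101232) (L 119229)) (N (L 13357) (L 28384))) (N (N (L 188811) (L 179014)) (N (L 220886) (L 197659)))))) (N (N (N (N (N (L 181078) (L 170395)) (N (L 228363) (L 206534))) (N (N (L 108973) (L 127840)) (N (L 5872) (L 19517)))) (N (N (N (L 99766) (L 122747)) (N (L 15083) (L 24614))) (N (N (L 192333) (L 177536)) (N (L 217104) (L 199389))))) (N (N (N (N (L 3782) (L 21515)) (N (L 111003) (L 125782))) (N (N (L 222269) (L 212720)) (N (L 187232) (L 164269)))) (N (N (N (L 215078) (L 201451)) (N (L 194427) (L 175542))) (N (N (L 8925) (L 30736)) (N (L 105856) (L 116557))))))) (N (N (N (N (N (N (L 99069) (L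 120880)) (N (L 15776) (L 26477))) (N (N (L 190470) (L 176843)) (N (L 218971) (L 200086)))) (N (N (N (L 181277) (L 171728)) (N (L 228160) (L 205197))) (N (N (L 110310) (L 128043)) (N (L 4539) (L 19318))))) (N (N (N (N (L 216941) (L 202144)) (N (L 192560) (L 174845))) (N (N (L 9622) (L 32603)) (N (L 105163) (L 114694)))) (N (N (N (L 2445) (L 21312)) (N (L 112336) (L 125981))) (N (N (L 222070) (L 211387)) (N (L 187435) (L 165606)))))) (N (N (N (N (N (L 213419) (L 203622)) (N (L 196342) (L 173115))) (N (N (L 11088) (L 29085)) (N (L 103437) (L 118464)))) (N (N (N (L 1867) (L 23942)) (N (L 112662) (L 123611))) (N (N (L 224688) (L 210813)) (N (L 185069) (L 165920))))) (N (N (N (N (L 101435) (L 120566)) (N (L 13158) (L 27051))) (N (N (L 190144) (L 179213)) (N (L 219549) (L 197456)))) (N (N (N (L 183003) (L 167958)) (N (L 226694) (L 208715))) (N (N (L 106528) (L 129773)) (N (L 8061) (L 17840)))))))) (N (N (N (N (N (N (N (L 42149) (L 65128)) (N (L 72696) (L 82229))) (N (N (L 249438) (L 234643))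 (N (L 160003) (L 142286)))) (N (N (N (L 254533) (L 243848)) (N (L 154904) (L 133077))) (N (N (L 35006) (L 53875)) (N (L 79843) (L 93486))))) (N (N (N (N (L 158005) (L 144376)) (N (L 251496) (L 232613))) (N (N (L 66510) (L 88323)) (N (L 48275) (L 58974)))) (N (N (N (L 77781) (L 95512)) (N (L 37000) (L 51781))) (N (N (L 148782) (L 139235)) (N (L 260723) (L 237758)))))) (N (N (N (N (N (L 157683) (L 146750)) (N (L 252078) (L 229987))) (N (N (L 68872) (L 88005)) (N (L 45653) (L 59544)))) (N (N (N (L 74003) (L 97246)) (N (L 40526) (L 50307))) (N (N (L 150504) (L 135461)) (N (L 259253) (L 241272))))) (N (N (N (N (L 43619) (L 61614)) (N (L 70974) (L 86003))) (N (N (L 245912) (L 236117)) (N (L 163781) (L 140552)))) (N (N (N (L 257155) (L 243278)) (N (L 152542) (L 133395))) (N (N (L 34424) (L 56501)) (N (L 80165) (L 91112))))))) (N (N (N (N (N (N (L 75352) (L 97429)) (N (L 39173) (L 50120))) (N (N (L 150691) (L 136814)) (N (L 259070) (L 239923)))) (N (N (N (L 155832) (L 146037)) (N (L 253925)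 (L 230696))) (N (N (L 68163) (L 86158)) (N (L 46366) (L 61395))))) (N (N (N (N (L 256968) (L 241925)) (N (L 152725) (L 134744))) (N (N (L 33075) (L 56318)) (N (L 81518) (L 91299)))) (N (N (N (L 44328) (L 63461)) (N (L 70261) (L 84152))) (N (N (L 247763) (L 236830)) (N (L 161934) (L 139843)))))) (N (N (N (N (N (L 255246) (L 245699)) (N (L 154195) (L 131230))) (N (N (L 36853) (L 54584)) (N (L 77992) (L 92773)))) (N (N (N (L 41966) (L 63779)) (N (L 72883) (L 83582))) (N (N (L 248085) (L 234456)) (N (L 161352) (L 142469))))) (N (N (N (N (L 75934) (L 94803)) (N (L 38851) (L 52494))) (N (N (L 148069) (L 137384)) (N (L 261432) (L 239605)))) (N (N (N (L 159358) (L 144563)) (N (L 250147) (L 232430))) (N (N (L 66693) (L 89672)) (N (L 48088) (L 57621))))))))) (N (N (N (N (N (N (N (N (L 23647) (L 1682)) (N (L 123650) (L 113103))) (N (N (L 210596) (L 224361)) (N (L 166393) (L 185140)))) (N (N (N (L 203455) (L 213106)) (N (L 173538) (L 196399))) (N (N (L 28740) (L 10889)) (N (L 118553) (L 103892)))))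 (N (N (N (N (L 168399) (L 183042)) (N (L 208530) (L 226399))) (N (N (L 129844) (L 107001)) (N (L 17513) (L 7844)))) (N (N (N (L 120623) (L 101858)) (N (L 26738) (L 12991))) (N (N (L 179668) (L 190233)) (N (L 197257) (L 219204)))))) (N (N (N (N (N (L 171785) (L 181700)) (N (L 204884) (L 227993))) (N (N (L 128498) (L 110399)) (N (L 19119) (L 4194)))) (N (N (N (L 121321) (L 99108)) (N (L 26292) (L 15481))) (N (N (L 176914) (L 190943)) (N (L 199759) (L 218754))))) (N (N (N (N (L 21145) (L 2132)) (N (L 126404) (L 112393))) (N (N (L 211042) (L 221871)) (N (L 165695) (L 187890)))) (N (N (N (L 201849) (L 216756)) (N (L 174884) (L 193001))) (N (N (L 32386) (L 9295)) (N (L 115167) (L 105234))))))) (N (N (N (N (N (N (L 122530) (L 99439)) (N (L 25087) (L 15154))) (N (N (L 177241) (L 192148)) (N (L 199428) (L 217545)))) (N (N (N (L 170050) (L 180879)) (N (L 206623) (L 228818))) (N (N (L 127673) (L 108660)) (N (L 19940) (L 5929))))) (N (N (N (N (L 201522) (L 215551)) (N (L 175215) (L 194210)))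 (N (N (L 31177) (L 8964)) (N (L 116372) (L 105561)))) (N (N (N (L 21970) (L 3871)) (N (L 125583) (L 110658))) (N (N (L 212777) (L 222692)) (N (L 163956) (L 187065)))))) (N (N (N (N (N (L 204276) (L 214841)) (N (L 172713) (L 194660))) (N (N (L 30479) (L 11714)) (N (L 116818) (L 103071)))) (N (N (N (L 23316) (L 473)) (N (L 123977) (L 114308))) (N (N (L 209391) (L 224034)) (N (L 167602) (L 185471))))) (N (N (N (N (L 118884) (L 101033)) (N (L 28473) (L 13812))) (N (N (L 178847) (L 188498)) (N (L 198082) (L 220943)))) (N (N (N (L 169604) (L 183369)) (N (L 207321) (L 226068))) (N (N (L 130175) (L 108210)) (N (L 17186) (L 6639)))))))) (N (N (N (N (N (N (N (L 63738) (L 41527)) (N (L 83879) (L 73066))) (N (N (L 233985) (L 248012)) (N (L 142684) (L 161681)))) (N (N (N (L 245274) (L 255191)) (N (L 131399) (L 154506))) (N (N (L 54497) (L 36396)) (N (L 93116) (L 78193))))) (N (N (N (N (L 144746) (L 159655)) (N (L 231991) (L 250106))) (N (N (L 90001) (L 66908)) (N (L 57548) (L 47617)))) (N (N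 (N (L 95114) (L 76103)) (N (L 52439) (L 38426))) (N (N (L 137585) (L 148412)) (N (L 239148) (L 261345)))))) (N (N (N (N (N (L 146348) (L 156001)) (N (L 230641) (L 253500))) (N (N (L 86359) (L 68506)) (N (L 60938) (L 46279)))) (N (N (N (L 97612) (L 75649)) (N (L 49681) (L 39132))) (N (N (L 137143) (L 150906)) (N (L 239850) (L 258599))))) (N (N (N (N (L 63036) (L 44273)) (N (L 84321) (L 70572))) (N (N (L 236743) (L 247306)) (N (L 140186) (L 162135)))) (N (N (N (L 241884) (L 256529)) (N (L 135041) (L 152908))) (N (N (L 55847) (L 33002)) (N (L 91514) (L 81847))))))) (N (N (N (N (N (N (L 96775) (L 73930)) (N (L 50522) (L 40855))) (N (N (L 135420) (L 150065)) (N (L 241569) (L 259436)))) (N (N (N (L 146663) (L 157226)) (N (L 230330) (L 252279))) (N (N (L 87580) (L 68817)) (N (L 59713) (L 45964))))) (N (N (N (N (L 243607) (L 257370)) (N (L 133322) (L 152071))) (N (N (L 56684) (L 34721)) (N (L 90673) (L 80124)))) (N (N (N (L 61815) (L 43962)) (N (L 85546) (L 70887))) (N (N (L 236428) (L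 246081)) (N (L 140497) (L 163356)))))) (N (N (N (N (N (L 244049) (L 254876)) (N (L 132620) (L 154817))) (N (N (L 54186) (L 35175)) (N (L 93431) (L 79418)))) (N (N (N (L 65457) (L 42364)) (N (L 82156) (L 72225))) (N (N (L 234826) (L 249735)) (N (L 141847) (L 159962))))) (N (N (N (N (L 95425) (L 77324)) (N (L 52124) (L 37201))) (N (N (L 138810) (L 148727)) (N (L 237927) (L 261034)))) (N (N (N (L 143905) (L 157932)) (N (L 232828) (L 251825))) (N (N (L 88282) (L 66071)) (N (L 59271) (L 48458))))))))))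

def autHi3 : Tr :=
  (N (N (N (N (N (N (N (N (N (L 0) (L 135777)) (N (L 78291) (L 205746))) (N (N (L 143069) (L 15548)) (N (L 204558) (L 68975)))) (N (N (N (L 72123) (L 199642)) (N (L 10344) (L 145929))) (N (N (L 210790) (L 75015)) (N (L 132789) (L 5332))))) (N (N (N (N (L 138352) (L 3601)) (N (L 208291) (L 81858))) (N (N (L 12973) (L 139468)) (N (L 66430) (L 200991)))) (N (N (N (L 198091) (L 71594)) (N (L 144408) (L 9849))) (N (N (L 76566) (L 211319)) (N (L 6853) (L 133284)))))) (N (N (N (N (N (L 80096) (L 207489)) (N (L 2355) (L 138066))) (N (N (L 202301) (L 66652)) (N (L 141294) (L 13711)))) (N (N (N (L 8539) (L 144186)) (N (L 69768) (L 197353))) (N (N (L 135046) (L 7655)) (N (L 212565) (L 76852))))) (N (N (N (N (L 205968) (L 79601)) (N (L 136515) (L 1826))) (N (N (L 68173) (L 202796)) (N (L 15262) (L 141823)))) (N (N (N (L 146731) (L 12106)) (N (L 199928) (L 73369))) (N (N (L 5110) (L 131479)) (N (L 74277) (L 208964))))))) (N (N (N (N (N (N (L 62194) (L 188563)) (N (L 115489)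 (L 250176))) (N (N (L 187439) (L 52814)) (N (L 257532) (L 130973)))) (N (N (N (L 125769) (L 260392)) (N (L 55962) (L 182523))) (N (N (L 247188) (L 120821)) (N (L 193607) (L 58918))))) (N (N (N (N (L 192130) (L 64739)) (N (L 253777) (L 118064))) (N (N (L 49247) (L 184894)) (N (L 127372) (L 254957)))) (N (N (N (L 259897) (L 124248)) (N (L 181994) (L 54411))) (N (N (L 121316) (L 248709)) (N (L 59447) (L 195158)))))) (N (N (N (N (N (L 117266) (L 252019)) (N (L 64449) (L 190880))) (N (N (L 255183) (L 128686)) (N (L 185628) (L 51069)))) (N (N (N (L 54185) (L 180680)) (N (L 123514) (L 258075))) (N (N (L 195956) (L 61205)) (N (L 248999) (L 122566))))) (N (N (N (N (L 251490) (L 115715)) (N (L 190385) (L 62928))) (N (N (L 129215) (L 256734)) (N (L 51564) (L 187149)))) (N (N (N (L 184281) (L 56760)) (N (L 261642) (L 126059))) (N (N (L 57604) (L 193381)) (N (L 118999) (L 246454)))))))) (N (N (N (N (N (N (N (L 41377) (L 177088)) (N (L 102514) (L 229907))) (N (N (L 167804) (L 40221)) (N (L 245423)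 (L 109774)))) (N (N (N (L 112666) (L 240251)) (N (L 35273) (L 170920))) (N (N (L 235207) (L 99494)) (N (L 173844) (L 46453))))) (N (N (N (N (L 179665) (L 44976)) (N (L 232450) (L 106083))) (N (N (L 37644) (L 164205)) (N (L 107231) (L 241854)))) (N (N (N (L 238698) (L 112139)) (N (L 169401) (L 34776))) (N (N (L 101047) (L 235734)) (N (L 47972) (L 174341)))))) (N (N (N (N (N (L 104769) (L 232224)) (N (L 43154) (L 178931))) (N (N (L 243612) (L 108029)) (N (L 165455) (L 37934)))) (N (N (N (L 33018) (L 168603)) (N (L 110889) (L 238408))) (N (N (L 175655) (L 48198)) (N (L 237556) (L 101781))))) (N (N (N (N (L 230705) (L 104272)) (N (L 177378) (L 42627))) (N (N (L 109548) (L 244109)) (N (L 39487) (L 165982)))) (N (N (N (L 171146) (L 36587)) (N (L 240985) (L 114488))) (N (N (L 45655) (L 172086)) (N (L 99204) (L 233957))))))) (N (N (N (N (N (N (L 21331) (L 147762)) (N (L 90752) (L 225505))) (N (N (L 163214) (L 28655)) (N (L 216157) (L 89660)))) (N (N (N (L 84712) (L 219273)) (N (L 31547)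 (L 158042))) (N (N (L 222261) (L 95828)) (N (L 153062) (L 18311))))) (N (N (N (N (L 151331) (L 23874)) (N (L 229104) (L 93329))) (N (N (L 25086) (L 160671)) (N (L 86061) (L 213580)))) (N (N (N (L 218776) (L 83193)) (N (L 157515) (L 29994))) (N (N (L 96325) (L 223780)) (N (L 18838) (L 154615)))))) (N (N (N (N (N (L 93107) (L 227794)) (N (L 23136) (L 149505))) (N (N (L 214382) (L 87823)) (N (L 160957) (L 26332)))) (N (N (N (L 29192) (L 155753)) (N (L 82907) (L 217530))) (N (N (L 154837) (L 20148)) (N (L 224518) (L 98151))))) (N (N (N (N (L 227267) (L 91554)) (N (L 149008) (L 21617))) (N (N (L 88350) (L 215935)) (N (L 26829) (L 162476)))) (N (N (N (L 159352) (L 31769)) (N (L 221099) (L 85450))) (N (N (L 16549) (L 152260)) (N (L 94582) (L 221975))))))))) (N (N (N (N (N (N (N (N (L 44870) (L 179495)) (N (L 106133) (L 232692))) (N (N (L 164251) (L 37882)) (N (L 241736) (L 107049)))) (N (N (N (L 112381) (L 238748)) (N (L 34606) (L 169295))) (N (N (L 235552) (L 100929)) (N (L 174579) (L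 48018))))) (N (N (N (N (L 176950) (L 41303)) (N (L 230117) (L 102532))) (N (N (L 40427) (L 167818)) (N (L 109624) (L 245337)))) (N (N (N (L 240269) (L 112876)) (N (L 170846) (L 35135))) (N (N (L 99408) (L 235057)) (N (L 46467) (L 174050)))))) (N (N (N (N (N (L 104358) (L 230855)) (N (L 42613) (L 177172))) (N (N (L 244091) (L 109338)) (N (L 166056) (L 39625)))) (N (N (N (L 36381) (L 171132)) (N (L 114638) (L 241071))) (N (N (L 172224) (L 45729)) (N (L 233747) (L 99186))))) (N (N (N (N (L 232406) (L 104887)) (N (L 178693) (L 43108))) (N (N (L 107787) (L 243562)) (N (L 38104) (L 165561)))) (N (N (N (L 168557) (L 32780)) (N (L 238526) (L 111071))) (N (N (L 48304) (L 175825)) (N (L 101731) (L 237314))))))) (N (N (N (N (N (N (L 23988) (L 151509)) (N (L 93287) (L 228870))) (N (N (L 160617) (L 24840)) (N (L 213690) (L 86235)))) (N (N (N (L 82959) (L 218734)) (N (L 30172) (L 157629))) (N (N (L 223954) (L 96435)) (N (L 154369) (L 18784))))) (N (N (N (N (L 147908) (L 21413)) (N (L 225303)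 (L 90742))) (N (N (L 28441) (L 163192)) (N (L 89802) (L 216235)))) (N (N (N (L 219263) (L 84510)) (N (L 158124) (L 31693))) (N (N (L 95906) (L 222403)) (N (L 18289) (L 152848)))))) (N (N (N (N (N (L 91476) (L 227125)) (N (L 21639) (L 149222))) (N (N (L 215945) (L 88552)) (N (L 162394) (L 26683)))) (N (N (N (L 31983) (L 159374)) (N (L 85308) (L 221021))) (N (N (L 152114) (L 16467)) (N (L 222177) (L 94592))))) (N (N (N (N (L 227620) (L 92997)) (N (L 149751) (L 23190))) (N (N (L 88057) (L 214424)) (N (L 26154) (L 160843)))) (N (N (N (L 155807) (L 29438)) (N (L 217420) (L 82733))) (N (N (L 20034) (L 154659)) (N (L 98193) (L 224752)))))))) (N (N (N (N (N (N (N (L 3815) (L 138374)) (N (L 81716) (L 208213))) (N (N (L 139322) (L 12891)) (N (L 201193) (L 66440)))) (N (N (N (L 71516) (L 197949)) (N (L 9871) (L 144622))) (N (N (L 211329) (L 76768)) (N (L 133202) (L 6707))))) (N (N (N (N (L 135831) (L 246)) (N (L 205636) (L 78117))) (N (N (L 15434) (L 142891)) (N (L 69017) (L 204792)))) (N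 (N (N (L 199468) (L 72013)) (N (L 146175) (L 10398))) (N (N (L 75249) (L 210832)) (N (L 5154) (L 132675)))))) (N (N (N (N (N (L 79367) (L 205926)) (N (L 2004) (L 136629))) (N (N (L 202970) (L 68283)) (N (L 141577) (L 15208)))) (N (N (N (L 12220) (L 146909)) (N (L 73327) (L 199694))) (N (N (L 131425) (L 4864)) (N (L 209074) (L 74451))))) (N (N (N (N (L 207479) (L 79894)) (N (L 138148) (L 2501))) (N (N (L 66730) (L 202443)) (N (L 13689) (L 141080)))) (N (N (N (L 144332) (L 8621)) (N (L 197151) (L 69758))) (N (N (L 7441) (L 135024)) (N (L 76994) (L 212643))))))) (N (N (N (N (N (N (L 64533) (L 192116)) (N (L 118214) (L 253863))) (N (N (L 185032) (L 49321)) (N (L 254747) (L 127354)))) (N (N (N (L 124334) (L 260047)) (N (L 54397) (L 181788))) (N (N (L 248691) (L 121106)) (N (L 195232) (L 59585))))) (N (N (N (N (L 188517) (L 61956)) (N (L 250294) (L 115671))) (N (N (L 52920) (L 187609)) (N (L 130923) (L 257290)))) (N (N (N (L 260574) (L 125887)) (N (L 182285) (L 55916))) (N (N (L 120579)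 (L 247138)) (N (L 59088) (L 193713)))))) (N (N (N (N (N (L 115957) (L 251540)) (N (L 62758) (L 190279))) (N (N (L 256552) (L 129097)) (N (L 187387) (L 51610)))) (N (N (N (L 56654) (L 184111)) (N (L 126109) (L 261884))) (N (N (L 193427) (L 57842)) (N (L 246336) (L 118817))))) (N (N (N (N (L 252037) (L 117476)) (N (L 190806) (L 64311))) (N (N (L 128600) (L 255033)) (N (L 51083) (L 185834)))) (N (N (N (L 180542) (L 54111)) (N (L 258285) (L 123532))) (N (N (L 61411) (L 195970)) (N (L 122416) (L 248913))))))))))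

def autLo4 : Tr :=
  (N (N (N (N (N (N (N (N (N (L 0) (L 168086)) (N (L 169094) (L 1040))) (N (N (L 97357) (L 257243)) (N (L 256203) (L 96349)))) (N (N (N (L 241139) (L 81253)) (N (L 80245) (L 240099))) (N (N (L 184766) (L 16680)) (N (L 17720) (L 185774))))) (N (N (N (N (L 154530) (L 52020)) (N (L 53028) (L 155570))) (N (N (L 206831) (L 112505)) (N (L 111465) (L 205823)))) (N (N (N (L 128593) (L 222919)) (N (L 221911) (L 127553))) (N (N (L 35356) (L 137866)) (N (L 138906) (L 36364)))))) (N (N (N (N (N (L 254735) (L 95129)) (N (L 96137) (L 255775))) (N (N (L 171842) (L 4052)) (N (L 3012) (L 170834)))) (N (N (N (L 20220) (L 188010)) (N (L 187002) (L 19180))) (N (N (L 78513) (L 238119)) (N (L 239159) (L 79521))))) (N (N (N (N (L 112813) (L 206907)) (N (L 207915) (L 113853))) (N (N (L 50400) (L 152694)) (N (L 151654) (L 49392)))) (N (N (N (L 136542) (L 34248)) (N (L 33240) (L 135502))) (N (N (L 223507) (L 129413)) (N (L 130453) (L 224515))))))) (N (N (N (N (N (N (L 168458) (L 668))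 (N (L 1676) (L 169498))) (N (N (L 257607) (L 98001)) (N (L 96961) (L 256599)))) (N (N (N (L 81913) (L 241519)) (N (L 240511) (L 80873))) (N (N (L 17332) (L 185122)) (N (L 186162) (L 18340))))) (N (N (N (N (L 51624) (L 153918)) (N (L 154926) (L 52664))) (N (N (L 112101) (L 206195)) (N (L 205155) (L 111093)))) (N (N (N (L 222299) (L 128205)) (N (L 127197) (L 221259))) (N (N (L 137238) (L 34944)) (N (L 35984) (L 138246)))))) (N (N (N (N (N (L 94469) (L 254355)) (N (L 255363) (L 95509))) (N (N (L 3400) (L 171486)) (N (L 170446) (L 2392)))) (N (N (N (L 187638) (L 19552)) (N (L 18544) (L 186598))) (N (N (L 237755) (L 77869)) (N (L 78909) (L 238763))))) (N (N (N (N (L 207527) (L 113201)) (N (L 114209) (L 208567))) (N (N (L 153322) (L 50812)) (N (L 49772) (L 152314)))) (N (N (N (L 34644) (L 137154)) (N (L 136146) (L 33604))) (N (N (L 129817) (L 224143)) (N (L 225183) (L 130825)))))))) (N (N (N (N (N (N (N (L 144722) (L 42436)) (N (L 41428) (L 143682))) (N (N (L 215327) (L 121225)) (N (L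 122265) (L 216335)))) (N (N (N (L 104609) (L 198711)) (N (L 199719) (L 105649))) (N (N (L 58604) (L 160890)) (N (L 159850) (L 57596))))) (N (N (N (N (L 28400) (L 196198)) (N (L 195190) (L 27360))) (N (N (L 70333) (L 229931)) (N (L 230971) (L 71341)))) (N (N (N (L 246531) (L 86933)) (N (L 87941) (L 247571))) (N (N (L 180046) (L 12248)) (N (L 11208) (L 179038)))))) (N (N (N (N (N (L 120413) (L 214731)) (N (L 213723) (L 119373))) (N (N (L 43536) (L 146054)) (N (L 147094) (L 44544)))) (N (N (N (L 162734) (L 60216)) (N (L 61224) (L 163774))) (N (N (L 198627) (L 104309)) (N (L 103269) (L 197619))))) (N (N (N (N (L 232959) (L 73065)) (N (L 72057) (L 231919))) (N (N (L 192946) (L 24868)) (N (L 25908) (L 193954)))) (N (N (N (L 8204) (L 176282)) (N (L 177290) (L 9244))) (N (N (L 89153) (L 249047)) (N (L 248007) (L 88145))))))) (N (N (N (N (N (N (L 42840) (L 145358)) (N (L 144350) (L 41800))) (N (N (L 121621) (L 215939)) (N (L 216979) (L 122629)))) (N (N (N (L 199339) (L 105021)) (N (L 106029)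 (L 200379))) (N (N (L 161510) (L 58992)) (N (L 57952) (L 160502))))) (N (N (N (N (L 195834) (L 27756)) (N (L 26748) (L 194794))) (N (N (L 229559) (L 69665)) (N (L 70705) (L 230567)))) (N (N (N (L 86281) (L 246175)) (N (L 247183) (L 87321))) (N (N (L 11588) (L 179666)) (N (L 178626) (L 10580)))))) (N (N (N (N (N (L 214103) (L 120001)) (N (L 118993) (L 213063))) (N (N (L 145434) (L 43148)) (N (L 44188) (L 146442)))) (N (N (N (L 59812) (L 162098)) (N (L 163106) (L 60852))) (N (N (L 103913) (L 198015)) (N (L 196975) (L 102905))))) (N (N (N (N (L 73717) (L 233315)) (N (L 232307) (L 72677))) (N (N (L 25528) (L 193326)) (N (L 194366) (L 26536)))) (N (N (N (L 176646) (L 8848)) (N (L 9856) (L 177686))) (N (N (L 249419) (L 89821)) (N (L 88781) (L 248411))))))))) (N (N (N (N (N (N (N (N (L 77809) (L 245607)) (N (L 244599) (L 76769))) (N (N (L 21436) (L 181034)) (N (L 182074) (L 22444)))) (N (N (N (L 164354) (L 4756)) (N (L 5764) (L 165394))) (N (N (L 261711) (L 93913)) (N (L 92873) (L 260703)))))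 (N (N (N (N (L 226387) (L 124101)) (N (L 123093) (L 225347))) (N (N (L 133150) (L 39048)) (N (L 40088) (L 134158)))) (N (N (N (L 55712) (L 149814)) (N (L 150822) (L 56752))) (N (N (L 108013) (L 210299)) (N (L 209259) (L 107005)))))) (N (N (N (N (N (L 183550) (L 23656)) (N (L 22648) (L 182510))) (N (N (L 241843) (L 73765)) (N (L 74805) (L 242851)))) (N (N (N (L 90381) (L 258459)) (N (L 259467) (L 91421))) (N (N (L 7488) (L 167382)) (N (L 166342) (L 6480))))) (N (N (N (N (L 38748) (L 133066)) (N (L 132058) (L 37708))) (N (N (L 125713) (L 228231)) (N (L 229271) (L 126721)))) (N (N (N (L 211631) (L 109113)) (N (L 110121) (L 212671))) (N (N (L 149218) (L 54900)) (N (L 53860) (L 148210))))))) (N (N (N (N (N (N (L 245243) (L 77165)) (N (L 76157) (L 244203))) (N (N (L 180662) (L 20768)) (N (L 21808) (L 181670)))) (N (N (N (L 4104) (L 163998)) (N (L 165006) (L 5144))) (N (N (L 93253) (L 261331)) (N (L 260291) (L 92245))))) (N (N (N (N (L 124505) (L 227023)) (N (L 226015) (L 123465))) (N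 (N (L 39444) (L 133762)) (N (L 134802) (L 40452)))) (N (N (N (L 150442) (L 56124)) (N (L 57132) (L 151482))) (N (N (L 210919) (L 108401)) (N (L 107361) (L 209911)))))) (N (N (N (N (N (L 24308) (L 183906)) (N (L 182898) (L 23268))) (N (N (L 74425) (L 242223)) (N (L 243263) (L 75433)))) (N (N (N (L 258823) (L 91025)) (N (L 92033) (L 259863))) (N (N (L 167754) (L 8156)) (N (L 7116) (L 166746))))) (N (N (N (N (L 132438) (L 38336)) (N (L 37328) (L 131398))) (N (N (L 227611) (L 125325)) (N (L 126365) (L 228619)))) (N (N (N (L 108709) (L 210995)) (N (L 212003) (L 109749))) (N (N (L 54504) (L 148606)) (N (L 147566) (L 53496)))))))) (N (N (N (N (N (N (N (L 203427) (L 100917)) (N (L 101925) (L 204467))) (N (N (L 157422) (L 63096)) (N (L 62056) (L 156414)))) (N (N (N (L 46928) (L 141254)) (N (L 140246) (L 45888))) (N (N (L 117533) (L 220043)) (N (L 221083) (L 118541))))) (N (N (N (N (L 82177) (L 250263)) (N (L 251271) (L 83217))) (N (N (L 15692) (L 175578)) (N (L 174538) (L 14684)))) (N (N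 (N (L 191730) (L 31844)) (N (L 30836) (L 190690))) (N (N (L 233663) (L 65577)) (N (L 66617) (L 234671)))))) (N (N (N (N (N (L 63916) (L 158010)) (N (L 159018) (L 64956))) (N (N (L 99809) (L 202103)) (N (L 201063) (L 98801)))) (N (N (N (L 218207) (L 115913)) (N (L 114905) (L 217167))) (N (N (L 141330) (L 47236)) (N (L 48276) (L 142338))))) (N (N (N (N (L 172558) (L 12952)) (N (L 13960) (L 173598))) (N (N (L 253507) (L 85717)) (N (L 84677) (L 252499)))) (N (N (N (L 69629) (L 237419)) (N (L 236411) (L 68589))) (N (N (L 29616) (L 189222)) (N (L 190262) (L 30624))))))) (N (N (N (N (N (N (L 100521) (L 202815)) (N (L 203823) (L 101561))) (N (N (L 62692) (L 156786)) (N (L 155746) (L 61684)))) (N (N (N (L 140634) (L 46540)) (N (L 45532) (L 139594))) (N (N (L 219415) (L 117121)) (N (L 118161) (L 220423))))) (N (N (N (N (L 250635) (L 82845)) (N (L 83853) (L 251675))) (N (N (L 175942) (L 16336)) (N (L 15296) (L 174934)))) (N (N (N (L 32504) (L 192110)) (N (L 191102) (L 31464))) (N (N (L 66229)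 (L 234019)) (N (L 235059) (L 67237)))))) (N (N (N (N (N (L 158630) (L 64304)) (N (L 65312) (L 159670))) (N (N (L 202731) (L 100221)) (N (L 99181) (L 201723)))) (N (N (N (L 116309) (L 218819)) (N (L 217811) (L 115269))) (N (N (L 47640) (L 141966)) (N (L 143006) (L 48648))))) (N (N (N (N (L 12292) (L 172178)) (N (L 173186) (L 13332))) (N (N (L 85065) (L 253151)) (N (L 252111) (L 84057)))) (N (N (N (L 237047) (L 68961)) (N (L 67953) (L 236007))) (N (N (L 188858) (L 28972)) (N (L 30012) (L 189866))))))))))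

def autHi4 : Tr :=
  (N (N (N (N (N (N (N (N (N (L 0) (L 237958)) (N (L 152397) (L 127691))) (N (N (L 16161) (L 237223)) (N (L 158828) (L 118250)))) (N (N (N (L 10771) (L 232341)) (N (L 162142) (L 121048))) (N (N (L 5426) (L 242868)) (N (L 149119) (L 124921))))) (N (N (N (N (L 46682) (L 202716)) (N (L 189719) (L 83089))) (N (N (L 35195) (L 207101)) (N (L 186934) (L 97200)))) (N (N (N (L 40009) (L 212431)) (N (L 184068) (L 93826))) (N (N (L 41832) (L 197358)) (N (L 192549) (L 86435)))))) (N (N (N (N (N (L 28149) (L 248947)) (N (L 147128) (L 106302))) (N (N (L 21204) (L 258898)) (N (L 131481) (L 106527)))) (N (N (N (L 18406) (L 255584)) (N (L 136363) (L 111917))) (N (N (L 30919) (L 252225)) (N (L 142218) (L 100876))))) (N (N (N (N (L 56239) (L 227881)) (N (L 166114) (L 76132))) (N (N (L 58510) (L 214280)) (N (L 178115) (L 71237)))) (N (N (N (L 61884) (L 217146)) (N (L 172785) (L 66423))) (N (N (L 52893) (L 225051)) (N (L 171472) (L 80982))))))) (N (N (N (N (N (N (L 213499) (L 57469))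 (N (L 70326) (L 176944))) (N (N (L 229082) (L 57180)) (N (L 77207) (L 166929)))) (N (N (N (L 224232) (L 51822)) (N (L 80037) (L 170275))) (N (N (L 218313) (L 62799)) (N (L 67460) (L 173570))))) (N (N (N (N (L 260001) (L 22055)) (N (L 107756) (L 132458))) (N (N (L 247936) (L 26886)) (N (L 105421) (L 145995)))) (N (N (N (L 253362) (L 31796)) (N (L 102143) (L 143225))) (N (N (L 254611) (L 17173)) (N (L 111070) (L 135256)))))) (N (N (N (N (N (L 207886) (L 36232)) (N (L 98115) (L 188101))) (N (N (L 201519) (L 45737)) (N (L 82018) (L 188900)))) (N (N (N (L 198173) (L 42907)) (N (L 87376) (L 193750))) (N (N (L 211260) (L 39098)) (N (L 92785) (L 183287))))) (N (N (N (N (L 236116) (L 15314)) (N (L 117017) (L 157855))) (N (N (L 238965) (L 1267)) (N (L 128568) (L 153534)))) (N (N (N (L 241735) (L 4545)) (N (L 123658) (L 148108))) (N (N (L 233318) (L 12000)) (N (L 121899) (L 163245)))))))) (N (N (N (N (N (N (N (L 181158) (L 90656)) (N (L 37099) (L 209261))) (N (N (L 195719) (L 89345)) (N (L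 45002) (L 200268)))) (N (N (N (L 190901) (L 84019)) (N (L 47864) (L 203646))) (N (N (L 186004) (L 96018)) (N (L 34265) (L 205919))))) (N (N (N (N (L 161276) (L 119930)) (N (L 9905) (L 231223))) (N (N (L 150237) (L 125787)) (N (L 6544) (L 243734)))) (N (N (N (L 155631) (L 130665)) (N (L 3234) (L 240932))) (N (N (L 155854) (L 115016)) (N (L 13187) (L 233989)))))) (N (N (N (N (N (L 175699) (L 69589)) (N (L 64798) (L 220312))) (N (N (L 168306) (L 78068)) (N (L 49727) (L 222137)))) (N (N (N (L 164928) (L 75206)) (N (L 55053) (L 226955))) (N (N (L 179041) (L 72423)) (N (L 59436) (L 215466))))) (N (N (N (N (L 137225) (L 113039)) (N (L 19268) (L 256706))) (N (N (L 141096) (L 100014)) (N (L 29797) (L 251363)))) (N (N (N (L 143898) (L 103324)) (N (L 24919) (L 245969))) (N (N (L 134459) (L 109757)) (N (L 24182) (L 262128))))))) (N (N (N (N (N (N (L 98909) (L 140251)) (N (L 250128) (L 28822))) (N (N (L 114044) (L 138490)) (N (L 257585) (L 20407)))) (N (N (N (L 108622) (L 133576)) (N (L 260867)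 (L 23173))) (N (N (L 104303) (L 145129)) (N (L 246818) (L 26020))))) (N (N (N (N (L 78855) (L 169345)) (N (L 223050) (L 50892))) (N (N (L 68390) (L 174752)) (N (L 219243) (L 63981)))) (N (N (N (L 73236) (L 180114)) (N (L 216409) (L 60639))) (N (N (L 74037) (L 164019)) (N (L 225912) (L 54270)))))) (N (N (N (N (N (L 126888) (L 151086)) (N (L 244965) (L 7523))) (N (N (L 118921) (L 160015)) (N (L 230340) (L 8770)))) (N (N (N (L 116155) (L 156733)) (N (L 235254) (L 14192))) (N (N (L 129690) (L 154396)) (N (L 240087) (L 2129))))) (N (N (N (N (L 88562) (L 194676)) (N (L 199359) (L 43833))) (N (N (L 91859) (L 182101)) (N (L 210334) (L 37912)))) (N (N (N (L 95201) (L 184935)) (N (L 204972) (L 33066))) (N (N (L 85184) (L 191814)) (N (L 204685) (L 48651))))))))) (N (N (N (N (N (N (N (N (L 254187) (L 16749)) (N (L 111526) (L 135712))) (N (N (L 253898) (L 32332)) (N (L 101511) (L 142593)))) (N (N (N (L 248568) (L 27518)) (N (L 104885) (L 145459))) (N (N (L 259545) (L 21599)) (N (L 108180) (L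 132882))))) (N (N (N (N (L 218801) (L 63287)) (N (L 67068) (L 173178))) (N (N (L 223632) (L 51222)) (N (L 80605) (L 170843)))) (N (N (N (L 228514) (L 56612)) (N (L 77807) (L 167529))) (N (N (L 213891) (L 57861)) (N (L 69838) (L 176456)))))) (N (N (N (N (N (L 232734) (L 11416)) (N (L 122451) (L 163797))) (N (N (L 242239) (L 5049)) (N (L 123250) (L 147700)))) (N (N (N (L 239373) (L 1675)) (N (L 128064) (L 153030))) (N (N (L 235564) (L 14762)) (N (L 117601) (L 158439))))) (N (N (N (N (L 211780) (L 39618)) (N (L 92169) (L 182671))) (N (N (L 197733) (L 42467)) (N (L 87848) (L 194222)))) (N (N (N (L 201047) (L 45265)) (N (L 82458) (L 189340))) (N (N (L 208502) (L 36848)) (N (L 97595) (L 187581))))))) (N (N (N (N (N (N (L 41232) (L 196758)) (N (L 193117) (L 87003))) (N (N (L 40497) (L 212919)) (N (L 183676) (L 93434)))) (N (N (N (L 35587) (L 207493)) (N (L 186446) (L 96712))) (N (N (L 46114) (L 202148)) (N (L 190319) (L 83689))))) (N (N (N (N (L 5962) (L 243404)) (N (L 148487) (L 124289)))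 (N (N (L 10347) (L 231917)) (N (L 162598) (L 121504)))) (N (N (N (L 15705) (L 236767)) (N (L 159252) (L 118674))) (N (N (L 632) (L 238590)) (N (L 151861) (L 127155)))))) (N (N (N (N (N (L 52453) (L 224611)) (N (L 171944) (L 81454))) (N (N (L 62404) (L 217666)) (N (L 172169) (L 65807)))) (N (N (N (L 59126) (L 214896)) (N (L 177595) (L 70717))) (N (N (L 55767) (L 227409)) (N (L 166554) (L 76572))))) (N (N (N (N (L 31423) (L 252729)) (N (L 141810) (L 100468))) (N (N (L 17822) (L 255000)) (N (L 136915) (L 112469)))) (N (N (N (L 20652) (L 258346)) (N (L 132065) (L 107111))) (N (N (L 28557) (L 249355)) (N (L 146624) (L 105798)))))))) (N (N (N (N (N (N (N (L 74573) (L 164555)) (N (L 225280) (L 53638))) (N (N (L 72812) (L 179690)) (N (L 216865) (L 61095)))) (N (N (N (L 67934) (L 174296)) (N (L 219667) (L 64405))) (N (N (L 79487) (L 169977)) (N (L 222514) (L 50356))))) (N (N (N (N (L 103703) (L 144529)) (N (L 247386) (L 26588))) (N (N (L 109110) (L 134064)) (N (L 260475) (L 22781)))) (N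 (N (N (L 114436) (L 138882)) (N (L 257097) (L 19919))) (N (N (L 98341) (L 139683)) (N (L 250728) (L 29422)))))) (N (N (N (N (N (L 85688) (L 192318)) (N (L 204277) (L 48243))) (N (N (L 94617) (L 184351)) (N (L 205524) (L 33618)))) (N (N (N (L 91307) (L 181549)) (N (L 210918) (L 38496))) (N (N (L 88970) (L 195084)) (N (L 198855) (L 43329))))) (N (N (N (N (L 129250) (L 153956)) (N (L 240559) (L 2601))) (N (N (L 116675) (L 157253)) (N (L 234638) (L 13576)))) (N (N (N (L 119537) (L 160631)) (N (L 229820) (L 8250))) (N (N (L 126416) (L 150614)) (N (L 245405) (L 7963))))))) (N (N (N (N (N (N (L 156342) (L 115504)) (N (L 12795) (L 233597))) (N (N (L 155031) (L 130065)) (N (L 3802) (L 241500)))) (N (N (N (L 149669) (L 125219)) (N (L 7144) (L 244334))) (N (N (L 161668) (L 120322)) (N (L 9417) (L 230735))))) (N (N (N (N (L 185580) (L 95594)) (N (L 34721) (L 206375))) (N (N (L 191437) (L 84555)) (N (L 47232) (L 203014)))) (N (N (N (L 196351) (L 89977)) (N (L 44466) (L 199732))) (N (N (L 180702)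 (L 90200)) (N (L 37523) (L 209685)))))) (N (N (N (N (N (L 134979) (L 110277)) (N (L 23566) (L 261512))) (N (N (L 143458) (L 102884)) (N (L 25391) (L 246441)))) (N (N (N (L 140624) (L 99542)) (N (L 30237) (L 251803))) (N (N (L 137841) (L 113655)) (N (L 18748) (L 256186))))) (N (N (N (N (L 178457) (L 71839)) (N (L 59988) (L 216018))) (N (N (L 165432) (L 75710)) (N (L 54645) (L 226547)))) (N (N (N (L 168714) (L 78476)) (N (L 49223) (L 221633))) (N (N (L 175147) (L 69037)) (N (L 65382) (L 220896))))))))))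

def autLo5 : Tr :=
  (N (N (N (N (N (N (N (N (N (L 0) (L 120112)) (N (L 230624) (L 152016))) (N (N (L 150672) (L 235936)) (N (L 116848) (L 7488)))) (N (N (N (L 259378) (L 139266)) (N (L 29138) (L 107746))) (N (N (L 113058) (L 27794)) (N (L 146754) (L 256114))))) (N (N (N (N (L 175905) (L 227857)) (N (L 76737) (L 65265))) (N (N (L 58289) (L 79489)) (N (L 223057) (L 176737)))) (N (N (N (L 88595) (L 36643)) (N (L 188147) (L 199619))) (N (N (L 202371) (L 181171)) (N (L 37475) (L 83795)))))) (N (N (N (N (N (L 47834) (L 94186)) (N (L 212538) (L 191242))) (N (N (L 194122) (L 205690)) (N (L 94890) (L 42906)))) (N (N (N (L 217064) (L 170712)) (N (L 51976) (L 73272))) (N (N (L 66424) (L 54856)) (N (L 165784) (L 217768))))) (N (N (N (N (L 136699) (L 245963)) (N (L 102683) (L 17451))) (N (N (L 22891) (L 101467)) (N (L 253323) (L 133307)))) (N (N (N (L 123081) (L 13817)) (N (L 156713) (L 241945))) (N (N (L 240729) (L 162153)) (N (L 10425) (L 130441))))))) (N (N (N (N (N (N (L 26037) (L 110725))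 (N (L 254293) (L 144485))) (N (N (L 141605) (L 261141)) (N (L 110021) (L 30965)))) (N (N (N (L 233607) (L 148919)) (N (L 5223) (L 115031))) (N (N (L 121879) (L 2343)) (N (L 153847) (L 232903))))) (N (N (N (N (L 182932) (L 204708)) (N (L 85620) (L 39748))) (N (N (L 34308) (L 86836)) (N (L 197348) (L 186324)))) (N (N (N (L 81830) (L 60054)) (N (L 179014) (L 224886))) (N (N (L 226102) (L 173574)) (N (L 63446) (L 74470)))))) (N (N (N (N (N (L 57199) (L 68191)) (N (L 220047) (L 167615))) (N (N (L 168959) (L 214735)) (N (L 71455) (L 49711)))) (N (N (N (L 207453) (L 196461)) (N (L 44733) (L 97165))) (N (N (L 91853) (L 46077)) (N (L 188973) (L 210717))))) (N (N (N (N (L 159822) (L 238974)) (N (L 128174) (L 8606))) (N (N (L 15582) (L 125422)) (N (L 243774) (L 158990)))) (N (N (N (L 99708) (L 20556)) (N (L 131484) (L 251052))) (N (N (L 248300) (L 138460)) (N (L 19724) (L 104508)))))))) (N (N (N (N (N (N (N (L 42539) (L 95003)) (N (L 205515) (L 194555))) (N (N (L 191163) (L 212875)) (N (L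 93787) (L 47979)))) (N (N (N (L 217881) (L 165417)) (N (L 55289) (L 66249))) (N (N (L 73609) (L 51897)) (N (L 170857) (L 216665))))) (N (N (N (N (L 133386) (L 252986)) (N (L 101866) (L 22746))) (N (N (L 17818) (L 102570)) (N (L 246138) (L 136266)))) (N (N (N (L 130104) (L 10504)) (N (L 162008) (L 241128))) (N (N (L 241832) (L 157080)) (N (L 13384) (L 123256)))))) (N (N (N (N (N (L 7409) (L 117185)) (N (L 235537) (L 150817))) (N (N (L 151649) (L 230737)) (N (L 119937) (L 433)))) (N (N (N (L 256451) (L 146675)) (N (L 27939) (L 112659))) (N (N (L 107859) (L 28771)) (N (L 139699) (L 259203))))) (N (N (N (N (L 177104) (L 222944)) (N (L 79664) (L 57856))) (N (N (L 65344) (L 76400)) (N (L 228256) (L 175760)))) (N (N (N (L 83682) (L 37842)) (N (L 180738) (L 202546))) (N (N (L 199282) (L 188226)) (N (L 36498) (L 88994))))))) (N (N (N (N (N (N (L 50078) (L 71342)) (N (L 214910) (L 168526))) (N (N (L 167694) (L 219710)) (N (L 68590) (L 57054)))) (N (N (N (L 210604) (L 189340)) (N (L 45644)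 (L 92028))) (N (N (L 96828) (L 44812)) (N (L 196316) (L 207852))))) (N (N (N (N (L 158911) (L 244111)) (N (L 125023) (L 15727))) (N (N (L 8239) (L 128287)) (N (L 238799) (L 160255)))) (N (N (N (L 104845) (L 19645)) (N (L 138605) (L 247901))) (N (N (L 251165) (L 131117)) (N (L 20989) (L 99533)))))) (N (N (N (N (N (L 31044) (L 109684)) (N (L 261540) (L 141460))) (N (N (L 144852) (L 254180)) (N (L 110900) (L 25604)))) (N (N (N (L 232566) (L 153926)) (N (L 2198) (L 122278))) (N (N (L 114918) (L 5590)) (N (L 148486) (L 233782))))) (N (N (N (N (L 185957) (L 197461)) (N (L 86661) (L 34741))) (N (N (L 39669) (L 85957)) (N (L 204309) (L 183077)))) (N (N (N (L 74583) (L 63079)) (N (L 174007) (L 225927))) (N (N (L 225223) (L 178935)) (N (L 60199) (L 81431))))))))) (N (N (N (N (N (N (N (N (L 23830) (L 100390)) (N (L 252406) (L 134342))) (N (N (L 135558) (L 246966)) (N (L 103782) (L 16470)))) (N (N (N (L 239652) (L 163092)) (N (L 11460) (L 129524))) (N (N (L 124084) (L 12676)) (N (L 155732)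 (L 243044))))) (N (N (N (N (L 193079) (L 206599)) (N (L 95959) (L 41959))) (N (N (L 48807) (L 93079)) (N (L 211527) (L 192375)))) (N (N (N (L 67333) (L 53813)) (N (L 164837) (L 218837))) (N (N (L 215957) (L 171685)) (N (L 53109) (L 72261)))))) (N (N (N (N (N (L 59340) (L 78588)) (N (L 221996) (L 177692))) (N (N (L 174940) (L 228972)) (N (L 77756) (L 64140)))) (N (N (N (L 201470) (L 182222)) (N (L 38430) (L 82734))) (N (N (L 89710) (L 35678)) (N (L 187022) (L 200638))))) (N (N (N (N (L 149741) (L 237021)) (N (L 117773) (L 6461))) (N (N (L 1149) (L 119117)) (N (L 229533) (L 153005)))) (N (N (N (L 114143) (L 26863)) (N (L 145727) (L 257039))) (N (N (L 258383) (L 140415)) (N (L 30127) (L 106655))))))) (N (N (N (N (N (N (L 14499) (L 126355)) (N (L 244803) (L 158067))) (N (N (L 160819) (L 237827)) (N (L 127187) (L 9699)))) (N (N (N (L 249233) (L 137377)) (N (L 18801) (L 105537))) (N (N (L 98561) (L 21553)) (N (L 132577) (L 250065))))) (N (N (N (N (L 169858) (L 213682)) (N (L 70498) (L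 50770))) (N (N (L 56082) (L 69154)) (N (L 221170) (L 166594)))) (N (N (N (L 90800) (L 46976)) (N (L 190032) (L 209760))) (N (N (L 208416) (L 195344)) (N (L 43712) (L 98288)))))) (N (N (N (N (N (L 33401) (L 87881)) (N (L 198297) (L 185257))) (N (N (L 184041) (L 203737)) (N (L 84489) (L 40761)))) (N (N (N (L 227147) (L 172667)) (N (L 62379) (L 75419))) (N (N (L 80859) (L 61163)) (N (L 180027) (L 223755))))) (N (N (N (N (L 142680) (L 260200)) (N (L 108984) (L 31880))) (N (N (L 25032) (L 111864)) (N (L 255272) (L 143384)))) (N (N (N (L 120938) (L 3418)) (N (L 154762) (L 231866))) (N (N (L 234746) (L 147914)) (N (L 4122) (L 116010)))))))) (N (N (N (N (N (N (N (L 64317) (L 77325)) (N (L 229341) (L 174829))) (N (N (L 178093) (L 221853)) (N (L 78669) (L 59005)))) (N (N (N (L 200207) (L 187199)) (N (L 35567) (L 90079))) (N (N (L 82591) (L 38831)) (N (L 181887) (L 201551))))) (N (N (N (N (L 152604) (L 229676)) (N (L 119036) (L 1484))) (N (N (L 6284) (L 118204)) (N (L 236652) (L 149852))))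 (N (N (N (L 106798) (L 29726)) (N (L 140750) (L 258302))) (N (N (L 257470) (L 145550)) (N (L 26974) (L 113774)))))) (N (N (N (N (N (L 16871) (L 103639)) (N (L 247047) (L 135223))) (N (N (L 134519) (L 251975)) (N (L 100759) (L 23719)))) (N (N (N (L 242901) (L 156133)) (N (L 12341) (L 124165))) (N (N (L 129093) (L 11637)) (N (L 162981) (L 240021))))) (N (N (N (N (L 192198) (L 211958)) (N (L 92710) (L 48918))) (N (N (L 41558) (L 96102)) (N (L 206518) (L 193414)))) (N (N (N (L 72692) (L 52932)) (N (L 171796) (L 215588))) (N (N (L 218980) (L 164436)) (N (L 54148) (L 67252))))))) (N (N (N (N (N (N (L 40584) (L 84920)) (N (L 203368) (L 184152))) (N (N (L 184856) (L 198440)) (N (L 87800) (L 33736)))) (N (N (N (L 224186) (L 179850)) (N (L 61274) (L 80490))) (N (N (L 75562) (L 61978)) (N (L 173002) (L 227066))))) (N (N (N (N (L 143785) (L 255129)) (N (L 111945) (L 24697))) (N (N (L 32057) (L 108553)) (N (L 260569) (L 142569)))) (N (N (N (L 115867) (L 4523)) (N (L 147579) (L 234827))) (N (N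 (L 231435) (L 154939)) (N (L 3307) (L 121307)))))) (N (N (N (N (N (L 9298) (L 127330)) (N (L 237746) (L 161154))) (N (N (L 157890) (L 245234)) (N (L 125986) (L 14610)))) (N (N (N (L 250208) (L 132176)) (N (L 21888) (L 98480))) (N (N (L 105968) (L 18624)) (N (L 137488) (L 248864))))) (N (N (N (N (L 166771) (L 220739)) (N (L 69523) (L 55971))) (N (N (L 51171) (L 70355)) (N (L 213763) (L 169523)))) (N (N (N (L 97857) (L 43889)) (N (L 195233) (L 208785))) (N (N (L 209617) (L 190433)) (N (L 46641) (L 90881))))))))))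

def autHi5 : Tr :=
  (N (N (N (N (N (N (N (N (N (L 0) (L 220758)) (N (L 195069) (L 108459))) (N (N (L 169951) (L 117129)) (N (L 28194) (L 209012)))) (N (N (N (L 97978) (L 139500)) (N (L 231239) (L 55569))) (N (N (L 256357) (L 46899)) (N (L 69784) (L 151246))))) (N (N (N (N (L 128278) (L 174912)) (N (L 199915) (L 21181))) (N (N (L 221897) (L 15519)) (N (L 105268) (L 181602)))) (N (N (N (L 35756) (L 251386)) (N (L 160337) (L 76807))) (N (N (L 138355) (L 82469)) (N (L 58766) (L 244696)))))) (N (N (N (N (N (L 241469) (L 61803)) (N (L 87744) (L 133270))) (N (N (L 80098) (L 157364)) (N (L 246047) (L 40777)))) (N (N (N (L 184711) (L 102353)) (N (L 10362) (L 226860))) (N (N (L 18008) (L 202766)) (N (L 180133) (L 123379))))) (N (N (N (N (L 154155) (L 66685)) (N (L 41942) (L 261504))) (N (N (L 52724) (L 234402)) (N (L 144393) (L 92767)))) (N (N (N (L 205969) (L 31431)) (N (L 122220) (L 164666))) (N (N (L 111438) (L 191768)) (N (L 215731) (L 5349))))))) (N (N (N (N (N (N (L 245719) (L 57729))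 (N (L 83498) (L 137340))) (N (N (L 75784) (L 161374)) (N (L 250357) (L 36771)))) (N (N (N (L 180589) (L 106299)) (N (L 14480) (L 222918))) (N (N (L 22194) (L 198884)) (N (L 175951) (L 127257))))) (N (N (N (N (L 150209) (L 70807)) (N (L 45884) (L 257386))) (N (N (L 56606) (L 230216)) (N (L 140515) (L 96949)))) (N (N (N (L 210043) (L 27181)) (N (L 118150) (L 168912))) (N (N (L 107428) (L 196082)) (N (L 219737) (L 1039)))))) (N (N (N (N (N (L 4330) (L 216764)) (N (L 190743) (L 112449))) (N (N (L 165685) (L 121187)) (N (L 32456) (L 204958)))) (N (N (N (L 93776) (L 143366)) (N (L 235437) (L 51707))) (N (N (L 260495) (L 42969)) (N (L 65650) (L 155172))))) (N (N (N (N (L 124412) (L 179114)) (N (L 203777) (L 16983))) (N (N (L 225827) (L 11381)) (N (L 101342) (L 185736)))) (N (N (N (L 39750) (L 247056)) (N (L 156347) (L 81133))) (N (N (L 134297) (L 86735)) (N (L 62820) (L 240434)))))))) (N (N (N (N (N (N (N (L 158398) (L 79080)) (N (L 37699) (L 249109))) (N (N (L 64865) (L 238391)) (N (L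 132252) (L 88778)))) (N (N (N (L 201732) (L 19026)) (N (L 126457) (L 177071))) (N (N (L 99291) (L 187789)) (N (L 227878) (L 9328))))) (N (N (N (N (L 237480) (L 49662)) (N (L 91733) (L 145411))) (N (N (L 67703) (L 153121)) (N (L 258442) (L 45020)))) (N (N (N (L 188690) (L 114500)) (N (L 6383) (L 214713))) (N (N (L 30413) (L 207003)) (N (L 167728) (L 119142)))))) (N (N (N (N (N (L 116099) (L 170965)) (N (L 212094) (L 25128))) (N (N (L 217692) (L 3082)) (N (L 109473) (L 194039)))) (N (N (N (L 47929) (L 255343)) (N (L 148164) (L 72850))) (N (N (L 142566) (L 94896)) (N (L 54555) (L 232269))))) (N (N (N (N (L 12437) (L 224963)) (N (L 182632) (L 104254))) (N (N (L 173898) (L 129308)) (N (L 24247) (L 196833)))) (N (N (N (L 85551) (L 135289)) (N (L 243666) (L 59780))) (N (N (L 252400) (L 34726)) (N (L 73741) (L 163419))))))) (N (N (N (N (N (N (L 120169) (L 166719)) (N (L 208020) (L 29378))) (N (N (L 213686) (L 7392)) (N (L 113483) (L 189725)))) (N (N (N (L 43987) (L 259461)) (N (L 152110)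 (L 68728))) (N (N (L 146444) (L 90714)) (N (L 50673) (L 236455))))) (N (N (N (N (L 8319) (L 228905)) (N (L 186754) (L 100308))) (N (N (L 178080) (L 125430)) (N (L 20061) (L 200715)))) (N (N (N (L 89797) (L 131219)) (N (L 239416) (L 63854))) (N (N (L 248090) (L 38732)) (N (L 78055) (L 159409)))))) (N (N (N (N (N (L 162388) (L 74754)) (N (L 33705) (L 253439))) (N (N (L 60811) (L 242653)) (N (L 136310) (L 84512)))) (N (N (N (L 197870) (L 23224)) (N (L 130323) (L 172869))) (N (N (L 103217) (L 183655)) (N (L 223948) (L 13466))))) (N (N (N (N (L 233282) (L 53524)) (N (L 95935) (L 141545))) (N (N (L 71837) (L 149195)) (N (L 254304) (L 48950)))) (N (N (N (L 193016) (L 110510)) (N (L 2053) (L 218707))) (N (N (L 26151) (L 211057)) (N (L 171994) (L 115084))))))))) (N (N (N (N (N (N (N (N (L 158224) (L 78918)) (N (L 37869) (L 249275))) (N (N (L 64975) (L 238489)) (N (L 132146) (L 88676)))) (N (N (N (L 201898) (L 19196)) (N (L 126295) (L 176897))) (N (N (L 99189) (L 187683)) (N (L 227976) (L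 9438))))) (N (N (N (N (L 237318) (L 49488)) (N (L 91899) (L 145581))) (N (N (L 67801) (L 153231)) (N (L 258340) (L 44914)))) (N (N (N (L 188860) (L 114666)) (N (L 6209) (L 214551))) (N (N (L 30307) (L 206901)) (N (L 167838) (L 119240)))))) (N (N (N (N (N (L 116013) (L 170875)) (N (L 212176) (L 25222))) (N (N (L 217842) (L 3236)) (N (L 109327) (L 193881)))) (N (N (N (L 48023) (L 255425)) (N (L 148074) (L 72764))) (N (N (L 142408) (L 94750)) (N (L 54709) (L 232419))))) (N (N (N (N (L 12347) (L 224877)) (N (L 182726) (L 104336))) (N (N (L 174052) (L 129458)) (N (L 24089) (L 196687)))) (N (N (N (L 85633) (L 135383)) (N (L 243580) (L 59690))) (N (N (L 252254) (L 34568)) (N (L 73891) (L 163573))))))) (N (N (N (N (N (N (L 120263) (L 166801)) (N (L 207930) (L 29292))) (N (N (L 213528) (L 7246)) (N (L 113637) (L 189875)))) (N (N (N (L 43901) (L 259371)) (N (L 152192) (L 68822))) (N (N (L 146594) (L 90868)) (N (L 50527) (L 236297))))) (N (N (N (N (L 8401) (L 228999)) (N (L 186668) (L 100218)))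 (N (N (L 177934) (L 125272)) (N (L 20211) (L 200869)))) (N (N (N (L 89707) (L 131133)) (N (L 239510) (L 63936))) (N (N (L 248244) (L 38882)) (N (L 77897) (L 159263)))))) (N (N (N (N (N (L 162554) (L 74924)) (N (L 33543) (L 253265))) (N (N (L 60709) (L 242547)) (N (L 136408) (L 84622)))) (N (N (N (L 197696) (L 23062)) (N (L 130493) (L 173035))) (N (N (L 103327) (L 183753)) (N (L 223842) (L 13364))))) (N (N (N (N (L 233452) (L 53690)) (N (L 95761) (L 141383))) (N (N (L 71731) (L 149093)) (N (L 254414) (L 49048)))) (N (N (N (L 192854) (L 110336)) (N (L 2219) (L 218877))) (N (N (L 26249) (L 211167)) (N (L 171892) (L 114978)))))))) (N (N (N (N (N (N (N (L 174) (L 220920)) (N (L 194899) (L 108293))) (N (N (L 169841) (L 117031)) (N (L 28300) (L 209114)))) (N (N (N (L 97812) (L 139330)) (N (L 231401) (L 55743))) (N (N (L 256459) (L 47005)) (N (L 69686) (L 151136))))) (N (N (N (N (L 128440) (L 175086)) (N (L 199749) (L 21011))) (N (N (L 221799) (L 15409)) (N (L 105370) (L 181708)))) (N (N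 (N (L 35586) (L 251220)) (N (L 160511) (L 76969))) (N (N (L 138461) (L 82571)) (N (L 58656) (L 244598)))))) (N (N (N (N (N (L 241555) (L 61893)) (N (L 87662) (L 133176))) (N (N (L 79948) (L 157210)) (N (L 246193) (L 40935)))) (N (N (N (L 184617) (L 102271)) (N (L 10452) (L 226946))) (N (N (L 18166) (L 202912)) (N (L 179979) (L 123229))))) (N (N (N (N (L 154245) (L 66771)) (N (L 41848) (L 261422))) (N (N (L 52570) (L 234252)) (N (L 144551) (L 92913)))) (N (N (N (L 205887) (L 31337)) (N (L 122306) (L 164756))) (N (N (L 111584) (L 191926)) (N (L 215581) (L 5195))))))) (N (N (N (N (N (N (L 245625) (L 57647)) (N (L 83588) (L 137426))) (N (N (L 75942) (L 161520)) (N (L 250203) (L 36621)))) (N (N (N (L 180675) (L 106389)) (N (L 14398) (L 222824))) (N (N (L 22044) (L 198730)) (N (L 176097) (L 127415))))) (N (N (N (N (L 150127) (L 70713)) (N (L 45970) (L 257476))) (N (N (L 56752) (L 230374)) (N (L 140365) (L 96795)))) (N (N (N (L 210133) (L 27267)) (N (L 118056) (L 168830))) (N (N (L 107274)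 (L 195932)) (N (L 219895) (L 1185)))))) (N (N (N (N (N (L 4164) (L 216594)) (N (L 190905) (L 112623))) (N (N (L 165787) (L 121293)) (N (L 32358) (L 204848)))) (N (N (N (L 93950) (L 143528)) (N (L 235267) (L 51541))) (N (N (L 260385) (L 42871)) (N (L 65756) (L 155274))))) (N (N (N (N (L 124242) (L 178948)) (N (L 203951) (L 17145))) (N (N (L 225933) (L 11483)) (N (L 101232) (L 185638)))) (N (N (N (L 39912) (L 247230)) (N (L 156181) (L 80963))) (N (N (L 134199) (L 86625)) (N (L 62922) (L 240540))))))))))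

def autLo6 : Tr :=
  (N (N (N (N (N (N (N (N (N (L 0) (L 89416)) (N (L 69083) (L 20627))) (N (N (L 199606) (L 153342)) (N (L 132717) (L 219941)))) (N (N (N (L 109260) (L 63364)) (N (L 42775) (L 129631))) (N (N (L 172410) (L 261170)) (N (L 240801) (L 193001))))) (N (N (N (N (L 218504) (L 133312)) (N (L 153683) (L 197915))) (N (N (L 24126) (L 66422)) (N (L 87013) (L 3757)))) (N (N (N (L 196420) (L 238092)) (N (L 258719) (L 176087))) (N (N (L 128242) (L 43450)) (N (L 63785) (L 107617)))))) (N (N (N (N (N (L 154402) (L 198250)) (N (L 218873) (L 134065))) (N (N (L 86164) (L 3548)) (N (L 23887) (L 65543)))) (N (N (N (L 258542) (L 175270)) (N (L 195637) (L 237949))) (N (N (L 64088) (L 108304)) (N (L 128899) (L 43723))))) (N (N (N (N (L 69290) (L 21474)) (N (L 881) (L 89657))) (N (N (L 132380) (L 219220)) (N (L 198855) (L 152975)))) (N (N (N (L 42086) (L 129326)) (N (L 108989) (L 62709))) (N (N (L 241616) (L 193176)) (N (L 172555) (L 261955))))))) (N (N (N (N (N (N (L 128529) (L 43865))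 (N (L 64458) (L 108162))) (N (N (L 196007) (L 237807)) (N (L 258172) (L 175412)))) (N (N (N (L 23773) (L 65941)) (N (L 86278) (L 3150))) (N (N (L 218987) (L 133667)) (N (L 154288) (L 198648))))) (N (N (N (N (L 172953) (L 261841)) (N (L 241218) (L 193290))) (N (N (L 108591) (L 62823)) (N (L 42484) (L 129212)))) (N (N (N (L 198997) (L 152605)) (N (L 132238) (L 219590))) (N (N (L 739) (L 90027)) (N (L 69432) (L 21104)))))) (N (N (N (N (N (L 240947) (L 192635)) (N (L 172264) (L 261536))) (N (N (L 42629) (L 129997)) (N (L 109406) (L 62998)))) (N (N (N (L 133119) (L 219831)) (N (L 199204) (L 153452))) (N (N (L 68681) (L 20737)) (N (L 402) (L 89306))))) (N (N (N (N (L 63675) (L 108019)) (N (L 128352) (L 43048))) (N (N (L 258829) (L 175685)) (N (L 196310) (L 238494)))) (N (N (N (L 86647) (L 3903)) (N (L 24492) (L 66276))) (N (N (L 154049) (L 197769)) (N (L 218138) (L 133458)))))))) (N (N (N (N (N (N (N (L 35823) (L 120487)) (N (L 99892) (L 56188))) (N (N (L 229465) (L 187665)) (N (L 167298)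 (L 250058)))) (N (N (N (L 74019) (L 31851)) (N (L 11512) (L 94640))) (N (N (L 141973) (L 227293)) (N (L 206670) (L 162310))))) (N (N (N (N (L 253543) (L 164655)) (N (L 185276) (L 233204))) (N (N (L 54737) (L 100505)) (N (L 120842) (L 34114)))) (N (N (N (L 160939) (L 207331)) (N (L 227696) (L 140344))) (N (N (L 98077) (L 8789)) (N (L 29382) (L 77710)))))) (N (N (N (N (N (L 184525) (L 232837)) (N (L 253206) (L 163934))) (N (N (L 121723) (L 34355)) (N (L 54944) (L 101352)))) (N (N (N (L 227841) (L 141129)) (N (L 161754) (L 207506))) (N (N (L 29111) (L 77055)) (N (L 97388) (L 8484))))) (N (N (N (N (L 99653) (L 55309)) (N (L 34974) (L 120278))) (N (N (L 167667) (L 250811)) (N (L 230184) (L 188000)))) (N (N (N (L 12169) (L 94913)) (N (L 74322) (L 32538))) (N (N (L 205887) (L 162167)) (N (L 141796) (L 226476))))))) (N (N (N (N (N (N (L 97790) (L 8374)) (N (L 28709) (L 77165))) (N (N (L 161352) (L 207616)) (N (L 228243) (L 141019)))) (N (N (N (L 55090) (L 100986)) (N (L 121577) (L 34721)))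 (N (N (L 253060) (L 164300)) (N (L 184671) (L 232471))))) (N (N (N (N (L 141430) (L 226622)) (N (L 206253) (L 162021))) (N (N (L 74688) (L 32392)) (N (L 11803) (L 95059)))) (N (N (N (L 230074) (L 188402)) (N (L 167777) (L 250409))) (N (N (L 35084) (L 119876)) (N (L 99543) (L 55711)))))) (N (N (N (N (N (L 206556) (L 162708)) (N (L 142087) (L 226895))) (N (N (L 11626) (L 94242)) (N (L 73905) (L 32249)))) (N (N (N (L 166928) (L 250200)) (N (L 229835) (L 187523))) (N (N (L 100262) (L 56046)) (N (L 35453) (L 120629))))) (N (N (N (N (L 29524) (L 77340)) (N (L 97935) (L 9159))) (N (N (L 227554) (L 140714)) (N (L 161081) (L 206961)))) (N (N (N (L 121240) (L 34000)) (N (L 54339) (L 100619))) (N (N (L 184878) (L 233318)) (N (L 253941) (L 164541))))))))) (N (N (N (N (N (N (N (N (L 18074) (L 72658)) (N (L 84801) (L 5641))) (N (N (L 216364) (L 135268)) (N (L 147703) (L 204223)))) (N (N (N (L 126038) (L 45342)) (N (L 57741) (L 113861))) (N (N (L 190432) (L 244392)) (N (L 256571) (L 178035)))))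 (N (N (N (N (L 201490) (L 151130)) (N (L 138953) (L 213889))) (N (N (L 6308) (L 83436)) (N (L 71039) (L 18487)))) (N (N (N (L 178654) (L 255126)) (N (L 242693) (L 190797))) (N (N (L 111208) (L 61216)) (N (L 49075) (L 123643)))))) (N (N (N (N (N (L 138680) (L 213232)) (N (L 200803) (L 150827))) (N (N (L 71182) (L 19270)) (N (L 7125) (L 83613)))) (N (N (N (L 243572) (L 191036)) (N (L 178863) (L 255975))) (N (N (L 48322) (L 123274)) (N (L 110873) (L 60497))))) (N (N (N (N (L 84016) (L 5496)) (N (L 17899) (L 71843))) (N (N (L 148358) (L 204494)) (N (L 216669) (L 135957)))) (N (N (N (L 58108) (L 114612)) (N (L 126759) (L 45679))) (N (N (L 256330) (L 177154)) (N (L 189585) (L 244185))))))) (N (N (N (N (N (N (L 110731) (L 60867)) (N (L 48464) (L 122904))) (N (N (L 179005) (L 255605)) (N (L 243430) (L 191406)))) (N (N (N (L 6727) (L 83727)) (N (L 71580) (L 19156))) (N (N (L 201201) (L 150713)) (N (L 138282) (L 213346))))) (N (N (N (N (L 189699) (L 243787)) (N (L 256216) (L 177552))) (N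 (N (L 126645) (L 46077)) (N (L 58222) (L 114214)))) (N (N (N (L 217039) (L 135815)) (N (L 147988) (L 204636))) (N (N (L 17529) (L 71985)) (N (L 84386) (L 5354)))))) (N (N (N (N (N (L 256937) (L 177889)) (N (L 190066) (L 244538))) (N (N (L 57375) (L 114007)) (N (L 126404) (L 45196)))) (N (N (N (L 147813) (L 203821)) (N (L 216254) (L 135670))) (N (N (L 84691) (L 6043)) (N (L 18184) (L 72256))))) (N (N (N (N (L 48673) (L 123753)) (N (L 111610) (L 61106))) (N (N (L 243095) (L 190687)) (N (L 178252) (L 255236)))) (N (N (N (L 70893) (L 18853)) (N (L 6454) (L 83070))) (N (N (L 139099) (L 213523)) (N (L 201344) (L 151496)))))))) (N (N (N (N (N (N (N (L 52597) (L 102461)) (N (L 114862) (L 40422))) (N (N (L 247491) (L 170891)) (N (L 183064) (L 235088)))) (N (N (N (L 92089) (L 15089)) (N (L 27234) (L 79658))) (N (N (L 158735) (L 209223)) (N (L 221652) (L 146588))))) (N (N (N (N (L 235773) (L 181685)) (N (L 169254) (L 247918))) (N (N (L 37707) (L 118275)) (N (L 106128) (L 50136)))) (N (N (N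 (L 143921) (L 225145)) (N (L 212970) (L 156322))) (N (N (L 80263) (L 25807)) (N (L 13404) (L 92436)))))) (N (N (N (N (N (L 169559) (L 248607)) (N (L 236428) (L 181956))) (N (N (L 105953) (L 49321)) (N (L 36922) (L 118130)))) (N (N (N (L 212123) (L 156115)) (N (L 143680) (L 224264))) (N (N (L 14125) (L 92773)) (N (L 80630) (L 26558))))) (N (N (N (N (L 115679) (L 40599)) (N (L 52740) (L 103244))) (N (N (L 182377) (L 234785)) (N (L 247218) (L 170234)))) (N (N (N (L 26899) (L 78939)) (N (L 91336) (L 14720))) (N (N (L 221861) (L 147437)) (N (L 159614) (L 209462))))))) (N (N (N (N (N (N (L 80740) (L 26156)) (N (L 14015) (L 93175))) (N (N (L 143570) (L 224666)) (N (L 212233) (L 155713)))) (N (N (N (L 37288) (L 117984)) (N (L 105587) (L 49467))) (N (N (L 236062) (L 182102)) (N (L 169925) (L 248461))))) (N (N (N (N (L 159468) (L 209828)) (N (L 222007) (L 147071))) (N (N (L 91482) (L 14354)) (N (L 26753) (L 79305)))) (N (N (N (L 246816) (L 170344)) (N (L 182779) (L 234675))) (N (N (L 53142)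 (L 103134)) (N (L 115277) (L 40709)))))) (N (N (N (N (N (L 221254) (L 146702)) (N (L 159133) (L 209109))) (N (N (L 27632) (L 79544)) (N (L 91691) (L 15203)))) (N (N (N (L 182922) (L 235458)) (N (L 247633) (L 170521))) (N (N (L 115004) (L 40052)) (N (L 52455) (L 102831))))) (N (N (N (N (L 13774) (L 92294)) (N (L 79893) (L 25949))) (N (N (L 212600) (L 156464)) (N (L 144291) (L 225003)))) (N (N (N (L 106242) (L 49738)) (N (L 37593) (L 118673))) (N (N (L 169140) (L 248316)) (N (L 235887) (L 181287))))))))))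

def autHi6 : Tr :=
  (N (N (N (N (N (N (N (N (N (L 0) (L 48475)) (N (L 27638) (L 54957))) (N (N (L 156407) (L 188332)) (N (L 133377) (L 177242)))) (N (N (N (L 119214) (L 93429)) (N (L 113240) (L 67331))) (N (N (L 242521) (L 200194)) (N (L 252079) (L 222708))))) (N (N (N (N (L 241969) (L 199786)) (N (L 252615) (L 223132))) (N (N (L 119750) (L 93853)) (N (L 112688) (L 66923)))) (N (N (N (L 155807) (L 187844)) (N (L 133993) (L 177714))) (N (N (L 616) (L 48947)) (N (L 27038) (L 54469)))))) (N (N (N (N (N (L 156451) (L 188024)) (N (L 133333) (L 177550))) (N (N (L 468) (L 48271)) (N (L 27170) (L 55161)))) (N (N (N (L 242317) (L 200662)) (N (L 252283) (L 222240))) (N (N (L 118906) (L 93473)) (N (L 113548) (L 67287))))) (N (N (N (N (L 119314) (L 94025)) (N (L 113124) (L 66751))) (N (N (L 241893) (L 200126)) (N (L 252691) (L 222792)))) (N (N (N (L 956) (L 48871)) (N (L 26698) (L 54545))) (N (N (L 155979) (L 187408)) (N (L 133821) (L 178150))))))) (N (N (N (N (N (N (L 18814) (L 62501)) (N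 (L 8840) (L 40915))) (N (N (L 142217) (L 169682)) (N (L 147583) (L 195876)))) (N (N (N (L 104656) (L 75147)) (N (L 127782) (L 85629))) (N (N (L 260647) (L 214908)) (N (L 233937) (L 208010))))) (N (N (N (N (L 260175) (L 214292)) (N (L 234425) (L 208610))) (N (N (L 105144) (L 75747)) (N (L 127310) (L 85013)))) (N (N (N (L 141793) (L 169146)) (N (L 147991) (L 196428))) (N (N (L 19222) (L 63053)) (N (L 8416) (L 40379)))))) (N (N (N (N (N (L 141917) (L 169734)) (N (L 147883) (L 195824))) (N (N (L 18602) (L 62961)) (N (L 9052) (L 40455)))) (N (N (N (L 261107) (L 214696)) (N (L 233477) (L 208222))) (N (N (L 104708) (L 74847)) (N (L 127730) (L 85929))))) (N (N (N (N (L 105324) (L 75319)) (N (L 127130) (L 85441))) (N (N (L 260507) (L 214208)) (N (L 234093) (L 208694)))) (N (N (N (L 19138) (L 63385)) (N (L 8500) (L 40047))) (N (N (L 141365) (L 169326)) (N (L 148419) (L 196248)))))))) (N (N (N (N (N (N (N (L 51177) (L 31410)) (N (L 44063) (L 4420))) (N (N (L 173342) (L 137285)) (N (L 184040)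 (L 160691)))) (N (N (N (L 71239) (L 109340)) (N (L 97713) (L 114922))) (N (N (L 226480) (L 248299)) (N (L 204614) (L 238109))))) (N (N (N (N (L 227032) (L 248707)) (N (L 204078) (L 237685))) (N (N (L 70703) (L 108916)) (N (L 98265) (L 115330)))) (N (N (N (L 173942) (L 137773)) (N (L 183424) (L 160219))) (N (N (L 50561) (L 30938)) (N (L 44663) (L 4908)))))) (N (N (N (N (N (L 173258) (L 137617)) (N (L 184124) (L 160359))) (N (N (L 50749) (L 31590)) (N (L 44491) (L 4240)))) (N (N (N (L 226660) (L 247871)) (N (L 204434) (L 238537))) (N (N (L 71571) (L 109256)) (N (L 97381) (L 115006))))) (N (N (N (N (L 71163) (L 108704)) (N (L 97805) (L 115542))) (N (N (L 227084) (L 248407)) (N (L 204026) (L 237985)))) (N (N (N (L 50261) (L 30990)) (N (L 44963) (L 4856))) (N (N (L 173730) (L 138233)) (N (L 183636) (L 159759))))))) (N (N (N (N (N (N (L 36503) (L 13260)) (N (L 58721) (L 22586))) (N (N (L 191584) (L 151867)) (N (L 165782) (L 146125)))) (N (N (N (L 89913) (L 123490)) (N (L 79055) (L 100756)))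 (N (N (L 212430) (L 229525)) (N (L 218680) (L 256867))))) (N (N (N (N (L 212902) (L 230141)) (N (L 218192) (L 256267))) (N (N (L 89425) (L 122890)) (N (L 79527) (L 101372)))) (N (N (N (L 192008) (L 152403)) (N (L 165374) (L 145573))) (N (N (L 36095) (L 12708)) (N (L 59145) (L 23122)))))) (N (N (N (N (N (L 191924) (L 151791)) (N (L 165442) (L 146201))) (N (N (L 36675) (L 12824)) (N (L 58549) (L 23022)))) (N (N (N (L 211994) (L 229697)) (N (L 219116) (L 256695))) (N (N (L 89837) (L 123830)) (N (L 79131) (L 100416))))) (N (N (N (N (L 89221) (L 123358)) (N (L 79731) (L 100904))) (N (N (L 212594) (L 230185)) (N (L 218500) (L 256223)))) (N (N (N (L 36139) (L 12400)) (N (L 59101) (L 23430))) (N (N (L 192476) (L 152199)) (N (L 164906) (L 145777))))))))) (N (N (N (N (N (N (N (N (L 173708) (L 138199)) (N (L 183674) (L 159777))) (N (N (L 50299) (L 31008)) (N (L 44941) (L 4822)))) (N (N (N (L 227106) (L 248441)) (N (L 203988) (L 237967))) (N (N (L 71125) (L 108686)) (N (L 97827) (L 115576)))))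 (N (N (N (N (L 71613) (L 109286)) (N (L 97355) (L 114960))) (N (N (L 226634) (L 247825)) (N (L 204476) (L 238567)))) (N (N (N (L 50707) (L 31560)) (N (L 44517) (L 4286))) (N (N (L 173284) (L 137663)) (N (L 184082) (L 160329)))))) (N (N (N (N (N (L 50607) (L 30964)) (N (L 44633) (L 4866))) (N (N (L 173912) (L 137731)) (N (L 183470) (L 160245)))) (N (N (N (L 70657) (L 108890)) (N (L 98295) (L 115372))) (N (N (L 227062) (L 248749)) (N (L 204032) (L 237659))))) (N (N (N (N (L 226462) (L 248261)) (N (L 204648) (L 238131))) (N (N (L 71273) (L 109362)) (N (L 97695) (L 114884)))) (N (N (N (L 173360) (L 137323)) (N (L 184006) (L 160669))) (N (N (L 51143) (L 31388)) (N (L 44081) (L 4458))))))) (N (N (N (N (N (N (L 192498) (L 152233)) (N (L 164868) (L 145759))) (N (N (L 36101) (L 12382)) (N (L 59123) (L 23464)))) (N (N (N (L 212572) (L 230151)) (N (L 218538) (L 256241))) (N (N (L 89259) (L 123376)) (N (L 79709) (L 100870))))) (N (N (N (N (L 89795) (L 123800)) (N (L 79157) (L 100462))) (N (N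 (L 212020) (L 229743)) (N (L 219074) (L 256665)))) (N (N (N (L 36717) (L 12854)) (N (L 58523) (L 22976))) (N (N (L 191898) (L 151745)) (N (L 165484) (L 146231)))))) (N (N (N (N (N (L 36049) (L 12682)) (N (L 59175) (L 23164))) (N (N (L 192038) (L 152445)) (N (L 165328) (L 145547)))) (N (N (N (L 89471) (L 122916)) (N (L 79497) (L 101330))) (N (N (L 212872) (L 230099)) (N (L 218238) (L 256293))))) (N (N (N (N (L 212448) (L 229563)) (N (L 218646) (L 256845))) (N (N (L 89879) (L 123468)) (N (L 79073) (L 100794)))) (N (N (N (L 191566) (L 151829)) (N (L 165816) (L 146147))) (N (N (L 36537) (L 13282)) (N (L 58703) (L 22548)))))))) (N (N (N (N (N (N (N (L 156005) (L 187454)) (N (L 133779) (L 178120))) (N (N (L 914) (L 48841)) (N (L 26724) (L 54591)))) (N (N (N (L 241867) (L 200080)) (N (L 252733) (L 222822))) (N (N (L 119356) (L 94055)) (N (L 113098) (L 66705))))) (N (N (N (N (L 118868) (L 93455)) (N (L 113570) (L 67321))) (N (N (L 242339) (L 200696)) (N (L 252245) (L 222222)))) (N (N (N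 (L 506) (L 48289)) (N (L 27148) (L 55127))) (N (N (L 156429) (L 187990)) (N (L 133371) (L 177568)))))) (N (N (N (N (N (L 582) (L 48925)) (N (L 27056) (L 54507))) (N (N (L 155825) (L 187882)) (N (L 133959) (L 177692)))) (N (N (N (L 119784) (L 93875)) (N (L 112670) (L 66885))) (N (N (L 241951) (L 199748)) (N (L 252649) (L 223154))))) (N (N (N (N (L 242551) (L 200236)) (N (L 252033) (L 222682))) (N (N (L 119168) (L 93403)) (N (L 113270) (L 67373)))) (N (N (N (L 156377) (L 188290)) (N (L 133423) (L 177268))) (N (N (L 46) (L 48501)) (N (L 27608) (L 54915))))))) (N (N (N (N (N (N (L 141339) (L 169280)) (N (L 148461) (L 196278))) (N (N (L 19180) (L 63415)) (N (L 8474) (L 40001)))) (N (N (N (L 260533) (L 214254)) (N (L 234051) (L 208664))) (N (N (L 105282) (L 75289)) (N (L 127156) (L 85487))))) (N (N (N (N (L 104746) (L 74865)) (N (L 127708) (L 85895))) (N (N (L 261085) (L 214662)) (N (L 233515) (L 208240)))) (N (N (N (L 18564) (L 62943)) (N (L 9074) (L 40489))) (N (N (L 141939) (L 169768))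 (N (L 147845) (L 195806)))))) (N (N (N (N (N (L 19256) (L 63075)) (N (L 8398) (L 40341))) (N (N (L 141775) (L 169108)) (N (L 148025) (L 196450)))) (N (N (N (L 105110) (L 75725)) (N (L 127328) (L 85051))) (N (N (L 260193) (L 214330)) (N (L 234391) (L 208588))))) (N (N (N (N (L 260617) (L 214866)) (N (L 233983) (L 208036))) (N (N (L 104702) (L 75173)) (N (L 127752) (L 85587)))) (N (N (N (L 142247) (L 169724)) (N (L 147537) (L 195850))) (N (N (L 18768) (L 62475)) (N (L 8870) (L 40957))))))))))

def autTab : ℕ → Tr × Tr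
  | 0 => (autLo0, autHi0)
  | 1 => (autLo1, autHi1)
  | 2 => (autLo2, autHi2)
  | 3 => (autLo3, autHi3)
  | 4 => (autLo4, autHi4)
  | 5 => (autLo5, autHi5)
  | _ => (autLo6, autHi6)

/-- Columns of the seven maps. -/
def autCols : List (List ℕ) := [[1, 8, 32, 128, 768, 3072, 8192, 49152, 196608], [1, 4192, 4172, 180, 213248, 216064, 12312, 34304, 67072], [24617, 165579, 236232, 41137, 153816, 32433, 117541, 105819, 22765], [23647, 99069, 183696, 223995, 23245, 41377, 80096, 72123, 78291], [77809, 168458, 154530, 97357, 168086, 181158, 28149, 10771, 152397], [23830, 26037, 175905, 150672, 120112, 158398, 241469, 97978, 195069], [18074, 128529, 218504, 199606, 89416, 51177, 156451, 119214, 27638]]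

/-- Maps commuting with the element of order nineteen. -/
def commCols : List (List ℕ) := [[1, 4, 16, 64, 256, 1024, 4096, 16384, 65536], [4, 53508, 260939, 16128, 113220, 146714, 83531, 170184, 56252], [16, 260939, 95604, 3843, 77871, 214786, 127095, 143207, 131294], [64, 16128, 3843, 13059, 65576, 114720, 15363, 49192, 114696], [256, 113220, 77871, 65576, 151901, 6416, 12371, 199525, 222706], [1024, 146714, 214786, 114720, 6416, 187900, 169782, 11560, 126004], [4096, 83531, 127095, 15363, 12371, 169782, 121904, 240463, 53206], [16384, 170184, 143207, 49192, 199525, 11560, 240463, 127531, 135319], [65536, 56252, 131294, 114696, 222706, 126004, 53206, 135319, 53526]]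

def eWord : List ℕ := [3, 2, 0, 2, 0, 3, 2, 0, 1, 2, 3, 0, 2, 3, 0, 2, 2, 1, 2, 3, 0, 2, 2, 1, 2, 3, 0, 2, 2, 1, 2, 3, 0, 2, 2, 1, 2, 2, 2, 1, 2, 3, 0]

def tEltWord : List ℕ := [2, 2, 1, 2, 3, 0, 2, 2, 1, 2, 2, 2, 1, 2, 3, 0, 2, 2, 1, 2, 3, 0, 2, 2, 1, 2, 2, 2, 1, 2, 3, 0, 2, 2, 1, 2, 3, 0, 2, 2, 1, 2, 2, 2, 1, 2, 3, 0, 2, 2, 1, 2, 3, 0, 2, 2, 1, 2, 2, 2, 1, 2, 3, 0, 2, 2, 1, 2, 3, 0, 2, 2, 1, 2, 2, 2, 1, 2, 3, 0]

def fWord : List ℕ := [2, 2, 1, 2, 3, 0, 2, 2, 1, 2, 3, 0, 2, 2, 1, 2, 2, 2, 1, 2, 3, 0, 2, 2, 1, 2, 2, 2, 1, 2, 3, 0, 2, 2, 1, 2, 2, 2, 1, 2, 3, 0, 2, 2, 1, 2, 3, 0, 2, 2, 1, 2, 2, 2, 1, 2, 3, 0, 2, 2, 1, 2, 2, 2, 1, 2, 3, 0, 2, 2, 1, 2, 2, 2, 1, 2]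

def fixLines : List ℕ := [26068, 29147, 71189, 71482, 87471, 106897, 112027, 114026, 130528]

def fixWord : List (List ℕ) := [[0, 3, 2, 1, 0, 2, 3, 0, 2], [0, 0, 0, 3, 1, 2, 3, 0, 0, 2, 3, 2, 2], [1, 2, 0, 3, 2, 2, 3, 2], [2, 2, 2, 3, 2, 3, 1, 0, 2, 3, 2], [3, 0, 0, 2, 2, 0, 3, 2, 1, 2, 3, 2], [2, 2, 0, 2, 3, 0, 0, 2, 0, 3, 2, 2], [0, 2, 3, 2, 0, 2, 3, 1, 1, 2, 3, 0, 2], [3, 0, 0, 2, 2, 0, 3, 2, 1, 2, 0, 3, 2], [2, 2, 2, 3, 2, 2, 2, 1, 2, 3, 0, 2]]

def baseFix : ℕ := 8

def basePow : ℕ := 2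

def lineCycle : List ℕ := [1, 64, 1326, 4176, 4353, 21678, 30158, 32594, 66187, 81003, 84058, 84691, 89090, 92258, 93677, 111585, 114400, 116404, 126639]

def genExpr : List (List ℕ) := [[5, 4, 3, 2, 3, 2, 0, 0, 2, 0, 1, 5, 4], [2, 4, 4, 0, 0, 4, 5, 0, 1, 2, 4, 0], [3, 1, 5, 3, 1, 5, 4, 0, 0, 2, 1, 1], [0, 2, 0, 2, 0, 2, 4, 3, 5, 0, 0, 0, 5]]

def sigmaWord : List (List ℕ) := [[2, 2, 1, 2, 2, 2, 1, 2, 3, 0, 2, 2, 1, 2, 2, 2, 1, 2, 3, 0, 2, 2, 1, 2, 3, 0, 2, 2, 1, 2, 3, 0, 2, 2, 1, 2, 2, 2, 1, 2, 3, 0, 2, 2, 1, 2, 2, 2, 1, 2, 3, 0, 2, 2, 1, 2, 3, 0, 2, 2, 1, 2, 3, 0, 2, 2, 1, 2, 3, 0, 2, 2, 1, 2, 2, 2, 1, 2, 3, 0, 2, 2, 1, 2, 2, 2, 1, 2, 3, 0, 2, 2, 1, 2], [2, 2, 1, 2, 2, 2, 1, 2, 3, 0, 2, 2, 1, 2, 3, 0, 2, 2, 1, 2, 2, 2, 1, 2, 3, 0, 2, 2, 1, 2, 3, 0, 2, 2, 1, 2, 2, 2, 1, 2, 3, 0, 2, 2, 1, 2, 3, 0, 2, 2, 1, 2, 2, 2, 1, 2, 3, 0, 2, 2, 1, 2, 3, 0, 2, 2, 1, 2, 2, 2, 1, 2, 3, 0, 2, 2, 1, 2, 3, 0], [2], [2, 2, 1, 2, 2, 2, 1, 2, 3, 0, 2, 2, 1, 2, 3, 0, 2, 2, 1, 2, 3, 0, 2, 2, 1, 2, 2,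 2, 1, 2, 3, 0, 2, 2, 1, 2, 3, 0, 2, 2, 1, 2, 3, 0, 2, 2, 1, 2, 3, 0, 2, 2, 1, 2, 3, 0, 2, 2, 1, 2, 3, 0, 2, 2, 1, 2, 3, 0]]

end Cfsg.Agent.Lib.JankoThree
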