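import Cfsg.Agent.Lib.JankoThree.Checks

/-! # Splitting a check over an enumeration -/

set_option autoImplicit false

namespace Cfsg.Agent.Lib.JankoThree

/-- A check on all members of a shifted enumeration. -/
def chk (k off : ℕ) (b : Bool) (P : ℕ → Bool) : Bool := (enum k b).all fun w => P (off + w)

/-- The number of members of a shifted enumeration satisfying `P`. -/
def cnt (k off : ℕ) (b : Bool) (P : ℕ → Bool) : ℕ := (enum k b).countP fun w => P (off + w)

theorem chk_succ {k off : ℕ} {b : Bool} {P : ℕ → Bool} (h0 : chk k off b P = true)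
    (h1 : chk k (off + 4 ^ k) (!b) P = true) (h2 : chk k (off + 2 * 4 ^ k) (!b) P = true)
    (h3 : chk k (off + 3 * 4 ^ k) (!b) P = true) : chk (k + 1) off b P = true := by
  simp only [chk, List.all_eq_true] at h0 h1 h2 h3 ⊢
  intro w hw
  simp only [enum, List.mem_append, List.mem_map] at hw
  rcases hw with hw | ⟨u, hu, rfl⟩ | ⟨u, hu, rfl⟩ | ⟨u, hu, rfl⟩
  · exact h0 w hw
  · rw [← add_assoc]; exact h1 u hu
  · rw [← add_assoc]; exact h2 u hu
  · rw [← add_assoc]; exact h3 u hu

theorem cnt_succ {k off : ℕ} {b : Bool} {P : ℕ → Bool} {a0 a1 a2 a3 : ℕ} (h0 : cnt k off b P = a0)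
    (h1 : cnt k (off + 4 ^ k) (!b) P = a1) (h2 : cnt k (off + 2 * 4 ^ k) (!b) P = a2)
    (h3 : cnt k (off + 3 * 4 ^ k) (!b) P = a3) :
    cnt (k + 1) off b P = a0 + (a1 + (a2 + a3)) := by
  subst h0 h1 h2 h3
  simp only [cnt, enum, List.countP_append, List.countP_map, Function.comp_def, add_assoc]

/-- Membership in the orbit of the first basis line. -/
def inOrb (v : ℕ) : Bool := Nat.blt 0 (depth v)

end Cfsg.Agent.Lib.JankoThree
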