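import Cfsg.Agent.Lib.JankoThree.OrderDefs
import Cfsg.Agent.Lib.JankoThree.AutData
import Cfsg.Agent.Lib.JankoThree.Parts

/-! # Checks used for the automorphism group -/

set_option autoImplicit false
set_option maxRecDepth 100000

namespace Cfsg.Agent.Lib.JankoThree

def mulS (c x : ℕ) : ℕ := bif Nat.beq c 0 then 0 else scalC c x

/-- The image of a vector under the map with the given columns. -/
def colAp (L : List ℕ) (v : ℕ) : ℕ :=
  fce v fun v => xor9 fun k => fce (dig k v) fun c => mulS c (L.getD k 0)

def mapCol (L : List ℕ) : List ℕ → List ℕ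
  | [] => []
  | v :: l => colAp L v :: mapCol L l

def mapTab (t : Tr × Tr) : List ℕ → List ℕ
  | [] => []
  | v :: l => fce v (fun v => ap t v) :: mapTab t l

def mapScal (c : ℕ) : List ℕ → List ℕ
  | [] => []
  | v :: l => fce v (fun v => scalC c v) :: mapScal c l

/-- Equal up to a scalar. -/
def projEq (L M : List ℕ) : Bool := beqL L M || (beqL L (mapScal 2 M) || beqL L (mapScal 3 M))

def autC (j : ℕ) : List ℕ := autCols.getD j []

def tabColsOk (j : ℕ) : Bool :=
  (List.range 512).all fun n => Nat.beq ((autTab j).1.get n) (colAp (autC j) n) &&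
    (Nat.beq ((autTab j).2.get n) (colAp (autC j) (512 * n)) &&
      (Nat.blt ((autTab j).1.get n) 262144 && Nat.blt ((autTab j).2.get n) 262144))

def memN : List ℕ → ℕ → Bool
  | [], _ => false
  | a :: l, v => Nat.beq a v || memN l v

/-- Membership of a line in the orbit. -/
def inLines (w : ℕ) : Bool :=
  fce w fun w => Nat.blt 0 w && fce (nrmC w) fun y => isN y && (par9 y && Nat.blt 0 (depth y))

/-- All the facts about a line of the orbit. -/
def scanOk (v : ℕ) : Bool :=
  fce v fun v => bif Nat.beq (depth v) 0 then true else
    fce (ap (autTab 0) v) fun wt => fce (ap (autTab 1) v) fun wf => fce (ap (autTab 2) v) fun we =>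
    (bif Nat.beq wt (scalC ((autC 0).getD 0 0) v) then Nat.beq v 1 else true) &&
    ((bif Nat.beq (nrmC wf) v then Nat.beq v 1 else true) &&
    ((bif Nat.beq (nrmC we) v then memN fixLines v else true) &&
    (bif inLines (ap (autTab 3) v) then
      bif inLines (ap (autTab 4) v) then
        bif inLines (ap (autTab 5) v) then
          bif inLines (ap (autTab 6) v) then memN lineCycle v else true
        else true
      else true
    else true)))

/-- The elements of order three commuting with the element of order five. -/
def centOk (d : ℕ) : Bool :=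
  fce d fun d =>
    bif beqL (mapTab (autTab 1) (hCols d)) (mapCol (hCols d) (autC 1)) then
      projEq (hCols d) idCols || (projEq (hCols d) (autC 0) ||
        (projEq (hCols d) (mapCol (autC 0) (autC 0)) ||
          !projEq (mapCol (hCols d) (mapCol (hCols d) (hCols d))) idCols))
    else true

end Cfsg.Agent.Lib.JankoThree
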