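import Cfsg.Agent.Lib.JankoThree.Simple
import Cfsg.Agent.Lib.JankoThree.AutDefs

/-! # Meaning of the column lists and the classes of `J₃` -/

set_option autoImplicit false
set_option maxRecDepth 100000

namespace Cfsg.Agent.Lib.JankoThree

open Cfsg.Spor Matrix

variable {F : Type*} [Field F] [Fintype F] {ω : F}

theorem memN_spec : ∀ {l : List ℕ} {v : ℕ}, memN l v = true → v ∈ l
  | [], v, h => by simp [memN] at h
  | a :: l, v, h => by
    simp only [memN, Bool.or_eq_true, Nat.beq_eq] at h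
    rcases h with rfl | h
    · exact List.mem_cons_self
    · exact List.mem_cons_of_mem _ (memN_spec h)

theorem beqL_refl : ∀ l : List ℕ, beqL l l = true
  | [] => rfl
  | a :: l => by
    have : Nat.beq a a = true := Nat.beq_refl a
    simp [beqL, this, beqL_refl l]

/-- The matrix with the given columns. -/
def colMat (ω : F) (L : List ℕ) : Matrix F9 F9 F :=
  Matrix.of fun w z => vec ω (L.getD (idx z) 0) w

omit [Fintype F] in
theorem colMat_single (L : List ℕ) (z : F9) :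
    colMat ω L *ᵥ Pi.single z (1 : F) = vec ω (L.getD (idx z) 0) := by
  rw [Matrix.mulVec_single_one]; rfl

omit [Fintype F] in
theorem Rep.val {g : GL F9 F} {L : List ℕ} (hg : Rep ω g L) : (g : Matrix F9 F9 F) = colMat ω L := by
  ext w z
  have := congrFun (hg.2.2 z) w
  rwa [Matrix.mulVec_single_one] at this

/-- A list of nine vectors. -/
def Wf (L : List ℕ) : Prop := L.length = 9 ∧ ∀ v ∈ L, v < 4 ^ 9

omit [Fintype F] in
theorem Rep.wf {g : GL F9 F} {L : List ℕ} (hg : Rep ω g L) : Wf L := ⟨hg.1, hg.2.1⟩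

theorem Wf.getD {L : List ℕ} (hL : Wf L) (k : ℕ) : L.getD k 0 < 4 ^ 9 := by
  rcases lt_or_ge k L.length with h | h
  · rw [List.getD_eq_getElem _ _ h]; exact hL.2 _ (List.getElem_mem h)
  · rw [List.getD_eq_default _ _ h]; norm_num

theorem dig_xor9 (i : ℕ) (f : ℕ → ℕ) : dig i (xor9 f) = xor9 fun k => dig i (f k) := by
  simp only [xor9, dig_xor]

theorem xor9_lt_pow {f : ℕ → ℕ} (hf : ∀ k, f k < 4 ^ 9) : xor9 f < 4 ^ 9 := by
  have g : ∀ {a b : ℕ}, a < 4 ^ 9 → b < 4 ^ 9 → a ^^^ b < 4 ^ 9 := fun ha hb =>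
    Nat.xor_lt_two_pow (n := 18) ha hb
  exact g (g (g (g (hf 0) (hf 1)) (hf 2)) (g (g (hf 3) (hf 4)) (hf 5))) (g (g (hf 6) (hf 7)) (hf 8))

theorem mapScal_eq (c : ℕ) : ∀ L : List ℕ, mapScal c L = L.map (scalC c)
  | [] => rfl
  | v :: l => by rw [mapScal, fce_eq, mapScal_eq c l, List.map_cons]

theorem mapCol_eq (L : List ℕ) : ∀ M : List ℕ, mapCol L M = M.map (colAp L)
  | [] => rfl
  | v :: l => by rw [mapCol, mapCol_eq L l, List.map_cons]

theorem mapTab_eq (t : Tr × Tr) : ∀ M : List ℕ, mapTab t M = M.map (ap t)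
  | [] => rfl
  | v :: l => by rw [mapTab, fce_eq, mapTab_eq t l, List.map_cons]

namespace Setup

variable (h : Setup ω)

include h

theorem vec_xor9 (f : ℕ → ℕ) : vec ω (xor9 f) = ∑ t, vec ω (f (idx t)) := by
  funext z
  rw [Finset.sum_apply, vec, dig_xor9, h.phi_xor9 fun k => dig_lt _ _]
  rfl

theorem scalC_val (c : ℕ) (hc : c < 4) (hc0 : c ≠ 0) {v : ℕ} (hv : v < 4 ^ 9) :
    scalC c v < 4 ^ 9 ∧ vec ω (scalC c v) = phi ω c • vec ω v := by
  have key : ∀ i, i < 6 → ∀ d, d = 2 ∨ d = 3 → gLit i = cScal d →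
      ap (tab i) v < 4 ^ 9 ∧ vec ω (ap (tab i) v) = phi ω d • vec ω v := by
    intro i hi d hd e
    refine ⟨ap_lt (tab_small i hi) hv, ?_⟩
    rw [h.vec_ap (small_gLit i hi) (tabOk i hi) hv, e,
      show toMat ω (cScal d) = phi ω d • (1 : Matrix F9 F9 F) by
        ext w z
        simp only [toMat, Matrix.of_apply, cScal, ent2_mc, Matrix.smul_apply, Matrix.one_apply]
        split_ifs <;> simp [phi], Matrix.smul_mulVec, Matrix.one_mulVec]
  interval_cases c
  · exact absurd rfl hc0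
  · exact ⟨hv, (one_smul _ _).symm⟩
  · exact key 4 (by norm_num) 2 (Or.inl rfl) gLit_scal.1
  · exact key 5 (by norm_num) 3 (Or.inr rfl) gLit_scal.2

theorem mulS_val (c : ℕ) (hc : c < 4) {v : ℕ} (hv : v < 4 ^ 9) :
    mulS c v < 4 ^ 9 ∧ vec ω (mulS c v) = phi ω c • vec ω v := by
  rcases eq_or_ne c 0 with rfl | hc0
  · refine ⟨by show (0 : ℕ) < _; norm_num, ?_⟩
    funext z
    rw [Pi.smul_apply, smul_eq_mul]
    show vec ω 0 z = phi ω 0 * vec ω v z
    rw [show phi ω 0 = (0 : F) from rfl, zero_mul]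
    simp [vec, dig, phi]
  · rw [mulS, show Nat.beq c 0 = false from Bool.eq_false_iff.2 fun e => hc0 (Nat.eq_of_beq_eq_true e)]
    exact h.scalC_val c hc hc0 hv

theorem vec_colAp {L : List ℕ} (hL : Wf L) (v : ℕ) :
    colAp L v < 4 ^ 9 ∧ vec ω (colAp L v) = colMat ω L *ᵥ vec ω v := by
  simp only [colAp, fce_eq]
  refine ⟨xor9_lt_pow fun k => (h.mulS_val _ (dig_lt _ _) (hL.getD _)).1, ?_⟩
  rw [h.vec_xor9]
  funext w
  show (∑ t, vec ω (mulS (dig (idx t) v) (L.getD (idx t) 0))) w = ∑ t, colMat ω L w t * vec ω v t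
  rw [Finset.sum_apply]
  refine Finset.sum_congr rfl fun t _ => ?_
  rw [(h.mulS_val _ (dig_lt _ _) (hL.getD _)).2, Pi.smul_apply, smul_eq_mul, mul_comm]
  rfl

theorem rep_mul {g g' : GL F9 F} {L M : List ℕ} (hg : Rep ω g L) (hg' : Rep ω g' M) :
    Rep ω (g * g') (mapCol L M) := by
  rw [mapCol_eq]
  refine ⟨by simpa using hg'.1, fun v hv => ?_, fun z => ?_⟩
  · obtain ⟨u, -, rfl⟩ := List.mem_map.1 hv
    exact (h.vec_colAp hg.wf u).1
  · have hlen : idx z < M.length := by rw [hg'.1]; exact idx_lt z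
    rw [Units.val_mul, ← Matrix.mulVec_mulVec, hg'.2.2 z, hg.val, List.getD_eq_getElem _ _ hlen,
      List.getD_eq_getElem _ _ (by simpa using hlen), List.getElem_map, (h.vec_colAp hg.wf _).2]

theorem colMat_scal {L : List ℕ} (hL : Wf L) (c : ℕ) (hc : c < 4) (hc0 : c ≠ 0) :
    colMat ω (mapScal c L) = phi ω c • colMat ω L := by
  ext w z
  have hlen : idx z < L.length := by rw [hL.1]; exact idx_lt z
  rw [colMat, Matrix.of_apply, mapScal_eq, List.getD_eq_getElem _ _ (by simpa using hlen),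
    List.getElem_map, (h.scalC_val c hc hc0 (hL.2 _ (List.getElem_mem hlen))).2, Matrix.smul_apply,
    colMat, Matrix.of_apply, List.getD_eq_getElem _ _ hlen]
  rfl

theorem rep_scal {g g' : GL F9 F} {L : List ℕ} (hg : Rep ω g L) (c : ℕ) (hc : c < 4) (hc0 : c ≠ 0)
    (e : (g' : Matrix F9 F9 F) = phi ω c • (g : Matrix F9 F9 F)) : Rep ω g' (mapScal c L) := by
  rw [mapScal_eq]
  refine ⟨by simpa using hg.1, fun v hv => ?_, fun z => ?_⟩
  · obtain ⟨u, hu, rfl⟩ := List.mem_map.1 hv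
    exact (h.scalC_val c hc hc0 (hg.2.1 u hu)).1
  · rw [e, hg.val, ← h.colMat_scal hg.wf c hc hc0, colMat_single, mapScal_eq]

omit h in
/-- The image of a word in `J₃`. -/
noncomputable def elt (h : Setup ω) (w : List ℕ) : threeJ3 F ω := ⟨h.wordGL w, h.wordGL_mem w⟩

omit h in
/-- The class of a word in `J₃`. -/
noncomputable def qel (h : Setup ω) (w : List ℕ) : J3 F ω := QuotientGroup.mk (h.elt w)

theorem qel_append (a b : List ℕ) : h.qel (a ++ b) = h.qel a * h.qel b := by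
  rw [qel, qel, qel, ← QuotientGroup.mk_mul]
  exact congrArg _ (Subtype.ext (h.wordGL_append a b))

theorem qel_nil : h.qel [] = 1 := rfl

theorem qel_pw (k : ℕ) (w : List ℕ) : h.qel (List.replicate k w).flatten = h.qel w ^ k := by
  induction k with
  | zero => simp [qel_nil]
  | succ k ih => rw [List.replicate_succ, List.flatten_cons, h.qel_append, ih, pow_succ']

theorem qel_winv {w : List ℕ} (hw : ∀ i ∈ w, i < 4) : h.qel (winv w) = (h.qel w)⁻¹ := by
  rw [qel, qel, ← QuotientGroup.mk_inv]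
  exact congrArg _ (Subtype.ext (h.wordGL_winv hw).1)

theorem qeq_of_smul {g g' : threeJ3 F ω} {c : F}
    (e : (g'.1 : Matrix F9 F9 F) = c • (g.1 : Matrix F9 F9 F)) :
    (QuotientGroup.mk g : J3 F ω) = QuotientGroup.mk g' := by
  rw [QuotientGroup.eq, Subgroup.mem_center_iff]
  intro x
  apply Subtype.ext; apply Units.ext
  have : ((g⁻¹ * g' : threeJ3 F ω).1 : Matrix F9 F9 F) = c • (1 : Matrix F9 F9 F) := by
    rw [Subgroup.coe_mul, Subgroup.coe_inv, Units.val_mul, e, Matrix.mul_smul, Units.inv_mul]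
  show (x.1 : Matrix F9 F9 F) * ((g⁻¹ * g' : threeJ3 F ω).1 : Matrix F9 F9 F) =
    ((g⁻¹ * g' : threeJ3 F ω).1 : Matrix F9 F9 F) * (x.1 : Matrix F9 F9 F)
  rw [this]
  simp

theorem smul_of_qeq {g g' : threeJ3 F ω} (e : (QuotientGroup.mk g : J3 F ω) = QuotientGroup.mk g') :
    ∃ c, c < 4 ∧ c ≠ 0 ∧ (g'.1 : Matrix F9 F9 F) = phi ω c • (g.1 : Matrix F9 F9 F) := by
  have hz := QuotientGroup.eq.1 e
  obtain ⟨a, ha, ea⟩ := h.central_scalar (g := (g⁻¹ * g').1) fun x hx =>
    congrArg Subtype.val (Subgroup.mem_center_iff.1 hz ⟨x, hx⟩)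
  obtain ⟨c, hc, rfl⟩ := h.phi_surj a
  refine ⟨c, hc, fun h0 => ha (by rw [h0]; rfl), ?_⟩
  rw [Subgroup.coe_mul, Subgroup.coe_inv, Units.val_mul] at ea
  have := congrArg (fun M => (g.1 : Matrix F9 F9 F) * M) ea
  simp only [← mul_assoc, Units.mul_inv, one_mul, Matrix.mul_smul, mul_one] at this
  exact this

theorem qeq_of_proj {g g' : threeJ3 F ω} {L M : List ℕ} (hg : Rep ω g.1 L) (hg' : Rep ω g'.1 M)
    (e : projEq L M = true) : (QuotientGroup.mk g : J3 F ω) = QuotientGroup.mk g' := by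
  simp only [projEq, Bool.or_eq_true] at e
  have key : ∀ c, c < 4 → c ≠ 0 → L = mapScal c M →
      (QuotientGroup.mk g : J3 F ω) = QuotientGroup.mk g' := fun c hc hc0 eL => by
    refine (h.qeq_of_smul (g := g') (g' := g) (c := phi ω c) ?_).symm
    rw [hg.val, eL, h.colMat_scal hg'.wf c hc hc0, hg'.val]
  rcases e with e | e | e
  · have : g = g' := Subtype.ext (hg.ext (beqL_eq e ▸ hg'))
    rw [this]
  · exact key 2 (by norm_num) (by norm_num) (beqL_eq e)
  · exact key 3 (by norm_num) (by norm_num) (beqL_eq e)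

theorem proj_of_qeq {g g' : threeJ3 F ω} {L M : List ℕ} (hg : Rep ω g.1 L) (hg' : Rep ω g'.1 M)
    (e : (QuotientGroup.mk g : J3 F ω) = QuotientGroup.mk g') : projEq L M = true := by
  obtain ⟨c, hc, hc0, ec⟩ := h.smul_of_qeq e.symm
  have hL : L = mapScal c M := Rep.unique h hg (h.rep_scal hg' c hc hc0 ec)
  simp only [projEq, Bool.or_eq_true]
  interval_cases c
  · exact absurd rfl hc0
  · left
    rw [hL, mapScal_eq, show M.map (scalC 1) = M from List.map_id' M]
    exact beqL_refl M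
  · right; left; rw [hL]; exact beqL_refl _
  · right; right; rw [hL]; exact beqL_refl _

theorem rep_elt {w : List ℕ} (hw : ∀ i ∈ w, i < 4) : Rep ω (h.elt w).1 (evalW w idCols) := by
  have := h.rep_eval (rep_one ω) hw
  rwa [mul_one] at this

theorem qel_eq {w u : List ℕ} (hw : ∀ i ∈ w, i < 4) (hu : ∀ i ∈ u, i < 4)
    (e : projEq (evalW w idCols) (evalW u idCols) = true) : h.qel w = h.qel u :=
  h.qeq_of_proj (h.rep_elt hw) (h.rep_elt hu) e

/-- A commutation in the quotient lifts exactly for an element of prime order other than three. -/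
theorem lift_commute {p : ℕ} (hp : p.Coprime 3) {g x : threeJ3 F ω} (hx : x ^ p = 1)
    (e : Commute (QuotientGroup.mk g : J3 F ω) (QuotientGroup.mk x)) : g * x = x * g := by
  have hz : (g * x * g⁻¹ * x⁻¹) ∈ Subgroup.center (threeJ3 F ω) := by
    rw [← QuotientGroup.eq_one_iff]
    simp only [QuotientGroup.mk_mul, QuotientGroup.mk_inv]
    rw [e.eq, mul_inv_cancel_right, mul_inv_cancel]
  set z := g * x * g⁻¹ * x⁻¹ with hzdef
  have hcomm : Commute z x := (Subgroup.mem_center_iff.1 hz x).symm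
  have h1 : z ^ p = 1 := by
    have : (z * x) ^ p = 1 := by
      rw [hzdef, inv_mul_cancel_right, conj_pow, hx, mul_one, mul_inv_cancel]
    rwa [hcomm.mul_pow, hx, mul_one] at this
  have h3 : z ^ 3 = 1 := by
    have := pow_card_eq_one' (G := Subgroup.center (threeJ3 F ω)) (x := ⟨z, hz⟩)
    rw [h.card_center] at this
    simpa using congrArg Subtype.val this
  have hone : z = 1 := by
    have := (pow_gcd_eq_one (a := z) (m := p) (n := 3)).2 ⟨h1, h3⟩
    rwa [hp, pow_one] at this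
  rw [hzdef, mul_inv_eq_one, mul_inv_eq_iff_eq_mul] at hone
  exact hone

theorem nrm_eq {w m : ℕ} (hw : w < 4 ^ 9) (hm : m < 4 ^ 9) (hM : isN m = true) {a : F} (ha : a ≠ 0)
    (e : vec ω w = a • vec ω m) : nrmC w = m ∧ 0 < w := by
  obtain ⟨k, hk, u, hu, rfl⟩ := (isN_iff hm).1 hM
  have htop : dig k (4 ^ k + u) = 1 := by
    rw [show 4 ^ k + u = u + 1 * 4 ^ k by ring]; exact dig_top hu (by norm_num)
  have hz : ∀ i, k < i → dig i (4 ^ k + u) = 0 := fun i hi => by
    rw [dig, Nat.div_eq_of_lt]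
    have : 4 ^ (k + 1) ≤ 4 ^ i := Nat.pow_le_pow_right (by norm_num) hi
    rw [pow_succ] at this; omega
  have hwk : phi ω (dig k w) = a := by
    have := congrFun e (unidx k)
    simp only [vec, Pi.smul_apply, smul_eq_mul, idx_unidx k hk, htop] at this
    rw [this, show phi ω 1 = 1 from rfl, mul_one]
  have hwz : ∀ i, k + 1 ≤ i → i < 9 → dig i w = 0 := fun i hi hi9 => by
    rw [← idx_unidx i hi9, ← h.dig_ne_iff, e, Pi.smul_apply, smul_eq_mul,
      (h.dig_ne_iff _ (unidx i)).2 (by rw [idx_unidx i hi9]; exact hz i hi), mul_zero]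
  have hwlt := lt_of_dig_zero hw hwz (by omega)
  have hd0 : dig k w ≠ 0 := fun e0 => ha (by rw [← hwk, e0]; rfl)
  have hge : 4 ^ k ≤ w := by
    by_contra hlt
    exact hd0 (by rw [dig, Nat.div_eq_of_lt (not_le.1 hlt)])
  refine ⟨?_, lt_of_lt_of_le (by positivity) hge⟩
  have hq : w / topPow w = dig k w := by
    rw [topPow_eq hk hge hwlt, dig, Nat.mod_eq_of_lt (Nat.div_lt_of_lt_mul (by rwa [← pow_succ]))]
  have hlt4 := dig_lt k w
  have hfin : ∀ c, c < 4 → c ≠ 0 → vec ω (nrmC w) = (phi ω c * a) • vec ω (4 ^ k + u) →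
      phi ω c * a = 1 → nrmC w < 4 ^ 9 → nrmC w = 4 ^ k + u := fun c _ _ e' e1 hl =>
    h.vec_inj hl hm (by rw [e', e1, one_smul])
  have he : nrmC w = bif Nat.beq (w / topPow w) 2 then scalC 3 w else
      bif Nat.beq (w / topPow w) 3 then scalC 2 w else w := by simp only [nrmC, fce_eq]
  rw [hq] at he
  generalize dig k w = q at hd0 hlt4 hwk he
  interval_cases q
  · exact absurd rfl hd0
  · refine hfin 1 (by norm_num) (by norm_num) ?_ ?_ (by rw [he]; exact hw)
    · rw [he]; simp only [show phi ω 1 = (1 : F) from rfl, one_mul]; exact e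
    · rw [← hwk]; simp [phi]
  · have hs := h.scalC_val 3 (by norm_num) (by norm_num) hw
    refine hfin 3 (by norm_num) (by norm_num) ?_ ?_ (he ▸ hs.1)
    · rw [show nrmC w = scalC 3 w from he, hs.2, e, smul_smul]
    · rw [← hwk]; show ω ^ 2 * ω = 1; rw [← pow_succ]; exact h.omega_cube
  · have hs := h.scalC_val 2 (by norm_num) (by norm_num) hw
    refine hfin 2 (by norm_num) (by norm_num) ?_ ?_ (he ▸ hs.1)
    · rw [show nrmC w = scalC 2 w from he, hs.2, e, smul_smul]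
    · rw [← hwk]; show ω * ω ^ 2 = 1; rw [← pow_succ']; exact h.omega_cube

theorem inLines_of {w : ℕ} (hw : w < 4 ^ 9) {m : ℕ} (hm : InS m) {a : F} (ha : a ≠ 0)
    (e : vec ω w = a • vec ω m) : inLines w = true := by
  obtain ⟨h1, h0⟩ := h.nrm_eq hw hm.1 hm.2.1 ha e
  simp only [inLines, fce_eq, h1, Bool.and_eq_true, Nat.blt_eq]
  exact ⟨h0, hm.2.1, hm.2.2.1, hm.2.2.2⟩

theorem of_inLines {w : ℕ} (hw : w < 4 ^ 9) (hi : inLines w = true) :
    ∃ m, InS m ∧ ∃ a : F, a ≠ 0 ∧ vec ω w = a • vec ω m := by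
  simp only [inLines, fce_eq, Bool.and_eq_true, Nat.blt_eq] at hi
  obtain ⟨hl, a, ha, e⟩ := h.nrmC_spec hw
  exact ⟨_, ⟨hl, hi.2.1, hi.2.2.1, hi.2.2.2⟩, a⁻¹, inv_ne_zero ha,
    by rw [e, smul_smul, inv_mul_cancel₀ ha, one_smul]⟩

theorem vec_tab {j : ℕ} (hj : tabColsOk j = true) (hL : Wf (autC j)) {v : ℕ} (hv : v < 4 ^ 9) :
    ap (autTab j) v < 4 ^ 9 ∧ vec ω (ap (autTab j) v) = colMat ω (autC j) *ᵥ vec ω v := by
  simp only [tabColsOk, List.all_eq_true, List.mem_range, Bool.and_eq_true, Nat.beq_eq, Nat.blt_eq] at hj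
  obtain ⟨l1, -, l3, -⟩ := hj (v % 512) (Nat.mod_lt _ (by norm_num))
  obtain ⟨-, m2, -, m4⟩ := hj (v / 512) (by omega)
  refine ⟨Nat.xor_lt_two_pow (n := 18) l3 m4, ?_⟩
  show vec ω ((autTab j).1.get (v % 512) ^^^ (autTab j).2.get (v / 512)) = _
  rw [h.vec_xor, l1, m2, (h.vec_colAp hL _).2, (h.vec_colAp hL _).2, ← Matrix.mulVec_add, ← h.vec_xor,
    xor_split]

theorem trace_rep {g : GL F9 F} {L : List ℕ} (hg : Rep ω g L) :
    Matrix.trace (g : Matrix F9 F9 F) = phi ω (xor9 fun k => dig k (L.getD k 0)) := by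
  rw [h.phi_xor9 fun k => dig_lt _ _, hg.val]
  rfl

end Setup

end Cfsg.Agent.Lib.JankoThree
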