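import Cfsg.Agent.Lib.JankoThree.AutDefs

/-! # Checks on one parity class of normalised vectors -/

set_option autoImplicit false
set_option maxRecDepth 100000

namespace Cfsg.Agent.Lib.JankoThree

theorem scanChk0_ : chk 0 1 false scanOk = true := by decide +kernel

theorem scanChk1_ : chk 1 4 false scanOk = true := by decide +kernel

theorem scanChk2_ : chk 2 16 false scanOk = true := by decide +kernel

theorem scanChk3_ : chk 3 64 false scanOk = true := by decide +kernel

theorem scanChk4_ : chk 4 256 false scanOk = true := by decide +kernel

theorem scanChk5_ : chk 5 1024 false scanOk = true := by decide +kernel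

theorem scanChk6_ : chk 6 4096 false scanOk = true := by decide +kernel

theorem scanChk7_0 : chk 6 16384 false scanOk = true := by decide +kernel

theorem scanChk7_1 : chk 6 20480 true scanOk = true := by decide +kernel

theorem scanChk7_2 : chk 6 24576 true scanOk = true := by decide +kernel

theorem scanChk7_3 : chk 6 28672 true scanOk = true := by decide +kernel

theorem scanChk7_ : chk 7 16384 false scanOk = true :=
  chk_succ (k := 6) scanChk7_0 scanChk7_1 scanChk7_2 scanChk7_3

theorem scanChk8_00 : chk 6 65536 false scanOk = true := by decide +kernel

theorem scanChk8_01 : chk 6 69632 true scanOk = true := by decide +kernel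

theorem scanChk8_02 : chk 6 73728 true scanOk = true := by decide +kernel

theorem scanChk8_03 : chk 6 77824 true scanOk = true := by decide +kernel

theorem scanChk8_0 : chk 7 65536 false scanOk = true :=
  chk_succ (k := 6) scanChk8_00 scanChk8_01 scanChk8_02 scanChk8_03

theorem scanChk8_10 : chk 6 81920 true scanOk = true := by decide +kernel

theorem scanChk8_11 : chk 6 86016 false scanOk = true := by decide +kernel

theorem scanChk8_12 : chk 6 90112 false scanOk = true := by decide +kernel

theorem scanChk8_13 : chk 6 94208 false scanOk = true := by decide +kernel

theorem scanChk8_1 : chk 7 81920 true scanOk = true :=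
  chk_succ (k := 6) scanChk8_10 scanChk8_11 scanChk8_12 scanChk8_13

theorem scanChk8_20 : chk 6 98304 true scanOk = true := by decide +kernel

theorem scanChk8_21 : chk 6 102400 false scanOk = true := by decide +kernel

theorem scanChk8_22 : chk 6 106496 false scanOk = true := by decide +kernel

theorem scanChk8_23 : chk 6 110592 false scanOk = true := by decide +kernel

theorem scanChk8_2 : chk 7 98304 true scanOk = true :=
  chk_succ (k := 6) scanChk8_20 scanChk8_21 scanChk8_22 scanChk8_23

theorem scanChk8_30 : chk 6 114688 true scanOk = true := by decide +kernel

theorem scanChk8_31 : chk 6 118784 false scanOk = true := by decide +kernel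

theorem scanChk8_32 : chk 6 122880 false scanOk = true := by decide +kernel

theorem scanChk8_33 : chk 6 126976 false scanOk = true := by decide +kernel

theorem scanChk8_3 : chk 7 114688 true scanOk = true :=
  chk_succ (k := 6) scanChk8_30 scanChk8_31 scanChk8_32 scanChk8_33

theorem scanChk8_ : chk 8 65536 false scanOk = true :=
  chk_succ (k := 7) scanChk8_0 scanChk8_1 scanChk8_2 scanChk8_3

end Cfsg.Agent.Lib.JankoThree
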