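import Cfsg.Agent.Lib.JankoThree.AutSem
import Cfsg.Agent.Lib.JankoThree.AutChecks
import Cfsg.Agent.Lib.JankoThree.ScanChecks

/-! # Some centralisers and classes in `J₃` -/

set_option autoImplicit false
set_option maxRecDepth 100000

namespace Cfsg.Agent.Lib.JankoThree

open Cfsg.Spor Matrix

variable {F : Type*} [Field F] [Fintype F] {ω : F}

theorem scan_of {n : ℕ} (hn : InS n) : scanOk n = true := by
  obtain ⟨k, hk, w, hw, rfl⟩ := exists_enum hn.1 hn.2.1 hn.2.2.1
  refine List.all_eq_true.1 (show chk k (4 ^ k) false scanOk = true from ?_) w hw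
  interval_cases k
  exacts [scanChk0_, scanChk1_, scanChk2_, scanChk3_, scanChk4_, scanChk5_, scanChk6_, scanChk7_, scanChk8_]

theorem autC_wf (j : ℕ) (hj : j < 7) : Wf (autC j) := by
  have := autCols_wf.1
  simp only [List.all_eq_true, Bool.and_eq_true, Nat.beq_eq, Nat.blt_eq] at this
  have hlen : autCols.length = 7 := by decide +kernel
  have hmem : autC j ∈ autCols := by
    rw [autC, List.getD_eq_getElem _ _ (by omega)]; exact List.getElem_mem _
  exact ⟨(this _ hmem).1, fun v hv => (this _ hmem).2 v hv⟩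

theorem cent_all (d : ℕ) (hd : d < 6480) : centOk d = true := by
  rcases Nat.lt_or_ge d 3240 with h | h
  · exact seg_spec cent_seg0 (Nat.zero_le _) (by omega)
  · exact seg_spec cent_seg1 h (by omega)

theorem small_aut : (∀ i ∈ aWord, i < 4) ∧ (∀ i ∈ eWord, i < 4) ∧ (∀ i ∈ tEltWord, i < 4) ∧
    (∀ i ∈ fWord, i < 4) ∧ (∀ k, ∀ i ∈ fixWord.getD k [], i < 4) ∧ (∀ g, ∀ i ∈ sigmaWord.getD g [], i < 4) := by
  obtain ⟨h1, h2, h3, h4, h5⟩ := aut_words_small
  refine ⟨by decide, smallW_spec h1, smallW_spec h2, smallW_spec h3, fun k => ?_, fun g => ?_⟩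
  · rcases getD_mem_or fixWord k [] with h | h
    · exact smallW_spec (List.all_eq_true.1 h4 _ h)
    · rw [h]; simp
  · rcases getD_mem_or sigmaWord g [] with h | h
    · exact smallW_spec (List.all_eq_true.1 h5 _ h)
    · rw [h]; simp

theorem pw_lt {w : List ℕ} (hw : ∀ i ∈ w, i < 4) (k : ℕ) : ∀ i ∈ pw k w, i < 4 := fun i hi => by
  obtain ⟨l, hl, hil⟩ := List.mem_flatten.1 hi
  rw [List.eq_of_mem_replicate hl] at hil
  exact hw i hil

namespace Setup

variable (h : Setup ω)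

include h

theorem wordGL_pw (k : ℕ) (w : List ℕ) : h.wordGL (pw k w) = h.wordGL w ^ k := by
  induction k with
  | zero => simp [pw, h.wordGL_nil]
  | succ k ih =>
    rw [pw, List.replicate_succ, List.flatten_cons, h.wordGL_append, pow_succ']
    exact congrArg _ ih

theorem elt_pw (k : ℕ) (w : List ℕ) : h.elt (pw k w) = h.elt w ^ k := Subtype.ext (by
  rw [Subgroup.coe_pow]; exact h.wordGL_pw k w)

theorem elt_pow_eq_one {p : ℕ} {w : List ℕ} (hw : ∀ i ∈ w, i < 4)
    (e : beqL (evalW (pw p w) idCols) idCols = true) : h.elt w ^ p = 1 := by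
  rw [← h.elt_pw]
  exact Subtype.ext (h.word_eq (u := []) (pw_lt hw p) (by simp) e)

theorem qel_ne_one {w : List ℕ} (hw : ∀ i ∈ w, i < 4) (e : projEq (evalW w idCols) idCols = false) :
    h.qel w ≠ 1 := fun h1 => by
  have := h.proj_of_qeq (h.rep_elt hw) (g' := 1) (rep_one ω) h1
  rw [e] at this
  exact Bool.false_ne_true this

theorem orderOf_qel {p : ℕ} (hp : p.Prime) {w : List ℕ} (hw : ∀ i ∈ w, i < 4)
    (e : beqL (evalW (pw p w) idCols) idCols = true) (e' : projEq (evalW w idCols) idCols = false) :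
    orderOf (h.qel w) = p := by
  haveI : Fact p.Prime := ⟨hp⟩
  refine orderOf_eq_prime ?_ (h.qel_ne_one hw e')
  rw [qel, ← QuotientGroup.mk_pow, h.elt_pow_eq_one hw e]
  rfl

theorem t_data : orderOf (h.qel tEltWord) = 3 ∧ orderOf (h.qel fWord) = 5 ∧
    orderOf (h.qel aWord) = 19 := by
  refine ⟨h.orderOf_qel (by norm_num) small_aut.2.2.1 t_order.1 t_order.2.1,
    h.orderOf_qel (by norm_num) small_aut.2.2.2.1 f_order.1 f_order.2,
    h.orderOf_qel (by norm_num) small_aut.1 aWord_check.1 ?_⟩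
  decide +kernel

theorem rep_autC : Rep ω (h.elt tEltWord).1 (autC 0) ∧ Rep ω (h.elt fWord).1 (autC 1) ∧
    Rep ω (h.elt (pw 3 eWord)).1 (autC 2) := by
  obtain ⟨-, h2, h3, h4, -, -⟩ := small_aut
  obtain ⟨c1, c2, c3⟩ := autCols_words
  exact ⟨beqL_eq c1 ▸ h.rep_elt h3, beqL_eq c2 ▸ h.rep_elt h4, beqL_eq c3 ▸ h.rep_elt (pw_lt h2 3)⟩

/-- The image of the first basis line. -/
theorem exists_line (g : threeJ3 F ω) :
    ∃ n, InS n ∧ ∃ a : F, a ≠ 0 ∧ (g.1 : Matrix F9 F9 F) *ᵥ vec ω 1 = a • vec ω n := h.stable g.2 inS_one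

theorem fixes_of_line {g g' : threeJ3 F ω} {n : ℕ} {a b : F} (ha : a ≠ 0) (hb : b ≠ 0)
    (e : (g.1 : Matrix F9 F9 F) *ᵥ vec ω 1 = a • vec ω n)
    (e' : (g'.1 : Matrix F9 F9 F) *ᵥ vec ω 1 = b • vec ω n) : (g⁻¹ * g').1 ∈ h.hGrp := by
  refine h.fixer_mem (g⁻¹ * g').2 ⟨b * a⁻¹, mul_ne_zero hb (inv_ne_zero ha), ?_⟩
  have h1 : vec ω n = a⁻¹ • ((g.1 : Matrix F9 F9 F) *ᵥ vec ω 1) := by
    rw [e, smul_smul, inv_mul_cancel₀ ha, one_smul]
  rw [Subgroup.coe_mul, Subgroup.coe_inv, Units.val_mul, ← Matrix.mulVec_mulVec, e', h1, smul_smul,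
    Matrix.mulVec_smul, Matrix.mulVec_mulVec, Units.inv_mul, Matrix.one_mulVec]

theorem t_fixes_vec : ((h.elt tEltWord).1 : Matrix F9 F9 F) *ᵥ vec ω 1 = vec ω 1 := by
  rw [h.rep_first h.rep_autC.1, t_order.2.2]

/-- An element commuting with the element of order three fixes the first basis line. -/
theorem cent_t {g : threeJ3 F ω} (e : Commute (QuotientGroup.mk g : J3 F ω) (h.qel tEltWord)) :
    g.1 ∈ h.hGrp := by
  set t := h.elt tEltWord
  have e' : (QuotientGroup.mk t : J3 F ω) = QuotientGroup.mk (g * t * g⁻¹) := by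
    rw [QuotientGroup.mk_mul, QuotientGroup.mk_mul, QuotientGroup.mk_inv,
      show (QuotientGroup.mk t : J3 F ω) = h.qel tEltWord from rfl, e.eq, mul_inv_cancel_right]
  obtain ⟨c, hc, hc0, ec⟩ := h.smul_of_qeq e'
  rw [Subgroup.coe_mul, Subgroup.coe_mul, Subgroup.coe_inv, Units.val_mul, Units.val_mul] at ec
  have htr := congrArg Matrix.trace ec
  rw [Matrix.trace_units_conj, Matrix.trace_smul, smul_eq_mul, h.trace_rep h.rep_autC.1] at htr
  have htr0 : phi ω (xor9 fun k => dig k ((autC 0).getD k 0)) ≠ 0 := fun e0 => by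
    have := trace_check.2
    rw [trCode, beqL_eq autCols_words.1] at this
    exact this (h.phi_inj _ (xor9_lt fun k => dig_lt _ _) 0 (by norm_num) e0)
  have hc1 : phi ω c = 1 := (mul_eq_right₀ htr0).1 htr.symm
  rw [hc1, one_smul] at ec
  obtain ⟨n, hn, a, ha, eg⟩ := h.exists_line g
  have e3 : (t.1 : Matrix F9 F9 F) *ᵥ vec ω n = vec ω n := by
    have e4 : (t.1 : Matrix F9 F9 F) * (g.1 : Matrix F9 F9 F) = (g.1 : Matrix F9 F9 F) * (t.1 : Matrix F9 F9 F) := by
      conv_lhs => rw [← ec]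
      rw [mul_assoc, Units.inv_mul, mul_one]
    have := congrArg (fun M => M *ᵥ vec ω 1) e4
    simp only [← Matrix.mulVec_mulVec] at this
    rw [h.t_fixes_vec, eg, Matrix.mulVec_smul] at this
    exact smul_right_injective _ ha this
  obtain ⟨hl, hv⟩ := h.vec_tab tabCols_zero (autC_wf 0 (by norm_num)) hn.1
  have hap : ap (autTab 0) n = n := by
    refine h.vec_inj hl hn.1 ?_
    rw [hv, ← h.rep_autC.1.val, e3]
  have hs := scan_of hn
  simp only [scanOk, fce_eq] at hs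
  rw [show Nat.beq (depth n) 0 = false from Bool.eq_false_iff.2 fun e0 =>
    hn.2.2.2.ne' (Nat.eq_of_beq_eq_true e0), cond_false, hap, t_order.2.2,
    show scalC 1 n = n from rfl, Nat.beq_refl, cond_true, Bool.and_eq_true, Nat.beq_eq] at hs
  obtain rfl := hs.1
  exact h.fixer_mem g.2 ⟨a, ha, eg⟩

theorem f_fixes : ∃ b : F, b ≠ 0 ∧ ((h.elt fWord).1 : Matrix F9 F9 F) *ᵥ vec ω 1 = b • vec ω 1 := by
  have hc : nrmC ((autC 1).getD 0 0) = 1 := by decide +kernel
  obtain ⟨hl, a, ha, e⟩ := h.nrmC_spec ((autC_wf 1 (by norm_num)).getD 0)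
  rw [hc] at e
  exact ⟨a⁻¹, inv_ne_zero ha, by rw [h.rep_first h.rep_autC.2.1, e, smul_smul, inv_mul_cancel₀ ha, one_smul]⟩

/-- The centraliser of the element of order five has no other elements of order three. -/
theorem cent_f {x : J3 F ω} (h3 : x ^ 3 = 1) (hx : Commute x (h.qel fWord)) :
    x = 1 ∨ x = h.qel tEltWord ∨ x = h.qel tEltWord ^ 2 := by
  obtain ⟨g, rfl⟩ := QuotientGroup.mk_surjective x
  set f := h.elt fWord
  have hcomm : g * f = f * g := h.lift_commute (p := 5) (by norm_num)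
    (h.elt_pow_eq_one small_aut.2.2.2.1 f_order.1) hx
  obtain ⟨n, hn, a, ha, eg⟩ := h.exists_line g
  obtain ⟨b, hb, ef⟩ := h.f_fixes
  have e3 : (f.1 : Matrix F9 F9 F) *ᵥ vec ω n = b • vec ω n := by
    have := congrArg (fun M : threeJ3 F ω => (M.1 : Matrix F9 F9 F) *ᵥ vec ω 1) hcomm
    simp only [Subgroup.coe_mul, Units.val_mul, ← Matrix.mulVec_mulVec] at this
    rw [ef, eg, Matrix.mulVec_smul, Matrix.mulVec_smul, eg, smul_comm] at this
    exact (smul_right_injective _ ha this).symm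
  obtain ⟨hl, hv⟩ := h.vec_tab tabCols_one (autC_wf 1 (by norm_num)) hn.1
  have hap : nrmC (ap (autTab 1) n) = n :=
    (h.nrm_eq hl hn.1 hn.2.1 hb (by rw [hv, ← h.rep_autC.2.1.val, e3])).1
  have hs := scan_of hn
  simp only [scanOk, fce_eq] at hs
  rw [show Nat.beq (depth n) 0 = false from Bool.eq_false_iff.2 fun e0 =>
    hn.2.2.2.ne' (Nat.eq_of_beq_eq_true e0), cond_false, hap, Nat.beq_refl, cond_true] at hs
  simp only [Bool.and_eq_true, Nat.beq_eq] at hs
  obtain rfl := hs.2.1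
  obtain ⟨d, hd, hrep⟩ := h.rep_hGrp (h.fixer_mem g.2 ⟨a, ha, eg⟩)
  have hco := cent_all d hd
  simp only [centOk, fce_eq] at hco
  have hlist : mapTab (autTab 1) (hCols d) = mapCol (hCols d) (autC 1) := by
    have r1 := h.rep_mul hrep h.rep_autC.2.1
    have r2 := h.rep_mul h.rep_autC.2.1 hrep
    rw [← Subgroup.coe_mul, hcomm, Subgroup.coe_mul] at r1
    rw [Rep.unique h r1 r2, mapTab_eq, mapCol_eq]
    refine List.map_congr_left fun v hv => ?_
    have hv' := hrep.2.1 v hv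
    refine h.vec_inj (h.vec_tab tabCols_one (autC_wf 1 (by norm_num)) hv').1
      (h.vec_colAp (autC_wf 1 (by norm_num)) v).1 ?_
    rw [(h.vec_tab tabCols_one (autC_wf 1 (by norm_num)) hv').2,
      (h.vec_colAp (autC_wf 1 (by norm_num)) v).2]
  rw [hlist, beqL_refl, cond_true] at hco
  simp only [Bool.or_eq_true, Bool.not_eq_true'] at hco
  rcases hco with e | e | e | e
  · exact Or.inl (h.qeq_of_proj hrep (g' := 1) (rep_one ω) e)
  · exact Or.inr (Or.inl (h.qeq_of_proj hrep h.rep_autC.1 e))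
  · refine Or.inr (Or.inr ?_)
    rw [h.qeq_of_proj hrep (g' := h.elt tEltWord * h.elt tEltWord) (h.rep_mul h.rep_autC.1 h.rep_autC.1) e,
      QuotientGroup.mk_mul, pow_two]
    rfl
  · have r3 := h.rep_mul hrep (h.rep_mul hrep hrep)
    have hq : (QuotientGroup.mk (g * (g * g)) : J3 F ω) = QuotientGroup.mk 1 := by
      rw [QuotientGroup.mk_mul, QuotientGroup.mk_mul, ← mul_assoc, ← pow_two, ← pow_succ, h3]
      rfl
    rw [h.proj_of_qeq (g := g * (g * g)) r3 (rep_one ω) hq] at e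
    exact absurd e Bool.noConfusion

/-- The stabiliser of the first line normalises the subgroup of order three. -/
theorem normalise {u : threeJ3 F ω} (hu : u.1 ∈ h.hGrp) :
    ∃ s, (s = 1 ∨ s = 2) ∧
      (QuotientGroup.mk u : J3 F ω) * h.qel tEltWord * (QuotientGroup.mk u : J3 F ω)⁻¹ = h.qel tEltWord ^ s := by
  set t := h.qel tEltWord with ht
  have t3 : t ^ 3 = 1 := by
    have := pow_orderOf_eq_one (h.qel tEltWord)
    rwa [h.t_data.1] at this
  have hword : ∀ k, k < 2 → ∃ s, (s = 1 ∨ s = 2) ∧ h.qel (hWord k) * t * (h.qel (hWord k))⁻¹ = t ^ s := by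
    intro k hk
    have hw := small_words.2.2.2.2 k
    obtain ⟨-, hwi⟩ := h.wordGL_winv hw
    have hcat := app_lt (app_lt hw small_aut.2.2.1) hwi
    have e := normalise_check k hk
    simp only [Bool.or_eq_true, wordEqProj] at e
    rcases e with e | e
    · refine ⟨1, Or.inl rfl, ?_⟩
      rw [pow_one, ← h.qel_winv hw, ← h.qel_append, ← h.qel_append]
      exact h.qel_eq hcat small_aut.2.2.1 e
    · refine ⟨2, Or.inr rfl, ?_⟩
      rw [← h.qel_winv hw, ← h.qel_append, ← h.qel_append, ← h.qel_pw]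
      exact h.qel_eq hcat (pw_lt small_aut.2.2.1 2) e
  obtain ⟨g, hg⟩ := u
  change g ∈ h.hGrp at hu
  induction hu using Subgroup.closure_induction with
  | mem x hx =>
    obtain ⟨k, rfl⟩ := hx
    exact hword k.val k.2
  | one => exact ⟨1, Or.inl rfl, by rw [show (⟨1, hg⟩ : threeJ3 F ω) = 1 from rfl, QuotientGroup.mk_one]; simp⟩
  | mul x y hx hy ihx ihy =>
    obtain ⟨s, hs, es⟩ := ihx (h.hGrp_le hx)
    obtain ⟨s', hs', es'⟩ := ihy (h.hGrp_le hy)
    refine ⟨if s = s' then 1 else 2, by split_ifs <;> simp, ?_⟩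
    rw [show (⟨x * y, hg⟩ : threeJ3 F ω) = ⟨x, h.hGrp_le hx⟩ * ⟨y, h.hGrp_le hy⟩ from rfl, QuotientGroup.mk_mul]
    set X : J3 F ω := QuotientGroup.mk (⟨x, h.hGrp_le hx⟩ : threeJ3 F ω)
    set Y : J3 F ω := QuotientGroup.mk (⟨y, h.hGrp_le hy⟩ : threeJ3 F ω)
    have : X * Y * t * (X * Y)⁻¹ = (t ^ s) ^ s' := by
      rw [← es, conj_pow, ← es']; group
    rw [this, ← pow_mul]
    rcases hs with rfl | rfl <;> rcases hs' with rfl | rfl <;> simp only [show ((1 : ℕ) = 2) = False by simp,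
      show ((2 : ℕ) = 1) = False by simp, if_true, if_false, one_mul, mul_one]
    rw [show 2 * 2 = 3 + 1 from rfl, pow_add, t3, one_mul]
  | inv x hx ih =>
    obtain ⟨s, hs, es⟩ := ih (h.hGrp_le hx)
    refine ⟨s, hs, ?_⟩
    rw [show (⟨x⁻¹, hg⟩ : threeJ3 F ω) = (⟨x, h.hGrp_le hx⟩)⁻¹ from rfl, QuotientGroup.mk_inv]
    set X : J3 F ω := QuotientGroup.mk (⟨x, h.hGrp_le hx⟩ : threeJ3 F ω)
    have e2 : (t ^ s) ^ s = t := by
      rcases hs with rfl | rfl
      · rw [pow_one, pow_one]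
      · rw [← pow_mul, show 2 * 2 = 3 + 1 from rfl, pow_add, t3, one_mul, pow_one]
    calc X⁻¹ * t * X⁻¹⁻¹ = X⁻¹ * (X * t * X⁻¹) ^ s * X := by rw [es, e2, inv_inv]
      _ = t ^ s := by rw [conj_pow]; group

/-- The candidates. -/
theorem fixed_by_e {g : threeJ3 F ω} {s : ℕ} (hs : s = 1 ∨ s = 2)
    (hc : Commute ((QuotientGroup.mk g : J3 F ω) * h.qel tEltWord ^ s * (QuotientGroup.mk g : J3 F ω)⁻¹)
      (h.qel (pw 3 eWord))) :
    ∃ i < 9, ∃ s', (s' = 1 ∨ s' = 2) ∧
      (QuotientGroup.mk g : J3 F ω) * h.qel tEltWord ^ s * (QuotientGroup.mk g : J3 F ω)⁻¹ = h.qel (candWord i s') := by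
  set t := h.qel tEltWord with ht
  have t3 : t ^ 3 = 1 := by
    have := pow_orderOf_eq_one (h.qel tEltWord)
    rwa [h.t_data.1] at this
  set E := h.elt (pw 3 eWord)
  set u := g⁻¹ * E * g with hu
  have hut : Commute (QuotientGroup.mk u : J3 F ω) t := by
    set G' : J3 F ω := QuotientGroup.mk g
    set E' : J3 F ω := h.qel (pw 3 eWord)
    have h1 : Commute (QuotientGroup.mk u : J3 F ω) (t ^ s) := by
      rw [hu, QuotientGroup.mk_mul, QuotientGroup.mk_mul, QuotientGroup.mk_inv,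
        show (QuotientGroup.mk E : J3 F ω) = E' from rfl]
      calc G'⁻¹ * E' * G' * t ^ s = G'⁻¹ * (E' * (G' * t ^ s * G'⁻¹)) * G' := by group
        _ = G'⁻¹ * ((G' * t ^ s * G'⁻¹) * E') * G' := by rw [hc.eq]
        _ = t ^ s * (G'⁻¹ * E' * G') := by group
    rcases hs with rfl | rfl
    · simpa using h1
    · have := h1.pow_right 2
      rwa [← pow_mul, show 2 * 2 = 3 + 1 from rfl, pow_add, t3, one_mul, pow_one] at this
  obtain ⟨c, hc0, ec⟩ := h.hGrp_fixes (h.cent_t hut)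
  obtain ⟨n, hn, a, ha, eg⟩ := h.exists_line g
  have e3 : (E.1 : Matrix F9 F9 F) *ᵥ vec ω n = c • vec ω n := by
    have h1 : E * g = g * u := by rw [hu]; group
    have := congrArg (fun M : threeJ3 F ω => (M.1 : Matrix F9 F9 F) *ᵥ vec ω 1) h1
    simp only [Subgroup.coe_mul, Units.val_mul, ← Matrix.mulVec_mulVec] at this
    rw [ec, eg, Matrix.mulVec_smul, Matrix.mulVec_smul, eg, smul_comm c] at this
    exact smul_right_injective _ ha this
  obtain ⟨hl, hv⟩ := h.vec_tab tabCols_two (autC_wf 2 (by norm_num)) hn.1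
  have hap : nrmC (ap (autTab 2) n) = n :=
    (h.nrm_eq hl hn.1 hn.2.1 hc0 (by rw [hv, ← h.rep_autC.2.2.val, e3])).1
  have hsc := scan_of hn
  simp only [scanOk, fce_eq] at hsc
  rw [show Nat.beq (depth n) 0 = false from Bool.eq_false_iff.2 fun e0 =>
    hn.2.2.2.ne' (Nat.eq_of_beq_eq_true e0), cond_false, hap, Nat.beq_refl, cond_true] at hsc
  simp only [Bool.and_eq_true] at hsc
  obtain ⟨i, hi, rfl⟩ := List.mem_iff_getElem.1 (memN_spec hsc.2.2.1)
  have hi9 : i < 9 := fix_length ▸ hi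
  have hfw := small_aut.2.2.2.2.1 i
  set r := h.elt (fixWord.getD i [])
  have hrep := h.rep_elt hfw
  obtain ⟨-, b, hb, eb⟩ := h.nrmC_spec (hrep.wf.getD 0)
  rw [Nat.eq_of_beq_eq_true (fix_check i hi9), List.getD_eq_getElem _ _ hi] at eb
  have er : (r.1 : Matrix F9 F9 F) *ᵥ vec ω 1 = b⁻¹ • vec ω (fixLines[i]) := by
    rw [h.rep_first hrep]
    exact ((congrArg (b⁻¹ • ·) eb).trans (by rw [smul_smul, inv_mul_cancel₀ hb, one_smul])).symm
  obtain ⟨s', hs', es'⟩ := h.normalise (h.fixes_of_line (inv_ne_zero hb) ha er eg)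
  set G' : J3 F ω := QuotientGroup.mk g
  set R' : J3 F ω := h.qel (fixWord.getD i [])
  rw [QuotientGroup.mk_mul, QuotientGroup.mk_inv, show (QuotientGroup.mk r : J3 F ω) = R' from rfl] at es'
  refine ⟨i, hi9, if s = s' then 1 else 2, by split_ifs <;> simp, ?_⟩
  rw [candWord, h.qel_append, h.qel_append, h.qel_winv hfw, h.qel_pw]
  have key : G' * t ^ s * G'⁻¹ = R' * (t ^ s') ^ s * R'⁻¹ := by
    rw [← es', conj_pow]; simp only [G', t]; group
  rw [key, ← pow_mul]
  rcases hs with rfl | rfl <;> rcases hs' with rfl | rfl <;> simp only [show ((1 : ℕ) = 2) = False by simp,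
    show ((2 : ℕ) = 1) = False by simp, if_true, if_false, one_mul, mul_one]
  · rfl
  · rfl
  · rfl
  · rw [show 2 * 2 = 3 + 1 from rfl, pow_add, t3, one_mul, pow_one]

/-- Elements of one prime order are conjugate to powers of a given one. -/
theorem exists_conj {p : ℕ} [Fact p.Prime] (hp : p ∣ 50232960) (hp2 : ¬ p ^ 2 ∣ 50232960)
    {w x : J3 F ω} (hw : orderOf w = p) (hx : orderOf x = p) :
    ∃ g : J3 F ω, ∃ k : ℕ, x = g * w ^ k * g⁻¹ := by
  have hc : ∀ z : J3 F ω, orderOf z = p → ∀ S : Sylow p (J3 F ω), Subgroup.zpowers z ≤ (S : Subgroup _) →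
      Subgroup.zpowers z = (S : Subgroup _) := by
    intro z hz S hS
    refine Subgroup.eq_of_le_of_card_ge hS ?_
    obtain ⟨n, hn⟩ := IsPGroup.iff_card.1 S.2
    have hd := Subgroup.card_subgroup_dvd_card (S : Subgroup (J3 F ω))
    rw [h.card_quot, hn] at hd
    have hn1 : n ≤ 1 := by
      by_contra hlt
      exact hp2 ((pow_dvd_pow p (by omega : 2 ≤ n)).trans hd)
    rw [hn, Nat.card_zpowers, hz]
    calc p ^ n ≤ p ^ 1 := Nat.pow_le_pow_right (Fact.out : p.Prime).pos hn1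
      _ = p := pow_one p
  obtain ⟨S, hS⟩ := (IsPGroup.of_card (n := 1) (show Nat.card (Subgroup.zpowers w) = p ^ 1 by
    rw [Nat.card_zpowers, hw, pow_one])).exists_le_sylow
  obtain ⟨T, hT⟩ := (IsPGroup.of_card (n := 1) (show Nat.card (Subgroup.zpowers x) = p ^ 1 by
    rw [Nat.card_zpowers, hx, pow_one])).exists_le_sylow
  obtain ⟨g, hg⟩ := MulAction.exists_smul_eq (J3 F ω) S T
  have hmem : x ∈ (T : Subgroup (J3 F ω)) := hT (Subgroup.mem_zpowers x)
  rw [← hg, Sylow.coe_subgroup_smul] at hmem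
  obtain ⟨y, hy, e⟩ := hmem
  rw [SetLike.mem_coe, ← hc w hw S hS] at hy
  obtain ⟨k, rfl⟩ := (isOfFinOrder_of_finite w).mem_powers_iff_mem_zpowers.2 hy
  exact ⟨g, k, e.symm⟩

/-- An element of order three commuting with an element of order five. -/
theorem class_three {x y : J3 F ω} (hx3 : x ^ 3 = 1) (hx1 : x ≠ 1) (hy : orderOf y = 5) (hxy : Commute x y) :
    ∃ g : threeJ3 F ω, ∃ s, (s = 1 ∨ s = 2) ∧
      x = (QuotientGroup.mk g : J3 F ω) * h.qel tEltWord ^ s * (QuotientGroup.mk g : J3 F ω)⁻¹ := by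
  haveI : Fact (Nat.Prime 5) := ⟨by norm_num⟩
  obtain ⟨g, k, e⟩ := h.exists_conj (p := 5) (by norm_num) (by norm_num) hy h.t_data.2.1
  obtain ⟨g', rfl⟩ := QuotientGroup.mk_surjective g
  set G' : J3 F ω := QuotientGroup.mk g'
  have hc : Commute (G' * x * G'⁻¹) (h.qel fWord) := by
    rw [e]
    show G' * x * G'⁻¹ * (G' * y ^ k * G'⁻¹) = G' * y ^ k * G'⁻¹ * (G' * x * G'⁻¹)
    calc G' * x * G'⁻¹ * (G' * y ^ k * G'⁻¹) = G' * (x * y ^ k) * G'⁻¹ := by group
      _ = G' * (y ^ k * x) * G'⁻¹ := by rw [(hxy.pow_right k).eq]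
      _ = _ := by group
  have hback : ∀ z, G' * x * G'⁻¹ = z →
      x = (QuotientGroup.mk g'⁻¹ : J3 F ω) * z * (QuotientGroup.mk g'⁻¹ : J3 F ω)⁻¹ := by
    intro z hz; rw [← hz, QuotientGroup.mk_inv]; simp only [G']; group
  rcases h.cent_f (by rw [conj_pow, hx3]; group) hc with e1 | e1 | e1
  · exact absurd (conj_eq_one_iff.1 e1) hx1
  · exact ⟨g'⁻¹, 1, Or.inl rfl, by rw [pow_one]; exact hback _ e1⟩
  · exact ⟨g'⁻¹, 2, Or.inr rfl, hback _ e1⟩

theorem colMat_poly {co : List ℕ} (hco : ∀ k, co.getD k 0 < 4) :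
    colMat ω (polyCols co) = ∑ t : F9, phi ω (co.getD (idx t) 0) • ((h.wordGL aWord : GL F9 F) : Matrix F9 F9 F) ^ idx t := by
  ext w z
  have hrep : ∀ k, Rep ω (h.elt (pw k aWord)).1 (evalW (pw k aWord) idCols) := fun k =>
    h.rep_elt (pw_lt small_aut.1 k)
  have hz := idx_lt z
  rw [colMat, Matrix.of_apply, polyCols, List.getD_eq_getElem _ _ (by simp; omega), List.getElem_map,
    List.getElem_range, h.vec_xor9, Finset.sum_apply, Matrix.sum_apply]
  refine Finset.sum_congr rfl fun t _ => ?_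
  rw [(h.mulS_val _ (hco _) ((hrep _).wf.getD _)).2, Pi.smul_apply, Matrix.smul_apply, ← Units.val_pow_eq_pow_val,
    ← h.wordGL_pw, show (h.wordGL (pw (idx t) aWord)) = (h.elt (pw (idx t) aWord)).1 from rfl, (hrep _).val]
  rfl

theorem poly_commute {co : List ℕ} (hco : co.all (Nat.blt · 4) = true) {g : threeJ3 F ω}
    (hg : g * h.elt aWord = h.elt aWord * g) :
    colMat ω (polyCols co) * (g.1 : Matrix F9 F9 F) = (g.1 : Matrix F9 F9 F) * colMat ω (polyCols co) := by
  have hlt : ∀ k, co.getD k 0 < 4 := fun k => by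
    rcases getD_mem_or co k 0 with e | e
    · simpa [Nat.blt_eq] using List.all_eq_true.1 hco _ e
    · rw [e]; norm_num
  rw [h.colMat_poly hlt, Finset.sum_mul, Finset.mul_sum]
  refine Finset.sum_congr rfl fun t _ => ?_
  rw [Matrix.smul_mul, Matrix.mul_smul]
  congr 1
  have : Commute (g.1 : Matrix F9 F9 F) ((h.wordGL aWord : GL F9 F) : Matrix F9 F9 F) :=
    congrArg (fun M : threeJ3 F ω => (M.1 : Matrix F9 F9 F)) hg
  exact (this.pow_right (idx t)).eq.symm

/-- The element of order nineteen is self-centralising. -/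
theorem cent_a {x : J3 F ω} (hx : Commute x (h.qel aWord)) : ∃ i : ℕ, x = h.qel aWord ^ i := by
  obtain ⟨g, rfl⟩ := QuotientGroup.mk_surjective x
  have hA : h.elt aWord ^ 19 = 1 := h.elt_pow_eq_one small_aut.1 aWord_check.1
  have hg : g * h.elt aWord = h.elt aWord * g := h.lift_commute (p := 19) (by norm_num) hA hx
  obtain ⟨n, hn, a, ha, eg⟩ := h.exists_line g
  have htest : ∀ j, j < 4 → inLines (ap (autTab (3 + j)) n) = true := by
    intro j hj
    obtain ⟨e1, e2, e3⟩ := polyCols_test j hj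
    have hwf := autC_wf (3 + j) (by omega)
    have hcol : colMat ω (autC (3 + j)) * (g.1 : Matrix F9 F9 F) = (g.1 : Matrix F9 F9 F) * colMat ω (autC (3 + j)) := by
      rw [← beqL_eq e1]; exact h.poly_commute e2 hg
    obtain ⟨m, hm, b, hb, em⟩ := h.of_inLines (hwf.getD 0) e3
    obtain ⟨m', hm', c, hc, ec⟩ := h.stable g.2 hm
    have hj' : tabColsOk (3 + j) = true := by
      interval_cases j
      exacts [tabCols_three, tabCols_four, tabCols_five, tabCols_six]
    obtain ⟨hl, hv⟩ := h.vec_tab hj' hwf hn.1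
    refine h.inLines_of hl hm' (mul_ne_zero (inv_ne_zero ha) (mul_ne_zero hb hc)) ?_
    have e4 : vec ω n = a⁻¹ • ((g.1 : Matrix F9 F9 F) *ᵥ vec ω 1) := by
      rw [eg, smul_smul, inv_mul_cancel₀ ha, one_smul]
    rw [hv, e4, Matrix.mulVec_smul, Matrix.mulVec_mulVec, hcol, ← Matrix.mulVec_mulVec,
      show colMat ω (autC (3 + j)) *ᵥ vec ω 1 = vec ω ((autC (3 + j)).getD 0 0) by
        rw [vec_one]; exact colMat_single _ 0,
      em, Matrix.mulVec_smul, ec, smul_smul, smul_smul, mul_assoc]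
  have hsc := scan_of hn
  simp only [scanOk, fce_eq] at hsc
  rw [show Nat.beq (depth n) 0 = false from Bool.eq_false_iff.2 fun e0 =>
    hn.2.2.2.ne' (Nat.eq_of_beq_eq_true e0), cond_false, show ap (autTab 3) n = ap (autTab (3 + 0)) n from rfl,
    show ap (autTab 4) n = ap (autTab (3 + 1)) n from rfl, show ap (autTab 5) n = ap (autTab (3 + 2)) n from rfl,
    show ap (autTab 6) n = ap (autTab (3 + 3)) n from rfl, htest 0 (by norm_num), htest 1 (by norm_num),
    htest 2 (by norm_num), htest 3 (by norm_num)] at hsc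
  simp only [Bool.and_eq_true, cond_true] at hsc
  have hcy := List.all_eq_true.1 cycle_check n (memN_spec hsc.2.2.2)
  simp only [List.any_eq_true, List.mem_range, Nat.beq_eq] at hcy
  obtain ⟨i, -, ei⟩ := hcy
  refine ⟨i, ?_⟩
  rw [← h.qel_pw]
  have hrep := h.rep_elt (pw_lt small_aut.1 i)
  obtain ⟨-, b, hb, eb⟩ := h.nrmC_spec (hrep.wf.getD 0)
  rw [ei] at eb
  have er : ((h.elt (pw i aWord)).1 : Matrix F9 F9 F) *ᵥ vec ω 1 = b⁻¹ • vec ω n := by
    rw [h.rep_first hrep, eb, smul_smul, inv_mul_cancel₀ hb, one_smul]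
  obtain ⟨c, hc, ec⟩ := h.hGrp_fixes (h.fixes_of_line (inv_ne_zero hb) ha er eg)
  set u := (h.elt (pw i aWord))⁻¹ * g with hu
  have hua : u * h.elt aWord = h.elt aWord * u := by
    have h1 : Commute (h.elt (pw i aWord))⁻¹ (h.elt aWord) := by
      rw [h.elt_pw]; exact ((Commute.refl _).pow_left i).inv_left
    rw [hu, mul_assoc, hg, ← mul_assoc, h1.eq, mul_assoc]
  have huval : (u.1 : Matrix F9 F9 F) = c • (1 : Matrix F9 F9 F) := by
    ext w z
    have hz : colMat ω (polyCols (commPoly.getD (idx z) [])) *ᵥ vec ω 1 = Pi.single z (1 : F) := by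
      rw [vec_one, colMat_single, show idx (0 : F9) = 0 from rfl,
        beqL_eq (polyCols_comm _ (idx_lt z)).1, commCols_first _ (idx_lt z)]
      funext w'
      have e : ∀ z w : F9, dig (idx w) (idCols.getD (idx z) 0) = if w = z then 1 else 0 := by decide +kernel
      rw [vec, e, Pi.single_apply]
      split_ifs <;> rfl
    have h2 := congrArg (fun M => M *ᵥ vec ω 1) (h.poly_commute (polyCols_comm _ (idx_lt z)).2 hua)
    simp only [← Matrix.mulVec_mulVec] at h2
    rw [ec, Matrix.mulVec_smul, hz] at h2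
    have h3 := congrFun h2.symm w
    rw [Matrix.mulVec_single_one, Pi.smul_apply] at h3
    rw [Matrix.smul_apply, Matrix.one_apply]
    rw [Pi.single_apply] at h3
    exact h3
  refine (h.qeq_of_smul (g := h.elt (pw i aWord)) (g' := g) (c := c) ?_).symm
  have : g = h.elt (pw i aWord) * u := by rw [hu, mul_inv_cancel_left]
  conv_lhs => rw [this]
  rw [Subgroup.coe_mul, Units.val_mul, huval, Matrix.mul_smul, mul_one]

end Setup

end Cfsg.Agent.Lib.JankoThree
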