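import Cfsg.Prelude.Def_KGroupFacts
import Cfsg.Agent.Lib.JankoThree.Classes

/-! # The outer automorphism group of `J₃` has order two

The outer automorphism is the Frobenius map composed with conjugation of the index field.
An automorphism is fixed up to inner ones by its effect on an element of order nineteen:
the elements `a`, `e` and a certain element of order three generate, and an automorphism
fixing the first two must fix the third. -/

set_option autoImplicit false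
set_option maxRecDepth 100000

namespace Cfsg.Agent.Lib.JankoThree

open Cfsg.Spor Matrix

variable {F : Type*} [Field F] [Fintype F] {ω : F}

/-- Conjugation of the index field. -/
def pc : F9 ≃ F9 := Equiv.prodCongr (Equiv.refl (ZMod 3)) (Equiv.neg (ZMod 3))

theorem pc_apply (z : F9) : pc z = (z.1, -z.2) := rfl

def isRes (k : ℕ) : Bool := (List.range 9).any fun i => Nat.beq (4 ^ i % 19) k

theorem residues_check : (List.range 19).all (fun k => (List.range 19).all fun l =>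
    Nat.beq k 0 || (Nat.beq l 0 || (isRes k || (isRes l || isRes (k * l % 19))))) = true := by
  decide +kernel

theorem residues (k : ℕ) (hk : k < 19) (l : ℕ) (hl : l < 19) (hk0 : k ≠ 0) (hl0 : l ≠ 0) :
    (∃ i, 4 ^ i % 19 = k) ∨ (∃ i, 4 ^ i % 19 = l) ∨ ∃ i, 4 ^ i % 19 = k * l % 19 := by
  have hs := List.all_eq_true.1 (List.all_eq_true.1 residues_check k (List.mem_range.2 hk)) l (List.mem_range.2 hl)
  simp only [Bool.or_eq_true, Nat.beq_eq, hk0, hl0, false_or, isRes, List.any_eq_true] at hs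
  rcases hs with ⟨i, -, e⟩ | ⟨i, -, e⟩ | ⟨i, -, e⟩
  exacts [Or.inl ⟨i, e⟩, Or.inr (Or.inl ⟨i, e⟩), Or.inr (Or.inr ⟨i, e⟩)]

namespace Setup

variable (h : Setup ω)

include h

omit [Fintype F] h in
theorem phi_swap (c : ℕ) (hc : c < 4) (h3 : ω ^ 3 = 1) :
    phi ω ([0, 1, 3, 2].getD c 0) = phi ω c ^ 2 := by
  interval_cases c
  · exact (zero_pow (by norm_num : (2 : ℕ) ≠ 0)).symm
  · exact (one_pow 2).symm
  · rfl
  · show ω = (ω ^ 2) ^ 2
    rw [← pow_mul, show 2 * 2 = 3 + 1 from rfl, pow_succ, h3, one_mul]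

omit h in
/-- Frobenius and conjugation of the index field, on matrices. -/
noncomputable def sigMat (h : Setup ω) : Matrix F9 F9 F →* Matrix F9 F9 F :=
  haveI := h.charTwo
  { toFun := fun M => (M.map (frobenius F 2)).submatrix pc pc
    map_one' := by
      rw [Matrix.map_one _ (map_zero _) (map_one _), Matrix.submatrix_one_equiv]
    map_mul' := fun M N => by rw [Matrix.map_mul, ← Matrix.submatrix_mul_equiv _ _ _ pc] }

theorem sigMat_apply (M : Matrix F9 F9 F) (w z : F9) : h.sigMat M w z = M (pc w) (pc z) ^ 2 := rfl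

theorem sigMat_sigMat (M : Matrix F9 F9 F) : h.sigMat (h.sigMat M) = M := by
  ext w z
  rw [h.sigMat_apply, h.sigMat_apply, ← pow_mul, pc_apply, pc_apply, pc_apply, pc_apply, neg_neg, neg_neg,
    show 2 * 2 = Fintype.card F from h.card.symm, FiniteField.pow_card]

omit h in
/-- The map on invertible matrices. -/
noncomputable def sigGL (h : Setup ω) : GL F9 F →* GL F9 F := Units.map h.sigMat

theorem sigGL_val (g : GL F9 F) : (h.sigGL g : Matrix F9 F9 F) = h.sigMat g := rfl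

theorem sigGL_gl (i : ℕ) (hi : i < 4) : h.sigGL (h.gl i) = h.wordGL (sigmaWord.getD i []) := by
  apply Units.ext
  have hrep := h.rep_elt (small_aut.2.2.2.2.2 i)
  ext w z
  rw [sigGL_val, h.sigMat_apply, h.gl_val hi,
    show h.wordGL (sigmaWord.getD i []) = (h.elt (sigmaWord.getD i [])).1 from rfl, hrep.val]
  simp only [colMat, toMat, Matrix.of_apply, vec]
  rw [Nat.eq_of_beq_eq_true (sigma_check i hi w z), sigCode, ent2_mc, pc_apply, pc_apply,
    phi_swap _ (ent2_lt (small_gLit i (by omega)) _ _) h.omega_cube]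

theorem sigGL_mem {g : GL F9 F} (hg : g ∈ threeJ3 F ω) : h.sigGL g ∈ threeJ3 F ω := by
  have hle : threeJ3 F ω ≤ (threeJ3 F ω).comap h.sigGL := by
    refine le_of_eq_of_le h.closure_gl ((Subgroup.closure_le _).2 ?_)
    rintro _ ⟨i, rfl⟩
    show h.sigGL (h.gl i.val) ∈ threeJ3 F ω
    rw [h.sigGL_gl i.val i.2]
    exact h.wordGL_mem _
  exact hle hg

theorem sigGL_sigGL (g : GL F9 F) : h.sigGL (h.sigGL g) = g :=
  Units.ext (h.sigMat_sigMat g)

omit h in
/-- The automorphism of the triple cover. -/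
noncomputable def sigThree (h : Setup ω) : threeJ3 F ω ≃* threeJ3 F ω where
  toFun g := ⟨h.sigGL g.1, h.sigGL_mem g.2⟩
  invFun g := ⟨h.sigGL g.1, h.sigGL_mem g.2⟩
  left_inv g := Subtype.ext (h.sigGL_sigGL g.1)
  right_inv g := Subtype.ext (h.sigGL_sigGL g.1)
  map_mul' g g' := Subtype.ext (map_mul h.sigGL g.1 g'.1)

omit h in
/-- The outer automorphism of `J₃`. -/
noncomputable def sig (h : Setup ω) : MulAut (J3 F ω) :=
  QuotientGroup.congr _ _ h.sigThree (Subgroup.characteristic_iff_map_eq.1 inferInstance h.sigThree)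

theorem sig_mk (g : threeJ3 F ω) :
    h.sig (QuotientGroup.mk g : J3 F ω) = QuotientGroup.mk (h.sigThree g) := rfl

theorem sig_sq : h.sig * h.sig = 1 := by
  ext x
  obtain ⟨g, rfl⟩ := QuotientGroup.mk_surjective x
  rw [MulAut.mul_apply, h.sig_mk, h.sig_mk, MulAut.one_apply]
  exact congrArg _ (Subtype.ext (h.sigGL_sigGL g.1))

theorem sig_outer : h.sig ∉ Inn (J3 F ω) := by
  rintro ⟨x, ex⟩
  obtain ⟨g, rfl⟩ := QuotientGroup.mk_surjective x
  set A := h.elt aWord
  have hA : A ^ 19 = 1 := h.elt_pow_eq_one small_aut.1 aWord_check.1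
  have e : (QuotientGroup.mk (g * A * g⁻¹) : J3 F ω) = QuotientGroup.mk (h.sigThree A) := by
    rw [← h.sig_mk, ← ex, MulAut.conj_apply, QuotientGroup.mk_mul, QuotientGroup.mk_mul, QuotientGroup.mk_inv]
  obtain ⟨c, -, hc0, ec⟩ := h.smul_of_qeq e
  have h1 : ((g * A * g⁻¹ : threeJ3 F ω).1 : Matrix F9 F9 F) ^ 19 = 1 := by
    rw [← Units.val_pow_eq_pow_val, ← Subgroup.coe_pow, conj_pow, hA, mul_one, mul_inv_cancel]
    rfl
  have h2 : ((h.sigThree A).1 : Matrix F9 F9 F) ^ 19 = 1 := by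
    rw [← Units.val_pow_eq_pow_val, ← Subgroup.coe_pow, ← map_pow, hA, map_one]
    rfl
  rw [ec, smul_pow, h1] at h2
  have hc19 : phi ω c ^ 19 = 1 := by
    have := congrFun (congrFun h2 0) 0
    rwa [Matrix.smul_apply, Matrix.one_apply_eq, smul_eq_mul, mul_one] at this
  have hphi3 : phi ω c ^ 3 = 1 := by
    have hne : phi ω c ≠ 0 := fun e0 => by rw [e0, zero_pow (by norm_num)] at hc19; exact zero_ne_one hc19
    have := FiniteField.pow_card_sub_one_eq_one _ hne
    rwa [h.card] at this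
  have hc1 : phi ω c = 1 := by
    calc phi ω c = (phi ω c ^ 3) ^ 6 * phi ω c := by rw [hphi3, one_pow, one_mul]
      _ = phi ω c ^ 19 := by rw [← pow_mul, ← pow_succ]
      _ = 1 := hc19
  rw [hc1, one_smul] at ec
  have htr := congrArg Matrix.trace ec
  have hlhs : Matrix.trace ((h.sigThree A).1 : Matrix F9 F9 F) = Matrix.trace (A.1 : Matrix F9 F9 F) ^ 2 := by
    have := h.charTwo
    show (∑ w, h.sigMat (A.1 : Matrix F9 F9 F) w w) = (∑ w, (A.1 : Matrix F9 F9 F) w w) ^ 2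
    rw [CharTwo.sum_sq]
    exact Fintype.sum_equiv pc _ _ fun w => rfl
  rw [hlhs, Subgroup.coe_mul, Subgroup.coe_mul, Subgroup.coe_inv, Units.val_mul, Units.val_mul,
    Matrix.trace_units_conj, h.trace_rep (h.rep_elt small_aut.1)] at htr
  have hk := trace_check.1
  rw [trCode] at hk
  rcases hk with hk | hk <;> rw [hk] at htr
  · exact h.omega_sq_ne (show ω ^ 2 = ω from htr)
  · have h4 : (ω ^ 2) ^ 2 = ω ^ 2 := htr
    rw [← pow_mul, show 2 * 2 = 3 + 1 from rfl, pow_succ, h.omega_cube, one_mul] at h4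
    exact h.omega_sq_ne h4.symm

theorem conj_e_pow (i : ℕ) :
    h.qel eWord ^ i * h.qel aWord * (h.qel eWord ^ i)⁻¹ = h.qel aWord ^ 4 ^ i := by
  obtain ⟨ha, he, -, -, -, -⟩ := small_aut
  have e1 : h.qel eWord * h.qel aWord * (h.qel eWord)⁻¹ = h.qel aWord ^ 4 := by
    obtain ⟨-, hwi⟩ := h.wordGL_winv he
    have e := h.word_eq (app_lt (app_lt he ha) hwi) (pw_lt ha 4) e_check
    rw [← h.qel_winv he, ← h.qel_append, ← h.qel_append, ← h.qel_pw]
    exact congrArg QuotientGroup.mk (Subtype.ext e)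
  induction i with
  | zero => simp
  | succ i ih =>
    calc h.qel eWord ^ (i + 1) * h.qel aWord * (h.qel eWord ^ (i + 1))⁻¹
        = h.qel eWord ^ i * (h.qel eWord * h.qel aWord * (h.qel eWord)⁻¹) * (h.qel eWord ^ i)⁻¹ := by
          rw [pow_succ]; group
      _ = (h.qel eWord ^ i * h.qel aWord * (h.qel eWord ^ i)⁻¹) ^ 4 := by rw [e1, conj_pow]
      _ = h.qel aWord ^ 4 ^ (i + 1) := by rw [ih, ← pow_mul, ← pow_succ]

theorem third_fixed {ψ : MulAut (J3 F ω)} (ha : ψ (h.qel aWord) = h.qel aWord)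
    (he : ψ (h.qel eWord) = h.qel eWord) : ψ (h.qel thirdWord) = h.qel thirdWord := by
  obtain ⟨hwa, hwe, hwt, hwf, hwr, -⟩ := small_aut
  obtain ⟨hc, hpow, hbase⟩ := third_check
  have hwi := (h.wordGL_winv (hwr baseFix)).2
  have hthird : ∀ i ∈ thirdWord, i < 4 := app_lt (app_lt (hwr _) (pw_lt hwt _)) hwi
  set t := h.qel tEltWord with ht
  set R := h.qel (fixWord.getD baseFix []) with hR
  set x0 := h.qel thirdWord with hx0
  have hx : x0 = R * t ^ basePow * R⁻¹ := by
    rw [hx0, thirdWord, candWord, h.qel_append, h.qel_append, h.qel_winv (hwr _), h.qel_pw]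
  have t3 : t ^ 3 = 1 := by
    have := pow_orderOf_eq_one (h.qel tEltWord)
    rwa [h.t_data.1] at this
  have hx3 : x0 ^ 3 = 1 := by
    rw [hx, conj_pow, ← pow_mul, mul_comm, pow_mul, t3, one_pow, mul_one, mul_inv_cancel]
  have hx1 : x0 ≠ 1 := by
    rw [hx, Ne, conj_eq_one_iff, ← orderOf_dvd_iff_pow_eq_one, ht, h.t_data.1]
    rcases hpow with e | e <;> rw [e] <;> norm_num
  have hy : orderOf (R * h.qel fWord * R⁻¹) = 5 :=
    ((MulAut.conj R).orderOf_eq (h.qel fWord)).trans h.t_data.2.1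
  have htf : Commute t (h.qel fWord) := by
    show t * h.qel fWord = h.qel fWord * t
    rw [ht, ← h.qel_append, ← h.qel_append]
    exact h.qel_eq (app_lt hwt hwf) (app_lt hwf hwt) t_f_comm
  have hxy : Commute x0 (R * h.qel fWord * R⁻¹) := by
    rw [hx]; exact Commute.map (htf.pow_left basePow) (MulAut.conj R)
  obtain ⟨g, s, hs, eg⟩ := h.class_three (x := ψ x0) (y := ψ (R * h.qel fWord * R⁻¹))
    (by rw [← map_pow, hx3, map_one]) (fun e => hx1 (ψ.injective (by rw [e, map_one])))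
    (by rw [ψ.orderOf_eq]; exact hy) (hxy.map ψ)
  have hce : Commute x0 (h.qel (pw 3 eWord)) := by
    show x0 * _ = _ * x0
    rw [hx0, ← h.qel_append, ← h.qel_append]
    exact h.qel_eq (app_lt hthird (pw_lt hwe 3)) (app_lt (pw_lt hwe 3) hthird) hc
  have he3 : ψ (h.qel (pw 3 eWord)) = h.qel (pw 3 eWord) := by
    rw [pw, h.qel_pw, map_pow, he]
  have hcy : Commute (ψ x0) (h.qel (pw 3 eWord)) := he3 ▸ hce.map ψ
  rw [eg] at hcy
  obtain ⟨i, hi, s', hs', ec⟩ := h.fixed_by_e hs hcy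
  rw [← eg] at ec
  have hs3 : s' < 3 ∧ s' ≠ 0 := by rcases hs' with rfl | rfl <;> norm_num
  have hb3 : basePow < 3 ∧ basePow ≠ 0 := by rcases hpow with e | e <;> rw [e] <;> norm_num
  have hcand : ∀ j ∈ candWord i s', j < 4 :=
    app_lt (app_lt (hwr i) (pw_lt hwt s')) (h.wordGL_winv (hwr i)).2
  have h12 : (h.qel aWord * h.qel eWord * x0) ^ 12 = 1 := by
    rw [hx0, ← h.qel_append, ← h.qel_append, ← h.qel_pw, ← h.qel_nil]
    exact h.qel_eq (pw_lt (app_lt (app_lt hwa hwe) hthird) 12) (by simp)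
      ((invariant_check baseFix hbase basePow hb3.1 hb3.2).2 ⟨rfl, rfl⟩)
  have h12' : h.qel (pw 12 (aWord ++ eWord ++ candWord i s')) = 1 := by
    rw [pw, h.qel_pw, h.qel_append, h.qel_append, ← ec]
    conv_lhs => rw [← ha, ← he]
    rw [← map_mul, ← map_mul, ← map_pow, h12, map_one]
  have hp := h.proj_of_qeq (h.rep_elt (pw_lt (app_lt (app_lt hwa hwe) hcand) 12)) (g' := 1) (rep_one ω) h12'
  obtain ⟨rfl, rfl⟩ := (invariant_check i hi s' hs3.1 hs3.2).1 hp
  exact ec

theorem eq_one_of_fixes {ψ : MulAut (J3 F ω)} (ha : ψ (h.qel aWord) = h.qel aWord)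
    (he : ψ (h.qel eWord) = h.qel eWord) : ψ = 1 := by
  obtain ⟨hwa, hwe, hwt, -, hwr, -⟩ := small_aut
  have hx := h.third_fixed ha he
  have hwx : ∀ i ∈ thirdWord, i < 4 := app_lt (app_lt (hwr _) (pw_lt hwt _)) (h.wordGL_winv (hwr _)).2
  have hpick : ∀ n, ψ (h.qel (pickWord n)) = h.qel (pickWord n) ∧ ∀ i ∈ pickWord n, i < 4 := by
    intro n
    rcases n with _ | _ | _ | _ | _ | n
    · exact ⟨ha, hwa⟩
    · exact ⟨he, hwe⟩
    · exact ⟨hx, hwx⟩
    · refine ⟨?_, (h.wordGL_winv hwa).2⟩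
      show ψ (h.qel (winv aWord)) = h.qel (winv aWord)
      rw [h.qel_winv hwa, map_inv, ha]
    · refine ⟨?_, (h.wordGL_winv hwe).2⟩
      show ψ (h.qel (winv eWord)) = h.qel (winv eWord)
      rw [h.qel_winv hwe, map_inv, he]
    · refine ⟨?_, (h.wordGL_winv hwx).2⟩
      show ψ (h.qel (winv thirdWord)) = h.qel (winv thirdWord)
      rw [h.qel_winv hwx, map_inv, hx]
  have hflat : ∀ l : List ℕ,
      ψ (h.qel (l.flatMap pickWord)) = h.qel (l.flatMap pickWord) ∧ ∀ i ∈ l.flatMap pickWord, i < 4 := by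
    intro l
    induction l with
    | nil => exact ⟨by rw [List.flatMap_nil, h.qel_nil, map_one], by simp⟩
    | cons n l ih =>
      rw [List.flatMap_cons]
      exact ⟨by rw [h.qel_append, map_mul, (hpick n).1, ih.1], app_lt (hpick n).2 ih.2⟩
  let K : Subgroup (threeJ3 F ω) :=
    MonoidHom.eqLocus (ψ.toMonoidHom.comp (QuotientGroup.mk' _)) (QuotientGroup.mk' _)
  have hle : threeJ3 F ω ≤ K.map (threeJ3 F ω).subtype := by
    refine le_of_eq_of_le h.closure_gl ((Subgroup.closure_le _).2 ?_)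
    rintro _ ⟨i, rfl⟩
    have hsing : ∀ j ∈ [i.val], j < 4 := fun j hj => by rw [List.mem_singleton.1 hj]; exact i.2
    have e := h.qel_eq hsing (hflat _).2 (gen_check i.val i.2)
    refine ⟨h.elt [i.val], ?_, ?_⟩
    · show ψ (h.qel [i.val]) = h.qel [i.val]
      rw [e]; exact (hflat _).1
    · show h.wordGL [i.val] = h.gl i.val
      simp [Setup.wordGL]
  ext x
  obtain ⟨g, rfl⟩ := QuotientGroup.mk_surjective x
  obtain ⟨n, hn, e⟩ := hle g.2
  rw [← Subtype.ext (show (n : GL F9 F) = g from e)]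
  exact hn

theorem inner_of_residue {φ : MulAut (J3 F ω)} {g : J3 F ω} {k i : ℕ} (hk : 4 ^ i % 19 = k % 19)
    (e : φ (h.qel aWord) = g * h.qel aWord ^ k * g⁻¹) : φ ∈ Inn (J3 F ω) := by
  set A := h.qel aWord with hA
  set E := h.qel eWord with hE
  have h19 : orderOf A = 19 := h.t_data.2.2
  have hmod : ∀ a b : ℕ, a % 19 = b % 19 → A ^ a = A ^ b := fun a b hab => by
    rw [pow_eq_pow_iff_modEq, h19]; exact hab
  have hinn : ∀ x : J3 F ω, MulAut.conj x ∈ Inn (J3 F ω) := fun x => ⟨x, rfl⟩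
  set ψ := MulAut.conj (g * E ^ i)⁻¹ * φ with hψ
  have hψA : ψ A = A := by
    rw [hψ, MulAut.mul_apply, e, MulAut.conj_apply, ← hmod _ _ hk, ← h.conj_e_pow i]
    rw [← hA, ← hE]
    group
  have e4 : E * A * E⁻¹ = A ^ 4 := by simpa using h.conj_e_pow 1
  obtain ⟨j, hj⟩ := h.cent_a (x := E⁻¹ * ψ E) (by
    show E⁻¹ * ψ E * A = A * (E⁻¹ * ψ E)
    have e5 : ψ E * A * (ψ E)⁻¹ = A ^ 4 := by
      rw [← hψA, ← map_inv, ← map_mul, ← map_mul, e4, map_pow, hψA]
    calc E⁻¹ * ψ E * A = E⁻¹ * (ψ E * A * (ψ E)⁻¹) * ψ E := by group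
      _ = E⁻¹ * (E * A * E⁻¹) * ψ E := by rw [e5, e4]
      _ = A * (E⁻¹ * ψ E) := by group)
  set χ := MulAut.conj (A ^ (14 * j)) * ψ with hχ
  have hχA : χ A = A := by
    rw [hχ, MulAut.mul_apply, hψA, MulAut.conj_apply]; group
  have hχE : χ E = E := by
    have hψE : ψ E = E * A ^ j := by rw [← hj]; group
    have e5 : A ^ (14 * j) * E = E * A ^ (70 * j) := by
      have : E * A ^ (70 * j) * E⁻¹ = A ^ (14 * j) := by
        rw [← conj_pow, e4, ← pow_mul]
        exact hmod _ _ (by omega)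
      rw [← this]; group
    calc χ E = A ^ (14 * j) * E * A ^ j * (A ^ (14 * j))⁻¹ := by
          rw [hχ, MulAut.mul_apply, hψE, MulAut.conj_apply]; group
      _ = E * (A ^ (70 * j + j) * (A ^ (14 * j))⁻¹) := by rw [e5, pow_add]; group
      _ = E := by rw [hmod (70 * j + j) (14 * j) (by omega), mul_inv_cancel, mul_one]
  have h1 := h.eq_one_of_fixes hχA hχE
  have : φ = (MulAut.conj (g * E ^ i)⁻¹)⁻¹ * (MulAut.conj (A ^ (14 * j)))⁻¹ := by
    rw [hχ, hψ, ← mul_assoc] at h1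
    rw [← _root_.mul_inv_rev]
    exact eq_inv_of_mul_eq_one_right h1
  rw [this]
  exact mul_mem (inv_mem (hinn _)) (inv_mem (hinn _))

theorem auto_cases (φ : MulAut (J3 F ω)) : φ ∈ Inn (J3 F ω) ∨ φ * h.sig ∈ Inn (J3 F ω) := by
  set A := h.qel aWord
  have : Fact (Nat.Prime 19) := ⟨by norm_num⟩
  have h19 : orderOf A = 19 := h.t_data.2.2
  have hpow : ∀ ψ : MulAut (J3 F ω), ∃ g k, k % 19 ≠ 0 ∧ ψ A = g * A ^ k * g⁻¹ := by
    intro ψ
    obtain ⟨g, k, e⟩ := h.exists_conj (p := 19) (by norm_num) (by norm_num) h19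
      (show orderOf (ψ A) = 19 by rw [ψ.orderOf_eq]; exact h19)
    refine ⟨g, k, fun h0 => ?_, e⟩
    have : A ^ k = 1 := by rw [← orderOf_dvd_iff_pow_eq_one, h19]; exact Nat.dvd_of_mod_eq_zero h0
    rw [this, mul_one, mul_inv_cancel, map_eq_one_iff ψ ψ.injective] at e
    rw [e, orderOf_one] at h19
    omega
  obtain ⟨g, k, hk, eg⟩ := hpow φ
  obtain ⟨g', l, hl, el⟩ := hpow h.sig
  rcases residues (k % 19) (Nat.mod_lt _ (by norm_num)) (l % 19) (Nat.mod_lt _ (by norm_num)) hk hl with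
    ⟨i, hi⟩ | ⟨i, hi⟩ | ⟨i, hi⟩
  · exact Or.inl (h.inner_of_residue hi eg)
  · exact absurd (h.inner_of_residue hi el) h.sig_outer
  · refine Or.inr (h.inner_of_residue (g := φ g' * g) (k := k * l) (i := i)
      (by rw [hi, Nat.mul_mod k l]) ?_)
    show φ (h.sig A) = φ g' * g * A ^ (k * l) * (φ g' * g)⁻¹
    rw [el, map_mul, map_mul, map_pow, map_inv, eg, conj_pow, ← pow_mul]
    group

theorem card_out : Nat.card (Out (J3 F ω)) = 2 := by
  rw [Nat.card_eq_two_iff]
  refine ⟨1, QuotientGroup.mk h.sig, fun e => h.sig_outer ((QuotientGroup.eq_one_iff _).1 e.symm),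
    Set.eq_univ_of_forall fun x => ?_⟩
  obtain ⟨φ, rfl⟩ := QuotientGroup.mk_surjective x
  rcases h.auto_cases φ with e | e
  · exact Or.inl ((QuotientGroup.eq_one_iff _).2 e)
  · refine Or.inr (Set.mem_singleton_iff.2 ?_)
    have h1 : (QuotientGroup.mk φ : Out (J3 F ω)) * QuotientGroup.mk h.sig = 1 := by
      rw [← QuotientGroup.mk_mul]; exact (QuotientGroup.eq_one_iff _).2 e
    calc (QuotientGroup.mk φ : Out (J3 F ω))
        = QuotientGroup.mk φ * QuotientGroup.mk (h.sig * h.sig) := by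
          rw [h.sig_sq, QuotientGroup.mk_one, mul_one]
      _ = QuotientGroup.mk h.sig := by rw [QuotientGroup.mk_mul, ← mul_assoc, h1, one_mul]

end Setup

end Cfsg.Agent.Lib.JankoThree
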