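import Cfsg.Agent.Lib.JankoThree.TableData
import Cfsg.Agent.Lib.JankoThree.OrbitData

/-! # The Boolean checks on the two spanning trees -/

set_option autoImplicit false

namespace Cfsg.Agent.Lib.JankoThree

def parTab4 : ℕ := 0x111e111e111eeee1111e111e111eeee1111e111e111eeee1eee1eee1eee1111e

def parTab5 : ℕ := 0xeee1eee1eee1111eeee1eee1eee1111eeee1eee1eee1111e111e111e111eeee1eee1eee1eee1111eeee1eee1eee1111eeee1eee1eee1111e111e111e111eeee1eee1eee1eee1111eeee1eee1eee1111eeee1eee1eee1111e111e111e111eeee1111e111e111eeee1111e111e111eeee1111e111e111eeee1eee1eee1eee1111e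

def par9 (v : ℕ) : Bool :=
  Bool.xor (Nat.beq (parTab4 / 2 ^ (v % 256) % 2) 1) (Nat.beq (parTab5 / 2 ^ (v / 256) % 2) 1)

/-- The unit of the highest nonzero coordinate. -/
def topPow (v : ℕ) : ℕ :=
  bif Nat.blt v 4 then 1 else bif Nat.blt v 16 then 4 else bif Nat.blt v 64 then 16 else
  bif Nat.blt v 256 then 64 else bif Nat.blt v 1024 then 256 else bif Nat.blt v 4096 then 1024 else
  bif Nat.blt v 16384 then 4096 else bif Nat.blt v 65536 then 16384 else 65536

def isN (v : ℕ) : Bool := Nat.beq (v / topPow v) 1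

/-- Evaluate a number before passing it on, so that a kernel computation shares it. -/
def fce {α : Type} : ℕ → (ℕ → α) → α
  | 0, f => f 0
  | m + 1, f => f (m + 1)

theorem fce_eq {α : Type} (n : ℕ) (f : ℕ → α) : fce n f = f n := by
  cases n <;> rfl

def scalC (c v : ℕ) : ℕ :=
  bif Nat.beq c 2 then ap (tab 4) v else bif Nat.beq c 3 then ap (tab 5) v else v

def nrmC (y : ℕ) : ℕ :=
  fce y fun y => fce (y / topPow y) fun t =>
    bif Nat.beq t 2 then scalC 3 y else bif Nat.beq t 3 then scalC 2 y else y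

def entry (v : ℕ) : ℕ :=
  fce v fun v => fce (v / 512) fun q => fce (28 * (v % 512)) fun s =>
    orbTree.get q / 2 ^ s % 268435456

def depth (v : ℕ) : ℕ := entry v / 4194304

def reachOk (b : Bool) (root v : ℕ) : Bool :=
  fce v fun v => fce (entry v) fun e => fce (e / 4194304) fun d => fce (e % 262144) fun p =>
  bif Nat.beq d 1 then Nat.beq v root else
  fce (e / 1048576 % 4) fun c => fce (e / 262144 % 4) fun i =>
  fce (depth p) fun dp =>
  Nat.beq v (scalC c (ap (tab i) p)) &&
  (Nat.blt dp d && (Nat.blt 0 dp && (isN p && (par9 p == b))))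

def imgOk (i v : ℕ) : Bool :=
  fce v fun v => fce (ap (tab i) v) fun w => fce (nrmC w) fun y =>
  isN y && (par9 y && Nat.blt 0 (depth y))

def orbOk (v : ℕ) : Bool :=
  fce v fun v =>
  bif Nat.beq (depth v) 0 then true else
  reachOk true 1 v && (imgOk 0 v && (imgOk 1 v && (imgOk 2 v && imgOk 3 v)))

def isoOk (v : ℕ) : Bool := fce v fun v => Nat.blt 0 (depth v) && reachOk false 5 v

end Cfsg.Agent.Lib.JankoThree
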