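import Mathlib
import Cfsg.Agent.Lib.JankoThree.Checks

/-! # Meaning of the coded vectors and matrices -/

set_option autoImplicit false
set_option maxRecDepth 100000

namespace Cfsg.Agent.Lib.JankoThree

open Cfsg.Spor Matrix

variable {F : Type*} [Field F] [Fintype F]

/-- The element with a given code. -/
def phi (ω : F) : ℕ → F
  | 1 => 1
  | 2 => ω
  | 3 => ω ^ 2
  | _ => 0

/-- The hypotheses of the statements. -/
structure Setup (ω : F) : Prop where
  card : Fintype.card F = 4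
  root : ω ^ 2 + ω + 1 = 0

namespace Setup

variable {ω : F} (h : Setup ω)
include h

theorem charTwo : CharP F 2 := by
  obtain ⟨p, hp⟩ := CharP.exists F
  have := hp
  obtain ⟨n, hprime, hn⟩ := FiniteField.card F p
  rw [h.card] at hn
  have hd : p ∣ 2 ^ 2 := by
    rw [show (2 : ℕ) ^ 2 = 4 from rfl, hn]; exact dvd_pow_self p n.ne_zero
  rwa [(Nat.prime_dvd_prime_iff_eq hprime Nat.prime_two).1 (hprime.dvd_of_dvd_pow hd)] at hp

theorem add_self (x : F) : x + x = 0 := by
  have := h.charTwo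
  exact CharTwo.add_self_eq_zero x

theorem omega_sq : ω ^ 2 = ω + 1 := by
  have := h.charTwo
  rw [← CharTwo.add_eq_zero, ← add_assoc]
  exact h.root

theorem omega_ne : ω ≠ 0 := fun e => by
  have := h.root; simp [e] at this

theorem omega_ne_one : ω ≠ 1 := fun e => by
  have := h.root
  rw [e, one_pow, h.add_self, zero_add] at this
  exact one_ne_zero this

theorem omega_cube : ω ^ 3 = 1 := by
  calc ω ^ 3 = (ω - 1) * (ω ^ 2 + ω + 1) + 1 := by ring
    _ = 1 := by rw [h.root, mul_zero, zero_add]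

theorem omega_sq_ne_one : ω ^ 2 ≠ 1 := fun e => by
  apply h.omega_ne_one
  calc ω = ω ^ 2 * ω := by rw [e, one_mul]
    _ = ω ^ 3 := by ring
    _ = 1 := h.omega_cube

theorem omega_sq_ne : ω ^ 2 ≠ ω := fun e => by
  apply h.omega_ne_one
  rw [pow_two] at e
  exact mul_eq_right₀ h.omega_ne |>.1 e

theorem phi_inj : ∀ x < 4, ∀ y < 4, phi ω x = phi ω y → x = y := by
  have h1 := h.omega_ne
  have h2 := h.omega_ne_one
  have h3 := h.omega_sq_ne_one
  have h4 := h.omega_sq_ne
  have h5 : ω ^ 2 ≠ 0 := pow_ne_zero 2 h1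
  intro x hx y hy he
  interval_cases x <;> interval_cases y <;> first
    | rfl
    | exact absurd he (by simp [phi, h1, h2, h3, h4, h5, h1.symm, h2.symm, h3.symm, h4.symm, h5.symm])

theorem phi_surj (a : F) : ∃ x < 4, phi ω x = a := by
  classical
  have hinj : Function.Injective fun x : Fin 4 => phi ω x.val := fun x y e =>
    Fin.ext (h.phi_inj x.val x.2 y.val y.2 e)
  obtain ⟨x, hx⟩ := ((Fintype.bijective_iff_injective_and_card _).2 ⟨hinj, by simp [h.card]⟩).2 a
  exact ⟨x.val, x.2, hx⟩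

theorem phi_xor : ∀ x < 4, ∀ y < 4, phi ω (x ^^^ y) = phi ω x + phi ω y := by
  have hs := h.omega_sq
  have hd := h.add_self
  have e1 : ω = 1 + ω ^ 2 := by
    rw [hs, add_left_comm, hd, add_zero]
  have e2 : (1 : F) = ω + ω ^ 2 := by
    rw [hs, ← add_assoc, hd, zero_add]
  intro x hx y hy
  interval_cases x <;> interval_cases y <;> simp only [phi, Nat.reduceXor] <;> first
    | rw [hd]
    | rw [zero_add]
    | rw [add_zero]
    | exact hs
    | exact hs.trans (add_comm _ _)
    | exact e1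
    | exact e1.trans (add_comm _ _)
    | exact e2
    | exact e2.trans (add_comm _ _)

theorem phi_mul : ∀ x < 4, ∀ y < 4, phi ω (mul4 x y) = phi ω x * phi ω y := by
  have hc := h.omega_cube
  intro x hx y hy
  interval_cases x <;> interval_cases y <;> simp [phi, mul4] <;>
    first
      | ring1
      | (rw [← pow_succ]; exact hc.symm)
      | (rw [← pow_succ']; exact hc.symm)
      | (rw [show ω ^ 2 * ω ^ 2 = ω ^ 3 * ω by ring, hc, one_mul])

end Setup

theorem dig_lt (i v : ℕ) : dig i v < 4 := Nat.mod_lt _ (by norm_num)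

theorem idx_lt : ∀ z : F9, idx z < 9 := by decide

theorem unidx_idx : ∀ z : F9, unidx (idx z) = z := by decide

theorem idx_unidx : ∀ i < 9, idx (unidx i) = i := by decide

theorem dig_xor (i a b : ℕ) : dig i (a ^^^ b) = dig i a ^^^ dig i b := by
  simp only [dig, show (4 : ℕ) = 2 ^ 2 from rfl, ← pow_mul]
  rw [Nat.xor_div_two_pow, Nat.xor_mod_two_pow]

theorem xor_lt_four {a b : ℕ} (ha : a < 4) (hb : b < 4) : a ^^^ b < 4 :=
  Nat.xor_lt_two_pow (n := 2) ha hb

theorem mul4_lt : ∀ x < 4, ∀ y < 4, mul4 x y < 4 := by decide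

theorem xor9_lt {f : ℕ → ℕ} (hf : ∀ k, f k < 4) : xor9 f < 4 :=
  xor_lt_four (xor_lt_four (xor_lt_four (xor_lt_four (hf 0) (hf 1)) (hf 2))
    (xor_lt_four (xor_lt_four (hf 3) (hf 4)) (hf 5))) (xor_lt_four (xor_lt_four (hf 6) (hf 7)) (hf 8))

theorem sum_f9 {M : Type*} [AddCommMonoid M] (f : F9 → M) :
    ∑ z, f z = (f (unidx 0) + f (unidx 1) + f (unidx 2)) + (f (unidx 3) + f (unidx 4) + f (unidx 5)) +
      (f (unidx 6) + f (unidx 7) + f (unidx 8)) := by
  rw [show (Finset.univ : Finset F9) = {unidx 0, unidx 1, unidx 2, unidx 3, unidx 4, unidx 5,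
    unidx 6, unidx 7, unidx 8} by decide]
  iterate 8 rw [Finset.sum_insert (by decide)]
  rw [Finset.sum_singleton]
  abel

theorem Setup.phi_xor9 {ω : F} (h : Setup ω) {f : ℕ → ℕ} (hf : ∀ k, f k < 4) :
    phi ω (xor9 f) = ∑ z, phi ω (f (idx z)) := by
  have h2 := fun {a b : ℕ} (ha : a < 4) (hb : b < 4) => h.phi_xor a ha b hb
  have g : ∀ {a b : ℕ}, a < 4 → b < 4 → a ^^^ b < 4 := fun ha hb => xor_lt_four ha hb
  rw [xor9, h2 (g (g (g (hf 0) (hf 1)) (hf 2)) (g (g (hf 3) (hf 4)) (hf 5))) (g (g (hf 6) (hf 7)) (hf 8)),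
    h2 (g (g (hf 0) (hf 1)) (hf 2)) (g (g (hf 3) (hf 4)) (hf 5)),
    h2 (g (hf 0) (hf 1)) (hf 2), h2 (hf 0) (hf 1), h2 (g (hf 3) (hf 4)) (hf 5), h2 (hf 3) (hf 4),
    h2 (g (hf 6) (hf 7)) (hf 8), h2 (hf 6) (hf 7), sum_f9]
  simp only [idx_unidx _ (by norm_num : 0 < 9), idx_unidx _ (by norm_num : 1 < 9),
    idx_unidx _ (by norm_num : 2 < 9), idx_unidx _ (by norm_num : 3 < 9),
    idx_unidx _ (by norm_num : 4 < 9), idx_unidx _ (by norm_num : 5 < 9),
    idx_unidx _ (by norm_num : 6 < 9), idx_unidx _ (by norm_num : 7 < 9),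
    idx_unidx _ (by norm_num : 8 < 9)]

/-- The vector with a given code. -/
def vec (ω : F) (v : ℕ) : F9 → F := fun z => phi ω (dig (idx z) v)

/-- The matrix with a given code. -/
def toMat (ω : F) (M : List ℕ) : Matrix F9 F9 F :=
  Matrix.of fun w z => phi ω (ent2 M (idx w) (idx z))

theorem ent2_mc (f : F9 → F9 → ℕ) (w z : F9) : ent2 (mc f) (idx w) (idx z) = f w z := by
  have h1 := idx_lt w
  have h2 := idx_lt z
  rw [ent2, mc, List.getD_eq_getElem _ _ (by simp; omega)]
  simp only [List.getElem_map, List.getElem_range]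
  rw [show (9 * idx w + idx z) / 9 = idx w by omega, show (9 * idx w + idx z) % 9 = idx z by omega,
    unidx_idx, unidx_idx]

/-- A code all of whose entries are below four. -/
def Small (M : List ℕ) : Bool := M.all fun x => Nat.blt x 4

theorem ent2_lt {M : List ℕ} (hM : Small M = true) (i k : ℕ) : ent2 M i k < 4 := by
  unfold ent2
  rcases lt_or_ge (9 * i + k) M.length with h | h
  · rw [List.getD_eq_getElem _ _ h]
    simpa [Nat.blt_eq] using List.all_eq_true.1 hM _ (List.getElem_mem h)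
  · rw [List.getD_eq_default _ _ h]; norm_num

theorem ent2_mm {M N : List ℕ} (w z : F9) :
    ent2 (mm M N) (idx w) (idx z) = xor9 fun k => mul4 (ent2 M (idx w) k) (ent2 N k (idx z)) := by
  have h1 := idx_lt w
  have h2 := idx_lt z
  rw [ent2, mm, List.getD_eq_getElem _ _ (by simp; omega)]
  simp only [List.getElem_map, List.getElem_range]
  rw [show (9 * idx w + idx z) / 9 = idx w by omega, show (9 * idx w + idx z) % 9 = idx z by omega]

theorem small_mm {M N : List ℕ} (hM : Small M = true) (hN : Small N = true) :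
    Small (mm M N) = true := by
  simp only [Small, mm, List.all_eq_true, List.mem_map]
  rintro _ ⟨n, -, rfl⟩
  rw [Nat.blt_eq]
  exact xor9_lt fun k => mul4_lt _ (ent2_lt hM _ _) _ (ent2_lt hN _ _)

theorem Setup.toMat_mm {ω : F} (h : Setup ω) {M N : List ℕ} (hM : Small M = true) (hN : Small N = true) :
    toMat ω (mm M N) = toMat ω M * toMat ω N := by
  ext w z
  rw [Matrix.mul_apply]
  simp only [toMat, Matrix.of_apply, ent2_mm]
  rw [h.phi_xor9 fun k => mul4_lt _ (ent2_lt hM _ _) _ (ent2_lt hN _ _)]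
  exact Finset.sum_congr rfl fun t _ => h.phi_mul _ (ent2_lt hM _ _) _ (ent2_lt hN _ _)

theorem toMat_cId (ω : F) : toMat ω cId = 1 := by
  ext w z
  simp only [toMat, Matrix.of_apply, cId, ent2_mc, Matrix.one_apply]
  split_ifs <;> rfl

theorem Setup.mulVec_toMat {ω : F} (h : Setup ω) {M : List ℕ} (hM : Small M = true) (v : ℕ) (w : F9) :
    (toMat ω M *ᵥ vec ω v) w = phi ω (mvDig M v (idx w)) := by
  show ∑ z, toMat ω M w z * vec ω v z = _
  rw [mvDig, h.phi_xor9 fun k => mul4_lt _ (ent2_lt hM _ _) _ (dig_lt _ _)]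
  exact Finset.sum_congr rfl fun t _ => (h.phi_mul _ (ent2_lt hM _ _) _ (dig_lt _ _)).symm

theorem Setup.vec_xor {ω : F} (h : Setup ω) (a b : ℕ) : vec ω (a ^^^ b) = vec ω a + vec ω b := by
  funext z
  simp only [vec, dig_xor, Pi.add_apply]
  exact h.phi_xor _ (dig_lt _ _) _ (dig_lt _ _)

theorem xor_split (v : ℕ) : (v % 512) ^^^ (512 * (v / 512)) = v := by
  refine Nat.eq_of_testBit_eq fun i => ?_
  have e1 : v % 512 = v % 2 ^ 9 := rfl
  have e2 : 512 * (v / 512) = 2 ^ 9 * (v / 2 ^ 9) := rfl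
  rw [e1, e2, Nat.testBit_xor, Nat.testBit_mod_two_pow, Nat.testBit_two_pow_mul, Nat.testBit_div_two_pow]
  by_cases hi : i < 9
  · simp [hi, not_le.2 hi]
  · simp [hi, not_lt.1 hi]

/-- The tables of a linear map agree with the code of its matrix. -/
def TabOk (M : List ℕ) (t : Tr × Tr) : Bool :=
  (List.range 512).all fun n => (List.range 9).all fun i =>
    Nat.beq (dig i (t.1.get n)) (mvDig M n i) && Nat.beq (dig i (t.2.get n)) (mvDig M (512 * n) i)

theorem Setup.vec_ap {ω : F} (h : Setup ω) {M : List ℕ} (hM : Small M = true) {t : Tr × Tr}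
    (ht : TabOk M t = true) {v : ℕ} (hv : v < 262144) : vec ω (ap t v) = toMat ω M *ᵥ vec ω v := by
  simp only [TabOk, List.all_eq_true, List.mem_range, Bool.and_eq_true, Nat.beq_eq] at ht
  have hlo : vec ω (t.1.get (v % 512)) = toMat ω M *ᵥ vec ω (v % 512) := by
    funext z
    rw [h.mulVec_toMat hM, vec, (ht _ (Nat.mod_lt _ (by norm_num)) _ (idx_lt z)).1]
  have hhi : vec ω (t.2.get (v / 512)) = toMat ω M *ᵥ vec ω (512 * (v / 512)) := by
    funext z
    rw [h.mulVec_toMat hM, vec, (ht _ (by omega) _ (idx_lt z)).2]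
  show vec ω (t.1.get (v % 512) ^^^ t.2.get (v / 512)) = _
  rw [h.vec_xor, hlo, hhi, ← Matrix.mulVec_add, ← h.vec_xor, xor_split]

theorem ap_lt {t : Tr × Tr}
    (hl : (List.range 512).all (fun n => Nat.blt (t.1.get n) 262144 && Nat.blt (t.2.get n) 262144) = true)
    {v : ℕ} (hv : v < 262144) : ap t v < 262144 := by
  simp only [List.all_eq_true, List.mem_range, Bool.and_eq_true, Nat.blt_eq] at hl
  exact Nat.xor_lt_two_pow (n := 18) (hl _ (Nat.mod_lt _ (by norm_num))).1 (hl _ (by omega)).2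

end Cfsg.Agent.Lib.JankoThree
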