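import Cfsg.Agent.Lib.JankoThree.CentWords
import Cfsg.Agent.Lib.JankoThree.CentData

/-! # The involution centralizer of `J₃`: finite checks -/

set_option autoImplicit false
set_option maxRecDepth 100000

namespace Cfsg.Agent.Lib.JankoThree

/-- Word of a generator of the normal subgroup. -/
def rGen (a : ℕ) : List ℕ := rGenW.getD a []
/-- Word of a generator of the complement. -/
def hGen (a : ℕ) : List ℕ := hGenW.getD a []
/-- Word of an element of the normal subgroup. -/
def rWord (i : ℕ) : List ℕ := (rWords.getD i []).flatMap rGen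
/-- Word of an element of the complement. -/
def hcWord (i : ℕ) : List ℕ := (hcWords.getD i []).flatMap hGen
/-- The index of the involution. -/
def zIdx : ℕ := 11
/-- Product of indices. -/
def rMul (i j : ℕ) : ℕ := mulI rTab rWords i j
/-- Product of indices. -/
def hMul (i j : ℕ) : ℕ := mulI hTab hcWords i j

/-- Cancellation among indices. -/
def canChk (n : ℕ) (m : ℕ → ℕ → ℕ) : Bool :=
  (List.range n).all fun i => (List.range n).any fun i' => Nat.beq (m i' i) 0 &&
    (List.range n).all fun j => Nat.beq (m i' j) 0 == Nat.beq j i

/-- `u` conjugates the involution to `w`. -/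
def witOk (w u : List ℕ) : Bool := okW u && eq3 (w ++ u) (u ++ zWord)

theorem tabIdx_r : tabIdx 4 32 rTab rWords = true := by decide +kernel
theorem tabIdx_h : tabIdx 2 60 hTab hcWords = true := by decide +kernel

theorem words_ok : ((List.range 4).all fun a => okW (rGen a)) = true ∧
    ((List.range 2).all fun a => okW (hGen a)) = true ∧
    ((List.range 32).all fun i => okW (rWord i)) = true ∧
    ((List.range 60).all fun i => okW (hcWord i)) = true ∧ okW zWord = true := by decide +kernel

theorem step_r : ((List.range 4).all fun a => (List.range 32).all fun j =>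
    eq3 (rGen a ++ rWord j) (rWord (tbl rTab a j))) = true := by decide +kernel
theorem step_h : ((List.range 2).all fun a => (List.range 60).all fun j =>
    eq3 (hGen a ++ hcWord j) (hcWord (tbl hTab a j))) = true := by decide +kernel

theorem ne_r : ((List.range 32).all fun j => Nat.beq j 0 || !eq3 (rWord j) []) = true := by decide +kernel
theorem ne_h : ((List.range 60).all fun j => Nat.beq j 0 || !eq3 (hcWord j) []) = true := by decide +kernel

theorem can_r : canChk 32 rMul = true := by decide +kernel
theorem can_h : canChk 60 hMul = true := by decide +kernel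

theorem nrm_chk : ((List.range 2).all fun b => (List.range 4).all fun a =>
    Nat.blt (tbl nrmTab b a) 32 && eq3 (hGen b ++ rGen a) (rWord (tbl nrmTab b a) ++ hGen b)) = true := by
  decide +kernel

theorem z_chk : eq3 zWord (rWord zIdx) = true ∧ eq3 zWord [] = false ∧
    ((List.range 4).all fun a => eq3 (zWord ++ rGen a) (rGen a ++ zWord)) = true ∧
    ((List.range 2).all fun a => eq3 (zWord ++ hGen a) (hGen a ++ zWord)) = true ∧
    ((List.range 9).all fun k => Nat.beq (ev zWord (ev zWord (4 ^ k))) (4 ^ k)) = true := by decide +kernel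

theorem r_center : ((List.range 32).all fun i => Nat.beq i 0 || Nat.beq i zIdx ||
    (List.range 32).any fun j => !Nat.beq (rMul i j) (rMul j i)) = true := by decide +kernel
theorem r_comm : ((List.range 32).all fun i => (List.range 32).all fun j =>
    Nat.beq (rMul i j) (rMul j i) || Nat.beq (rMul i j) (rMul zIdx (rMul j i))) = true := by decide +kernel
theorem r_sq : ((List.range 32).all fun i => Nat.beq (rMul i i) 0 || Nat.beq (rMul i i) zIdx) = true := by
  decide +kernel
theorem r_noncomm : Nat.beq (rMul (tbl rTab 0 0) (tbl rTab 2 0)) (rMul (tbl rTab 2 0) (tbl rTab 0 0)) = false ∨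
    Nat.beq (rMul (tbl rTab 0 0) (tbl rTab 1 0)) (rMul (tbl rTab 1 0) (tbl rTab 0 0)) = false := by decide +kernel
theorem r_rank : ((List.range 32).all fun i => !Nat.beq (rMul i i) 0 || (List.range 32).all fun j =>
    !Nat.beq (rMul j j) 0 || !Nat.beq (rMul i j) (rMul j i) || Nat.beq i 0 || Nat.beq j 0 || Nat.beq i j ||
      (List.range 32).all fun k => !Nat.beq (rMul k k) 0 || !Nat.beq (rMul i k) (rMul k i) ||
        !Nat.beq (rMul j k) (rMul k j) || Nat.beq k 0 || Nat.beq k i || Nat.beq k j || Nat.beq k (rMul i j)) = true := by
  decide +kernel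

theorem r_wit : ((List.range 32).all fun i => Nat.beq i 0 || !Nat.beq (rMul i i) 0 ||
    witOk (rWord i) (rWit.getD i [])) = true := by decide +kernel
theorem t_wit : ((List.range 32).all fun i =>
    !eq3 ((rWord i ++ hGen 0) ++ (rWord i ++ hGen 0)) [] || witOk (rWord i ++ hGen 0) (tWit.getD i [])) = true ∧
    eq3 (hGen 0 ++ hGen 0) [] = true ∧ Nat.beq (tbl hTab 0 0) 1 = true := by decide +kernel
theorem inside_chk : ((List.range 32).any fun i => !Nat.beq i 0 && !Nat.beq i zIdx && Nat.beq (rMul i i) 0) = true := by
  decide +kernel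
theorem moves_chk : ((List.range 2).any fun b => (List.range 4).any fun a =>
    !Nat.beq (tbl nrmTab b a) (tbl rTab a 0) && !Nat.beq (tbl nrmTab b a) (rMul zIdx (tbl rTab a 0))) = true := by
  decide +kernel

/-- Candidates for vectors fixed by the involution, indexed by their first five coordinates. -/
def cand (i : ℕ) : ℕ :=
  (List.range 10).foldr (fun b x => bif Nat.beq (i / 2 ^ b % 2) 1 then x ^^^ fixBasis.getD b 0 else x) 0

theorem fix_low : ((List.range 256).all fun d => Nat.beq d 0 || !Nat.beq (ev zWord (1024 * d)) (1024 * d)) = true := by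
  decide +kernel
theorem fix_cand : ((List.range 1024).all fun i => Nat.blt (cand i) 262144 && Nat.beq (cand i % 1024) i &&
    Nat.beq (ev zWord (cand i)) (cand i)) = true := by decide +kernel
theorem fix_count : ((List.range 1024).countP fun i => isN (cand i) && par9 (cand i) && inOrb (cand i)) = 136 := by
  decide +kernel

/-- Normalised columns of a word, packed. -/
def colKey (c : ℕ) (l : List ℕ) : ℕ :=
  (List.range 9).foldl (fun x k => x * 262144 + scalC (bif Nat.beq c 2 then 3 else bif Nat.beq c 3 then 2 else 1) (ev l (4 ^ k))) 0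

theorem y_ok : (yData.all fun p => okW p.1 && okW p.2.1 && (Nat.beq p.2.2 1 || Nat.beq p.2.2 2 || Nat.beq p.2.2 3) &&
    Nat.beq (ev p.1 1) (scalC p.2.2 1) && witOk p.1 p.2.1) = true := by decide +kernel
theorem y_keys : yData.map (fun p => colKey p.2.2 p.1) = yKeys := by decide +kernel
theorem y_nodup : yKeys.Nodup := by decide +kernel
theorem y_length : yData.length = 153 := by decide +kernel

end Cfsg.Agent.Lib.JankoThree
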