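import Mathlib

/-! # Subgroups given by a list of their elements, with tables for left multiplication by generators -/

set_option autoImplicit false

namespace Cfsg.Agent.Lib.JankoThree

/-- The list of images of generators: `tbl t a j` is the index of `g a * T j`. -/
def tbl (t : List (List ℕ)) (a j : ℕ) : ℕ := (t.getD a []).getD j 0

/-- Index of the product. -/
def mulI (t gw : List (List ℕ)) (i j : ℕ) : ℕ := (gw.getD i []).foldr (tbl t) j

/-- Index checks: words in fewer than `k` letters, first word empty, images below `n`. -/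
def tabIdx (k n : ℕ) (t gw : List (List ℕ)) : Bool :=
  Nat.blt 0 n && (gw.getD 0 []).isEmpty &&
    (List.range n).all (fun j => (gw.getD j []).all (Nat.blt · k) &&
      (List.range k).all fun a => Nat.blt (tbl t a j) n) &&
    (List.range n).all (fun j => Nat.beq ((gw.getD j []).foldr (tbl t) 0) j)

/-- Element with a given index. -/
def elT {J : Type*} [Monoid J] (g : ℕ → J) (gw : List (List ℕ)) (j : ℕ) : J :=
  ((gw.getD j []).map g).prod

variable {J : Type*} [Group J] {g : ℕ → J} {k n : ℕ} {t gw : List (List ℕ)}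

/-- The table hypothesis. -/
structure IsTab (g : ℕ → J) (k n : ℕ) (t gw : List (List ℕ)) : Prop where
  idx : tabIdx k n t gw = true
  step : ∀ a < k, ∀ j < n, g a * elT g gw j = elT g gw (tbl t a j)

namespace IsTab

variable (h : IsTab g k n t gw)
include h

theorem idx' : 0 < n ∧ gw.getD 0 [] = [] ∧
    (∀ j < n, (∀ a ∈ gw.getD j [], a < k) ∧ ∀ a < k, tbl t a j < n) ∧
    ∀ j < n, (gw.getD j []).foldr (tbl t) 0 = j := by
  have := h.idx
  simp only [tabIdx, Bool.and_eq_true, Nat.blt_eq, List.isEmpty_iff, List.all_eq_true, List.mem_range,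
    Nat.beq_eq] at this
  exact ⟨this.1.1.1, this.1.1.2, fun j hj => this.1.2 j hj, this.2⟩

theorem el_zero : elT g gw 0 = 1 := by rw [elT, h.idx'.2.1]; rfl

theorem fold (l : List ℕ) (hl : ∀ a ∈ l, a < k) {j : ℕ} (hj : j < n) :
    l.foldr (tbl t) j < n ∧ elT g gw (l.foldr (tbl t) j) = (l.map g).prod * elT g gw j := by
  induction l with
  | nil => exact ⟨hj, (one_mul _).symm⟩
  | cons a l ih =>
    obtain ⟨h1, h2⟩ := ih fun b hb => hl b (List.mem_cons_of_mem _ hb)
    have ha := hl a List.mem_cons_self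
    refine ⟨(h.idx'.2.2.1 _ h1).2 a ha, ?_⟩
    rw [List.foldr_cons, ← h.step a ha _ h1, h2, List.map_cons, List.prod_cons, mul_assoc]

theorem mul {i j : ℕ} (hi : i < n) (hj : j < n) :
    mulI t gw i j < n ∧ elT g gw (mulI t gw i j) = elT g gw i * elT g gw j :=
  h.fold _ (h.idx'.2.2.1 i hi).1 hj

variable [Finite J]

theorem mem_closure_iff {x : J} :
    x ∈ Subgroup.closure {y | ∃ a < k, g a = y} ↔ ∃ j < n, elT g gw j = x := by
  constructor
  · intro hx
    rw [← Subgroup.mem_toSubmonoid, Subgroup.closure_toSubmonoid_of_finite] at hx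
    induction hx using Submonoid.closure_induction_left with
    | one => exact ⟨0, h.idx'.1, h.el_zero⟩
    | mul_left s hs y _ ih =>
      obtain ⟨a, ha, rfl⟩ := hs
      obtain ⟨j, hj, rfl⟩ := ih
      exact ⟨tbl t a j, (h.idx'.2.2.1 j hj).2 a ha, (h.step a ha j hj).symm⟩
  · rintro ⟨j, hj, rfl⟩
    refine Subgroup.list_prod_mem _ fun y hy => ?_
    obtain ⟨a, ha, rfl⟩ := List.mem_map.1 hy
    exact Subgroup.subset_closure ⟨a, (h.idx'.2.2.1 j hj).1 a ha, rfl⟩

omit [Finite J] in
/-- Distinctness follows from `T j ≠ 1` and left cancellation among the indices. -/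
theorem inj (hne : ∀ j < n, j ≠ 0 → elT g gw j ≠ 1)
    (hcan : ((List.range n).all fun i => (List.range n).any fun i' => Nat.beq (mulI t gw i' i) 0 &&
      (List.range n).all fun j => Nat.beq (mulI t gw i' j) 0 == Nat.beq j i) = true)
    {i j : ℕ} (hi : i < n) (hj : j < n) (e : elT g gw i = elT g gw j) : i = j := by
  simp only [List.all_eq_true, List.any_eq_true, List.mem_range, Bool.and_eq_true, Nat.beq_eq,
    beq_iff_eq] at hcan
  obtain ⟨i', hi', h1, h2⟩ := hcan i hi
  obtain ⟨hl, h3⟩ := h.mul hi' hj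
  rw [← e, ← (h.mul hi' hi).2, h1, h.el_zero] at h3
  have hz : mulI t gw i' j = 0 := by
    by_contra hne'
    exact hne _ hl hne' h3
  have h4 := h2 j hj
  rw [hz] at h4
  exact (Nat.eq_of_beq_eq_true h4.symm).symm

theorem card_closure (hinj : ∀ i < n, ∀ j < n, elT g gw i = elT g gw j → i = j) :
    Nat.card (Subgroup.closure {y | ∃ a < k, g a = y}) = n := by
  have : Function.Bijective fun j : Fin n =>
      (⟨elT g gw j, h.mem_closure_iff.2 ⟨j, j.2, rfl⟩⟩ : Subgroup.closure {y | ∃ a < k, g a = y}) :=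
    ⟨fun i j e => Fin.ext (hinj i i.2 j j.2 (congrArg Subtype.val e)), fun x => by
      obtain ⟨j, hj, e⟩ := h.mem_closure_iff.1 x.2
      exact ⟨⟨j, hj⟩, Subtype.ext e⟩⟩
  rw [← Nat.card_eq_of_bijective _ this, Nat.card_fin]

end IsTab

/-- Two tables with the same left multiplication give isomorphic groups. -/
theorem IsTab.exists_iso {K : Type*} [Group K] [Finite J] [Finite K] {f : ℕ → K} (h : IsTab g k n t gw)
    (h' : IsTab f k n t gw) (hinj : ∀ i < n, ∀ j < n, elT g gw i = elT g gw j → i = j)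
    (hinj' : ∀ i < n, ∀ j < n, elT f gw i = elT f gw j → i = j) (hsurj : Nat.card K = n) :
    ∃ e : Subgroup.closure {y | ∃ a < k, g a = y} ≃* K, ∀ j < n, ∀ (hm : elT g gw j ∈ Subgroup.closure
      {y | ∃ a < k, g a = y}), e ⟨_, hm⟩ = elT f gw j := by
  classical
  have hex : ∀ x : Subgroup.closure {y | ∃ a < k, g a = y}, ∃ j < n, elT g gw j = (x : J) := fun x =>
    h.mem_closure_iff.1 x.2
  choose ix hix hex using hex
  have hval : ∀ j < n, ∀ hm, ix ⟨elT g gw j, hm⟩ = j := fun j hj hm =>
    hinj _ (hix _) _ hj (hex _)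
  let φ : Subgroup.closure {y | ∃ a < k, g a = y} →* K := MonoidHom.mk' (fun x => elT f gw (ix x))
    fun x y => by
      obtain ⟨h1, h2⟩ := h.mul (hix x) (hix y)
      have : ix (x * y) = mulI t gw (ix x) (ix y) :=
        hinj _ (hix _) _ h1 (by rw [hex, h2, hex, hex]; rfl)
      rw [this, (h'.mul (hix x) (hix y)).2]
  have hφi : Function.Injective φ := fun x y e => Subtype.ext (by
    rw [← hex x, ← hex y, hinj' _ (hix x) _ (hix y) e])
  have hb : Function.Bijective φ :=
    (Nat.bijective_iff_injective_and_card φ).2 ⟨hφi, by rw [h.card_closure hinj, hsurj]⟩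
  refine ⟨MulEquiv.ofBijective φ hb, fun j hj hm => ?_⟩
  show elT f gw (ix _) = _
  rw [hval j hj hm]

end Cfsg.Agent.Lib.JankoThree
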