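import Cfsg.Agent.Lib.JankoThree.Orbit
import Cfsg.Agent.Lib.JankoThree.CentTools

/-! # Words in the generators, evaluated on coded vectors, and equality in `J₃` -/

set_option autoImplicit false
set_option maxRecDepth 100000

namespace Cfsg.Agent.Lib.JankoThree

open Cfsg.Spor Matrix

/-- Action of a word on a code. -/
def ev (l : List ℕ) (v : ℕ) : ℕ := l.foldr (fun i v => ap (tab i) v) v

/-- Columns agree up to the scalar with code `c`. -/
def eqC (l l' : List ℕ) (c : ℕ) : Bool :=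
  (List.range 9).all fun k => Nat.beq (ev l (4 ^ k)) (scalC c (ev l' (4 ^ k)))

/-- Equality up to scalars. -/
def eq3 (l l' : List ℕ) : Bool := eqC l l' 1 || eqC l l' 2 || eqC l l' 3

/-- All letters are generators. -/
def okW (l : List ℕ) : Bool := l.all (Nat.blt · 4)

theorem okW_iff {l : List ℕ} : okW l = true ↔ ∀ i ∈ l, i < 4 := by
  simp [okW, List.all_eq_true, Nat.blt_eq]

variable {F : Type*} [Field F] [Fintype F] {ω : F}

theorem Setup.vec_scalC (h : Setup ω) {c : ℕ} (hc : c = 1 ∨ c = 2 ∨ c = 3) {v : ℕ} (hv : v < 4 ^ 9) :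
    scalC c v < 4 ^ 9 ∧ vec ω (scalC c v) = phi ω c • vec ω v := by
  have key : ∀ i, i < 6 → ∀ d, gLit i = cScal d →
      ap (tab i) v < 4 ^ 9 ∧ vec ω (ap (tab i) v) = phi ω d • vec ω v := by
    intro i hi d e
    refine ⟨ap_lt (tab_small i hi) hv, ?_⟩
    rw [h.vec_ap (small_gLit i hi) (tabOk i hi) hv, e,
      show toMat ω (cScal d) = phi ω d • (1 : Matrix F9 F9 F) by
        ext w z
        simp only [toMat, Matrix.of_apply, cScal, ent2_mc, Matrix.smul_apply, Matrix.one_apply]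
        split_ifs <;> simp [phi], Matrix.smul_mulVec, Matrix.one_mulVec]
  rcases hc with rfl | rfl | rfl
  · exact ⟨hv, (one_smul F _).symm⟩
  · exact key 4 (by norm_num) 2 gLit_scal.1
  · exact key 5 (by norm_num) 3 gLit_scal.2

/-- A generator, as an element of the group. -/
noncomputable def Setup.el (h : Setup ω) (i : ℕ) : threeJ3 F ω :=
  ⟨(h.exists_gen (i % 4) (Nat.mod_lt _ (by norm_num))).choose,
    (h.exists_gen (i % 4) (Nat.mod_lt _ (by norm_num))).choose_spec.1⟩

/-- The value of a word. -/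
noncomputable def Setup.mW (h : Setup ω) (l : List ℕ) : threeJ3 F ω := (l.map h.el).prod

/-- The value of a word in `J₃`. -/
noncomputable def Setup.jW (h : Setup ω) (l : List ℕ) : J3 F ω := QuotientGroup.mk (h.mW l)

/-- The matrix of an element. -/
noncomputable def matOf (g : threeJ3 F ω) : Matrix F9 F9 F := ((g : GL F9 F) : Matrix F9 F9 F)

omit [Fintype F] in
theorem matOf_mul (a b : threeJ3 F ω) : matOf (a * b) = matOf a * matOf b := by
  simp [matOf]

omit [Fintype F] in
theorem matOf_one : matOf (1 : threeJ3 F ω) = 1 := by simp [matOf]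

omit [Fintype F] in
theorem matOf_inj {a b : threeJ3 F ω} (e : matOf a = matOf b) : a = b :=
  Subtype.ext (Units.ext e)

theorem Setup.mat_el (h : Setup ω) {i : ℕ} (hi : i < 4) : matOf (h.el i) = toMat ω (gLit i) := by
  have := (h.exists_gen (i % 4) (Nat.mod_lt _ (by norm_num))).choose_spec.2
  rw [matOf, Setup.el]
  convert this using 2
  rw [Nat.mod_eq_of_lt hi]

theorem Setup.mW_append (h : Setup ω) (l l' : List ℕ) : h.mW (l ++ l') = h.mW l * h.mW l' := by
  simp [Setup.mW]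

theorem Setup.jW_append (h : Setup ω) (l l' : List ℕ) : h.jW (l ++ l') = h.jW l * h.jW l' := by
  rw [Setup.jW, h.mW_append]; rfl

theorem Setup.jW_nil (h : Setup ω) : h.jW [] = 1 := rfl

theorem Setup.jW_flatMap (h : Setup ω) (f : ℕ → List ℕ) (l : List ℕ) :
    h.jW (l.flatMap f) = (l.map fun a => h.jW (f a)).prod := by
  induction l with
  | nil => rfl
  | cons a l ih => rw [List.flatMap_cons, h.jW_append, ih, List.map_cons, List.prod_cons]

theorem Setup.ev_spec (h : Setup ω) {l : List ℕ} (hl : ∀ i ∈ l, i < 4) {v : ℕ} (hv : v < 4 ^ 9) :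
    ev l v < 4 ^ 9 ∧ vec ω (ev l v) = matOf (h.mW l) *ᵥ vec ω v := by
  induction l with
  | nil => exact ⟨hv, by show vec ω v = matOf (1 : threeJ3 F ω) *ᵥ _; rw [matOf_one, Matrix.one_mulVec]⟩
  | cons i l ih =>
    obtain ⟨h1, h2⟩ := ih fun j hj => hl j (List.mem_cons_of_mem _ hj)
    have hi := hl i List.mem_cons_self
    refine ⟨ap_lt (tab_small i (by omega)) h1, ?_⟩
    show vec ω (ap (tab i) (ev l v)) = _
    rw [h.vec_ap (small_gLit i (by omega)) (tabOk i (by omega)) h1, h2, ← h.mat_el hi,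
      Matrix.mulVec_mulVec, ← matOf_mul]
    rfl

theorem pow_lt_nine {k : ℕ} (hk : k < 9) : 4 ^ k < 4 ^ 9 := Nat.pow_lt_pow_right (by norm_num) hk

theorem vec_pow_four (ω : F) : ∀ k < 9, vec ω (4 ^ k) = Pi.single (unidx k) (1 : F) := by
  intro k hk
  have hd : ∀ k < 9, ∀ z : F9, dig (idx z) (4 ^ k) = if z = unidx k then 1 else 0 := by decide
  funext z
  rw [vec, hd k hk, Pi.single_apply]
  split_ifs <;> rfl

omit [Fintype F] in
theorem mat_ext_cols {A B : Matrix F9 F9 F}
    (e : ∀ k < 9, A *ᵥ Pi.single (unidx k) (1 : F) = B *ᵥ Pi.single (unidx k) (1 : F)) : A = B := by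
  ext w z
  have := congrFun (e (idx z) (idx_lt z)) w
  simpa [unidx_idx, Matrix.mulVec_single] using this

/-- A central element is a scalar matrix. -/
theorem Setup.scalar_of_central (h : Setup ω) {g : threeJ3 F ω}
    (hg : g ∈ Subgroup.center (threeJ3 F ω)) :
    ∃ a : F, a ≠ 0 ∧ matOf g = a • (1 : Matrix F9 F9 F) := by
  classical
  have hcomm : ∀ M ∈ j3Gens F ω, matOf g * M = M * matOf g := by
    intro M hM
    obtain ⟨l, hl, rfl⟩ := h.mem_gens hM
    clear hM
    induction l with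
    | nil => show _ * toMat ω cId = toMat ω cId * _; rw [toMat_cId, mul_one, one_mul]
    | cons i l ih =>
      have hl' : ∀ j ∈ l, j < 4 := fun j hj => hl j (List.mem_cons_of_mem _ hj)
      have hi := hl i List.mem_cons_self
      show _ * toMat ω (mm (gLit i) (wordLit l)) = toMat ω (mm (gLit i) (wordLit l)) * _
      rw [h.toMat_mm (small_gLit i (by omega)) (small_wordLit hl'), ← h.mat_el hi, ← mul_assoc,
        ← matOf_mul, ← Subgroup.mem_center_iff.1 hg (h.el i), matOf_mul, mul_assoc, ih hl', mul_assoc]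
  have hdiag : ∀ w z, w ≠ z → matOf g w z = 0 := by
    intro w z hwz
    have hsep : ∀ w z : F9, w ≠ z → ∃ Z : F9, Z.1 * z.1 + Z.2 * z.2 ≠ Z.1 * w.1 + Z.2 * w.2 := by
      decide
    obtain ⟨Z, hZ⟩ := hsep w z hwz
    have e := congrFun (congrFun (hcomm _ (Or.inl (Or.inl (Or.inl (Or.inl ⟨Z, rfl⟩))))) w) z
    simp only [j3A, Matrix.mul_diagonal, Matrix.diagonal_mul] at e
    have hne : omegaPow F ω (Z.1 * z.1 + Z.2 * z.2) ≠ omegaPow F ω (Z.1 * w.1 + Z.2 * w.2) := by
      have hinj : ∀ m n : ZMod 3, omegaPow F ω m = omegaPow F ω n → m = n := by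
        intro m n e
        rw [← phi_wPow, ← phi_wPow] at e
        have hlt : ∀ m : ZMod 3, wPow m < 4 := by decide
        have := h.phi_inj _ (hlt m) _ (hlt n) e
        apply ZMod.val_injective
        simpa [wPow] using this
      exact fun e => hZ (hinj _ _ e)
    rw [mul_comm] at e
    by_contra h0
    exact hne (mul_right_cancel₀ h0 e)
  have hd : ∀ Z, matOf g Z Z = matOf g 0 0 := by
    intro Z
    have e := congrFun (congrFun (hcomm _ (Or.inl (Or.inl (Or.inr ⟨Z, rfl⟩)))) Z) 0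
    rw [Matrix.mul_apply, Matrix.mul_apply, Finset.sum_eq_single Z (fun b _ hb => by simp [hdiag Z b hb.symm])
      (by simp), Finset.sum_eq_single 0 (fun b _ hb => by simp [hdiag b 0 hb]) (by simp)] at e
    simpa [j3D, j3Lam] using e
  refine ⟨matOf g 0 0, fun h0 => ?_, ?_⟩
  · have hz : matOf g *ᵥ Pi.single (0 : F9) (1 : F) = 0 := by
      funext w
      rcases eq_or_ne w 0 with rfl | hw
      · simp [Matrix.mulVec_single, h0]
      · simp [Matrix.mulVec_single, hdiag w 0 hw]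
    have := congrArg (fun v => matOf g⁻¹ *ᵥ v) hz
    simp only [Matrix.mulVec_mulVec, ← matOf_mul, inv_mul_cancel, matOf_one, Matrix.one_mulVec,
      Matrix.mulVec_zero] at this
    simpa using congrFun this 0
  · ext w z
    rcases eq_or_ne w z with rfl | hwz
    · simp [hd w]
    · simp [hdiag w z hwz, hwz]

omit [Fintype F] in
theorem mk_eq_of_smul {g g' : threeJ3 F ω} {a : F} (e : matOf g = a • matOf g') :
    (QuotientGroup.mk g : J3 F ω) = QuotientGroup.mk g' := by
  have e1 : matOf (g * g'⁻¹) = a • (1 : Matrix F9 F9 F) := by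
    rw [matOf_mul, e, Matrix.smul_mul, ← matOf_mul, mul_inv_cancel, matOf_one]
  have hc : g * g'⁻¹ ∈ Subgroup.center (threeJ3 F ω) := Subgroup.mem_center_iff.2 fun y =>
    matOf_inj (by rw [matOf_mul y, matOf_mul (g * g'⁻¹) y, e1, Matrix.mul_smul, mul_one, Matrix.smul_mul, one_mul])
  have := (QuotientGroup.eq_one_iff (g * g'⁻¹)).2 hc
  rwa [QuotientGroup.mk_mul, QuotientGroup.mk_inv, mul_inv_eq_one] at this

theorem Setup.smul_of_mk_eq (h : Setup ω) {g g' : threeJ3 F ω}
    (e : (QuotientGroup.mk g : J3 F ω) = QuotientGroup.mk g') :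
    ∃ a : F, a ≠ 0 ∧ matOf g = a • matOf g' := by
  obtain ⟨a, ha, e1⟩ := h.scalar_of_central (g := g * g'⁻¹) ((QuotientGroup.eq_one_iff _).1 (by
    rw [QuotientGroup.mk_mul, QuotientGroup.mk_inv, e, mul_inv_cancel]))
  refine ⟨a, ha, ?_⟩
  calc matOf g = matOf (g * g'⁻¹ * g') := by rw [inv_mul_cancel_right]
    _ = a • matOf g' := by rw [matOf_mul, e1, Matrix.smul_mul, one_mul]

theorem Setup.jW_eq (h : Setup ω) {l l' : List ℕ} (hl : okW l = true) (hl' : okW l' = true)
    (e : eq3 l l' = true) : h.jW l = h.jW l' := by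
  obtain ⟨c, hc, e⟩ : ∃ c, (c = 1 ∨ c = 2 ∨ c = 3) ∧ eqC l l' c = true := by
    simp only [eq3, Bool.or_eq_true] at e
    rcases e with (e | e) | e
    exacts [⟨1, Or.inl rfl, e⟩, ⟨2, Or.inr (Or.inl rfl), e⟩, ⟨3, Or.inr (Or.inr rfl), e⟩]
  simp only [eqC, List.all_eq_true, List.mem_range, Nat.beq_eq] at e
  refine mk_eq_of_smul (a := phi ω c) (mat_ext_cols fun k hk => ?_)
  rw [← vec_pow_four ω k hk, ← (h.ev_spec (okW_iff.1 hl) (pow_lt_nine hk)).2, e k hk,
    (h.vec_scalC hc (h.ev_spec (okW_iff.1 hl') (pow_lt_nine hk)).1).2,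
    (h.ev_spec (okW_iff.1 hl') (pow_lt_nine hk)).2, Matrix.smul_mulVec]

theorem Setup.jW_ne (h : Setup ω) {l l' : List ℕ} (hl : okW l = true) (hl' : okW l' = true)
    (e : eq3 l l' = false) : h.jW l ≠ h.jW l' := by
  intro he
  obtain ⟨a, ha, hm⟩ := h.smul_of_mk_eq he
  obtain ⟨c, hc4, rfl⟩ := h.phi_surj a
  have hc : c = 1 ∨ c = 2 ∨ c = 3 := by
    rcases (show c = 0 ∨ c = 1 ∨ c = 2 ∨ c = 3 by omega) with rfl | h' | h' | h'
    · exact absurd rfl ha
    all_goals omega
  have hE : eqC l l' c = true := by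
    simp only [eqC, List.all_eq_true, List.mem_range, Nat.beq_eq]
    intro k hk
    have h1 := h.ev_spec (okW_iff.1 hl') (pow_lt_nine hk)
    refine h.vec_inj (h.ev_spec (okW_iff.1 hl) (pow_lt_nine hk)).1 (h.vec_scalC hc h1.1).1 ?_
    rw [(h.ev_spec (okW_iff.1 hl) (pow_lt_nine hk)).2, hm, (h.vec_scalC hc h1.1).2, h1.2, Matrix.smul_mulVec]
  simp only [eq3, Bool.or_eq_false_iff] at e
  rcases hc with rfl | rfl | rfl
  · rw [e.1.1] at hE; exact Bool.false_ne_true hE
  · rw [e.1.2] at hE; exact Bool.false_ne_true hE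
  · rw [e.2] at hE; exact Bool.false_ne_true hE

end Cfsg.Agent.Lib.JankoThree
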