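import Cfsg.Agent.Lib.JankoThree.ClassBound
import Cfsg.Agent.Lib.Fusion.ExtraCentralizer
import Cfsg.Agent.Lib.PGroupFrattini
import Cfsg.Prelude.Def_Transfer

/-! # The involution centralizer `2^{1+4}_-:A₅` of `J₃` -/

set_option autoImplicit false
set_option maxRecDepth 100000

namespace Cfsg.Agent.Lib.JankoThree

open Cfsg.Spor

/-- Images in `A₅` of the two generators of the complement. -/
def sPerm : ℕ → alternatingGroup (Fin 5)
  | 0 => ⟨Equiv.swap 0 1 * Equiv.swap 2 3, by rw [Equiv.Perm.mem_alternatingGroup]; decide +kernel⟩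
  | _ => ⟨Equiv.swap 1 2 * Equiv.swap 2 4, by rw [Equiv.Perm.mem_alternatingGroup]; decide +kernel⟩

theorem sPerm_step : ∀ a < 2, ∀ j < 60,
    sPerm a * elT sPerm hcWords j = elT sPerm hcWords (tbl hTab a j) := by decide +kernel

theorem sPerm_nodup : ((List.range 60).map (elT sPerm hcWords)).Nodup := by decide +kernel

theorem sPerm_inj : ∀ i < 60, ∀ j < 60, elT sPerm hcWords i = elT sPerm hcWords j → i = j := by
  intro i hi j hj e
  have h := sPerm_nodup.getElem_inj_iff (i := i) (hi := by simpa using hi) (j := j) (hj := by simpa using hj)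
  simp only [List.getElem_map, List.getElem_range] at h
  exact h.1 e

theorem conj_five : ∀ a b : alternatingGroup (Fin 5), a ^ 4 = 1 → b ^ 4 = 1 → a ≠ 1 → b ≠ 1 →
    ∃ c, c * a * c⁻¹ = b := by decide +kernel

variable {F : Type*} [Field F] [Fintype F] {ω : F}

/-- A generator of the normal subgroup. -/
noncomputable def Setup.gR (h : Setup ω) (a : ℕ) : J3 F ω := h.jW (rGen a)
/-- A generator of the complement. -/
noncomputable def Setup.gH (h : Setup ω) (a : ℕ) : J3 F ω := h.jW (hGen a)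
/-- The involution. -/
noncomputable def Setup.jz (h : Setup ω) : J3 F ω := h.jW zWord

theorem Setup.elT_R (h : Setup ω) (i : ℕ) : elT h.gR rWords i = h.jW (rWord i) := by
  rw [rWord, h.jW_flatMap]; rfl

theorem Setup.elT_H (h : Setup ω) (i : ℕ) : elT h.gH hcWords i = h.jW (hcWord i) := by
  rw [hcWord, h.jW_flatMap]; rfl

theorem okW_append {l l' : List ℕ} (h : okW l = true) (h' : okW l' = true) : okW (l ++ l') = true := by
  rw [okW, List.all_append, Bool.and_eq_true]; exact ⟨h, h'⟩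

theorem ok_words : (∀ a < 4, okW (rGen a) = true) ∧ (∀ a < 2, okW (hGen a) = true) ∧
    (∀ i < 32, okW (rWord i) = true) ∧ (∀ i < 60, okW (hcWord i) = true) ∧ okW zWord = true := by
  have := words_ok
  simp only [List.all_eq_true, List.mem_range] at this
  exact this

theorem Setup.tabR (h : Setup ω) : IsTab h.gR 4 32 rTab rWords where
  idx := tabIdx_r
  step a ha j hj := by
    have hs := step_r
    simp only [List.all_eq_true, List.mem_range] at hs
    obtain ⟨hg, -, hw, -, -⟩ := ok_words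
    have hi := tabIdx_r
    simp only [tabIdx, Bool.and_eq_true, List.all_eq_true, List.mem_range, Nat.blt_eq] at hi
    rw [h.elT_R, h.elT_R, Setup.gR, ← h.jW_append]
    exact h.jW_eq (okW_append (hg a ha) (hw j hj)) (hw _ ((hi.1.2 j hj).2 a ha)) (hs a ha j hj)

theorem Setup.tabH (h : Setup ω) : IsTab h.gH 2 60 hTab hcWords where
  idx := tabIdx_h
  step a ha j hj := by
    have hs := step_h
    simp only [List.all_eq_true, List.mem_range] at hs
    obtain ⟨-, hg, -, hw, -⟩ := ok_words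
    have hi := tabIdx_h
    simp only [tabIdx, Bool.and_eq_true, List.all_eq_true, List.mem_range, Nat.blt_eq] at hi
    rw [h.elT_H, h.elT_H, Setup.gH, ← h.jW_append]
    exact h.jW_eq (okW_append (hg a ha) (hw j hj)) (hw _ ((hi.1.2 j hj).2 a ha)) (hs a ha j hj)

theorem Setup.injR (h : Setup ω) {i j : ℕ} (hi : i < 32) (hj : j < 32)
    (e : h.jW (rWord i) = h.jW (rWord j)) : i = j := by
  refine h.tabR.inj (fun k hk hk0 => ?_) can_r hi hj (by rw [h.elT_R, h.elT_R, e])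
  have := ne_r
  simp only [List.all_eq_true, List.mem_range, Bool.or_eq_true, Nat.beq_eq, Bool.not_eq_true'] at this
  rw [h.elT_R, ← h.jW_nil]
  exact h.jW_ne (ok_words.2.2.1 k hk) rfl ((this k hk).resolve_left hk0)

theorem Setup.injH (h : Setup ω) {i j : ℕ} (hi : i < 60) (hj : j < 60)
    (e : elT h.gH hcWords i = elT h.gH hcWords j) : i = j := by
  refine h.tabH.inj (fun k hk hk0 => ?_) can_h hi hj e
  have := ne_h
  simp only [List.all_eq_true, List.mem_range, Bool.or_eq_true, Nat.beq_eq, Bool.not_eq_true'] at this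
  rw [h.elT_H, ← h.jW_nil]
  exact h.jW_ne (ok_words.2.2.2.1 k hk) rfl ((this k hk).resolve_left hk0)

theorem Setup.mulR (h : Setup ω) {i j : ℕ} (hi : i < 32) (hj : j < 32) :
    rMul i j < 32 ∧ h.jW (rWord (rMul i j)) = h.jW (rWord i) * h.jW (rWord j) := by
  rw [← h.elT_R, ← h.elT_R, ← h.elT_R]
  exact h.tabR.mul hi hj

theorem Setup.eq_iff_rMul (h : Setup ω) {i j k l : ℕ} (hi : i < 32) (hj : j < 32) (hk : k < 32) (hl : l < 32) :
    h.jW (rWord i) * h.jW (rWord j) = h.jW (rWord k) * h.jW (rWord l) ↔ rMul i j = rMul k l := by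
  rw [← (h.mulR hi hj).2, ← (h.mulR hk hl).2]
  exact ⟨h.injR (h.mulR hi hj).1 (h.mulR hk hl).1, fun e => by rw [e]⟩

theorem Setup.rWord_zero (h : Setup ω) : h.jW (rWord 0) = 1 := by
  rw [← h.elT_R]; exact h.tabR.el_zero

theorem Setup.rWord_z (h : Setup ω) : h.jW (rWord zIdx) = h.jz :=
  (h.jW_eq ok_words.2.2.2.2 (ok_words.2.2.1 zIdx (by decide)) z_chk.1).symm

theorem Setup.jz_ne_one (h : Setup ω) : h.jz ≠ 1 := by
  rw [← h.jW_nil]; exact h.jW_ne ok_words.2.2.2.2 rfl z_chk.2.1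

/-- The normal subgroup of order 32. -/
noncomputable def Setup.subR (h : Setup ω) : Subgroup (J3 F ω) :=
  Subgroup.closure {y | ∃ a < 4, h.gR a = y}

/-- The complement. -/
noncomputable def Setup.subH (h : Setup ω) : Subgroup (J3 F ω) :=
  Subgroup.closure {y | ∃ a < 2, h.gH a = y}

theorem Setup.mem_subR (h : Setup ω) {x : J3 F ω} : x ∈ h.subR ↔ ∃ i < 32, h.jW (rWord i) = x := by
  simp only [Setup.subR, h.tabR.mem_closure_iff, h.elT_R]

theorem Setup.card_subR (h : Setup ω) : Nat.card h.subR = 32 :=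
  h.tabR.card_closure fun i hi j hj e => h.injR hi hj (by rwa [← h.elT_R, ← h.elT_R])

theorem Setup.card_subH (h : Setup ω) : Nat.card h.subH = 60 :=
  h.tabH.card_closure fun i hi j hj e => h.injH hi hj e

theorem card_A5 : Nat.card (alternatingGroup (Fin 5)) = 60 := by
  rw [nat_card_alternatingGroup, Nat.card_fin]; rfl

theorem Setup.exists_isoH (h : Setup ω) :
    ∃ e : h.subH ≃* alternatingGroup (Fin 5), ∀ hm : h.gH 0 ∈ h.subH, e ⟨_, hm⟩ = sPerm 0 := by
  have hs : IsTab sPerm 2 60 hTab hcWords := ⟨tabIdx_h, sPerm_step⟩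
  obtain ⟨e, he⟩ := h.tabH.exists_iso hs (fun i hi j hj e => h.injH hi hj e) sPerm_inj card_A5
  refine ⟨e, fun hm => ?_⟩
  have h1 : tbl hTab 0 0 = 1 := Nat.eq_of_beq_eq_true t_wit.2.2
  have h2 : h.gH 0 = elT h.gH hcWords 1 := by
    have := h.tabH.step 0 (by norm_num) 0 (by norm_num)
    rwa [h.tabH.el_zero, mul_one, h1] at this
  have h3 : sPerm 0 = elT sPerm hcWords 1 := by
    have := hs.step 0 (by norm_num) 0 (by norm_num)
    rwa [hs.el_zero, mul_one, h1] at this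
  rw [h3]
  calc e ⟨_, hm⟩ = e ⟨elT h.gH hcWords 1, h2 ▸ hm⟩ := congrArg e (Subtype.ext h2)
    _ = _ := he 1 (by norm_num) _

theorem Setup.conj_subR (h : Setup ω) {c : J3 F ω} (hc : c ∈ h.subR ⊔ h.subH) {r : J3 F ω} (hr : r ∈ h.subR) :
    c * r * c⁻¹ ∈ h.subR := by
  have hle : h.subR ⊔ h.subH ≤ Subgroup.normalizer (h.subR : Set (J3 F ω)) := by
    refine sup_le Subgroup.le_normalizer ((Subgroup.closure_le _).2 ?_)
    rintro _ ⟨b, hb, rfl⟩
    have hmap : h.subR.map (MulAut.conj (h.gH b)).toMonoidHom = h.subR := by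
      refine Subgroup.eq_of_le_of_card_ge ?_ ?_
      · rw [Setup.subR, MonoidHom.map_closure, Subgroup.closure_le]
        rintro _ ⟨_, ⟨a, ha, rfl⟩, rfl⟩
        have hn := nrm_chk
        simp only [List.all_eq_true, List.mem_range, Bool.and_eq_true, Nat.blt_eq] at hn
        obtain ⟨hlt, heq⟩ := hn b hb a ha
        obtain ⟨hg, hg', hw, -, -⟩ := ok_words
        refine h.mem_subR.2 ⟨_, hlt, ?_⟩
        show _ = h.gH b * h.gR a * (h.gH b)⁻¹
        rw [eq_mul_inv_iff_mul_eq, Setup.gH, Setup.gR, ← h.jW_append, ← h.jW_append]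
        exact (h.jW_eq (okW_append (hg' b hb) (hg a ha)) (okW_append (hw _ hlt) (hg' b hb)) heq).symm
      · exact (Nat.card_congr (h.subR.equivMapOfInjective _ (MulAut.conj (h.gH b)).injective).toEquiv).le
    rw [SetLike.mem_coe, Subgroup.mem_normalizer_iff]
    intro x
    constructor
    · intro hx; exact hmap.le ⟨x, hx, rfl⟩
    · intro hx
      obtain ⟨y, hy, e⟩ := hmap.ge hx
      rwa [← (MulAut.conj (h.gH b)).injective e]
  exact (Subgroup.mem_normalizer_iff.1 (hle hc) r).1 hr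

theorem Setup.inf_eq_one (h : Setup ω) {x : J3 F ω} (hR : x ∈ h.subR) (hH : x ∈ h.subH) : x = 1 := by
  obtain ⟨e, -⟩ := h.exists_isoH
  haveI : IsSimpleGroup (alternatingGroup (Fin 5)) := alternatingGroup.isSimpleGroup_five
  haveI hn : (h.subR.subgroupOf h.subH).Normal := ⟨fun n hn g => by
    rw [Subgroup.mem_subgroupOf] at hn ⊢
    exact h.conj_subR (Subgroup.mem_sup_right g.2) hn⟩
  rcases IsSimpleGroup.eq_bot_or_eq_top_of_normal _ (hn.map e.toMonoidHom e.surjective) with h1 | h1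
  · have h2 : e ⟨x, hH⟩ = 1 := by
      rw [← Subgroup.mem_bot, ← h1]; exact ⟨⟨x, hH⟩, Subgroup.mem_subgroupOf.2 hR, rfl⟩
    rw [map_eq_one_iff e e.injective] at h2
    exact congrArg Subtype.val h2
  · exfalso
    have h2 : h.subH ≤ h.subR := fun y hy => by
      obtain ⟨z, hz, hzy⟩ := h1.ge (Subgroup.mem_top (e ⟨y, hy⟩))
      have := e.injective hzy
      subst this
      exact hz
    have h3 := Subgroup.card_dvd_of_le h2
    rw [h.card_subH, h.card_subR] at h3
    norm_num at h3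

theorem Setup.mem_sup (h : Setup ω) {c : J3 F ω} (hc : c ∈ h.subR ⊔ h.subH) :
    ∃ r ∈ h.subR, ∃ k ∈ h.subH, r * k = c := by
  rw [← Subgroup.mem_toSubmonoid, Subgroup.sup_eq_closure, Subgroup.closure_toSubmonoid_of_finite] at hc
  induction hc using Submonoid.closure_induction_left with
  | one => exact ⟨1, one_mem _, 1, one_mem _, one_mul 1⟩
  | mul_left s hs y _ ih =>
    obtain ⟨r, hr, k, hk, rfl⟩ := ih
    rcases hs with hs | hs
    · exact ⟨s * r, mul_mem hs hr, k, hk, mul_assoc _ _ _⟩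
    · exact ⟨s * r * s⁻¹, h.conj_subR (Subgroup.mem_sup_right hs) hr, s * k, mul_mem hs hk, by group⟩

theorem Setup.sup_eq_centralizer (h : Setup ω) (hJ : Nat.card (J3 F ω) = 50232960) :
    h.subR ⊔ h.subH = Subgroup.centralizer ({h.jz} : Set (J3 F ω)) ∧
      Nat.card (Subgroup.centralizer ({h.jz} : Set (J3 F ω))) = 1920 := by
  obtain ⟨hg, hg', hw, -, hz⟩ := ok_words
  obtain ⟨-, -, hz1, hz2, -⟩ := z_chk
  simp only [List.all_eq_true, List.mem_range] at hz1 hz2
  have hle : h.subR ⊔ h.subH ≤ Subgroup.centralizer ({h.jz} : Set (J3 F ω)) := by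
    refine sup_le ((Subgroup.closure_le _).2 ?_) ((Subgroup.closure_le _).2 ?_) <;>
      rintro _ ⟨a, ha, rfl⟩ <;> rw [SetLike.mem_coe, Subgroup.mem_centralizer_singleton_iff] <;>
      simp only [Setup.jz, Setup.gR, Setup.gH, ← h.jW_append]
    · exact (h.jW_eq (okW_append hz (hg a ha)) (okW_append (hg a ha) hz) (hz1 a ha)).symm
    · exact (h.jW_eq (okW_append hz (hg' a ha)) (okW_append (hg' a ha) hz) (hz2 a ha)).symm
  have hcard : Nat.card (h.subR ⊔ h.subH : Subgroup (J3 F ω)) = 1920 := by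
    have hb : Function.Bijective fun p : h.subR × h.subH =>
        (⟨p.1.1 * p.2.1, mul_mem (Subgroup.mem_sup_left p.1.2) (Subgroup.mem_sup_right p.2.2)⟩ :
          (h.subR ⊔ h.subH : Subgroup (J3 F ω))) := by
      constructor
      · rintro ⟨r, k⟩ ⟨r', k'⟩ e
        have e' : r.1 * k.1 = r'.1 * k'.1 := congrArg Subtype.val e
        have h1 : r'.1⁻¹ * r.1 = k'.1 * k.1⁻¹ := by
          rw [inv_mul_eq_iff_eq_mul, ← mul_assoc, ← e', mul_inv_cancel_right]
        have h2 := h.inf_eq_one (mul_mem (inv_mem r'.2) r.2) (h1 ▸ mul_mem k'.2 (inv_mem k.2))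
        rw [h2, eq_comm, mul_inv_eq_one] at h1
        rw [inv_mul_eq_one] at h2
        exact Prod.ext (Subtype.ext h2.symm) (Subtype.ext h1.symm)
      · rintro ⟨c, hc⟩
        obtain ⟨r, hr, k, hk, rfl⟩ := h.mem_sup hc
        exact ⟨(⟨r, hr⟩, ⟨k, hk⟩), rfl⟩
    rw [← Nat.card_eq_of_bijective _ hb, Nat.card_prod, h.card_subR, h.card_subH]
  have hub := h.card_centralizer_le hJ
  have heq := Subgroup.eq_of_le_of_card_ge hle (by rw [hcard]; exact hub)
  exact ⟨heq, heq ▸ hcard⟩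

/-- The centralizer maps onto `A₅` with the normal subgroup as kernel. -/
theorem Setup.exists_chi (h : Setup ω) (hJ : Nat.card (J3 F ω) = 50232960) :
    ∃ χ : Subgroup.centralizer ({h.jz} : Set (J3 F ω)) →* alternatingGroup (Fin 5),
      Function.Surjective χ ∧ (∀ x, χ x = 1 ↔ x.1 ∈ h.subR) ∧
      ∀ hm : h.gH 0 ∈ Subgroup.centralizer ({h.jz} : Set (J3 F ω)), χ ⟨_, hm⟩ = sPerm 0 := by
  obtain ⟨e, he⟩ := h.exists_isoH
  obtain ⟨hC, -⟩ := h.sup_eq_centralizer hJ
  have hdec : ∀ x : Subgroup.centralizer ({h.jz} : Set (J3 F ω)), ∃ k : h.subH, x.1 * k.1⁻¹ ∈ h.subR := by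
    intro x
    obtain ⟨r, hr, k, hk, hrk⟩ := h.mem_sup (hC.ge x.2)
    exact ⟨⟨k, hk⟩, by rw [← hrk, mul_inv_cancel_right]; exact hr⟩
  choose hp hhp using hdec
  have huniq : ∀ x (k : h.subH), x.1 * k.1⁻¹ ∈ h.subR → hp x = k := by
    intro x k hk
    refine Subtype.ext ?_
    have h1 : k.1 * (hp x).1⁻¹ ∈ h.subR := by
      have := mul_mem (inv_mem hk) (hhp x)
      simpa [mul_assoc] using this
    exact (mul_inv_eq_one.1 (h.inf_eq_one h1 (mul_mem k.2 (inv_mem (hp x).2)))).symm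
  refine ⟨MonoidHom.mk' (fun x => e (hp x)) fun x y => ?_, fun a => ?_, fun x => ?_, fun hm => ?_⟩
  · rw [← map_mul]
    refine congrArg e (huniq _ _ ?_)
    have h1 := mul_mem (hhp x) (h.conj_subR (Subgroup.mem_sup_right (hp x).2) (hhp y))
    simpa [mul_assoc] using h1
  · refine ⟨⟨(e.symm a).1, hC.le (Subgroup.mem_sup_right (e.symm a).2)⟩, ?_⟩
    show e (hp _) = a
    rw [huniq _ (e.symm a) (by simp), MulEquiv.apply_symm_apply]
  · show e (hp x) = 1 ↔ _
    rw [map_eq_one_iff e e.injective]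
    constructor
    · intro h1; simpa [h1] using hhp x
    · intro h1; exact huniq x 1 (by simpa using h1)
  · show e (hp _) = _
    have hg : h.gH 0 ∈ h.subH := Subgroup.subset_closure ⟨0, by norm_num, rfl⟩
    rw [huniq _ ⟨_, hg⟩ (by simp), he hg]

theorem Setup.center_R (h : Setup ω) {x : J3 F ω} (hx : x ∈ h.subR)
    (hc : ∀ y ∈ h.subR, x * y = y * x) : x = 1 ∨ x = h.jz := by
  obtain ⟨i, hi, rfl⟩ := h.mem_subR.1 hx
  have := r_center
  simp only [List.all_eq_true, List.mem_range, Bool.or_eq_true, List.any_eq_true, Nat.beq_eq,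
    Bool.not_eq_true'] at this
  rcases this i hi with (h1 | h1) | ⟨j, hj, h1⟩
  · exact Or.inl (by rw [h1, h.rWord_zero])
  · exact Or.inr (by rw [h1, h.rWord_z])
  · exfalso
    have h2 := (h.eq_iff_rMul hi hj hj hi).1 (hc _ (h.mem_subR.2 ⟨j, hj, rfl⟩))
    rw [h2] at h1
    simp at h1

theorem Setup.comm_R (h : Setup ω) {a b : J3 F ω} (ha : a ∈ h.subR) (hb : b ∈ h.subR) :
    a * b * a⁻¹ * b⁻¹ = 1 ∨ a * b * a⁻¹ * b⁻¹ = h.jz := by
  obtain ⟨i, hi, rfl⟩ := h.mem_subR.1 ha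
  obtain ⟨j, hj, rfl⟩ := h.mem_subR.1 hb
  have := r_comm
  simp only [List.all_eq_true, List.mem_range, Bool.or_eq_true, Nat.beq_eq] at this
  rcases this i hi j hj with h1 | h1
  · left
    rw [(h.eq_iff_rMul hi hj hj hi).2 h1]; group
  · right
    have hji := h.mulR hj hi
    have h2 : h.jW (rWord i) * h.jW (rWord j) = h.jz * (h.jW (rWord j) * h.jW (rWord i)) := by
      rw [← hji.2, ← h.rWord_z]
      exact (h.eq_iff_rMul hi hj (by decide) hji.1).2 h1
    rw [h2]; group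

theorem Setup.gH_mem (h : Setup ω) (hJ : Nat.card (J3 F ω) = 50232960) :
    h.gH 0 ∈ Subgroup.centralizer ({h.jz} : Set (J3 F ω)) :=
  (h.sup_eq_centralizer hJ).1.le (Subgroup.mem_sup_right (Subgroup.subset_closure ⟨0, by norm_num, rfl⟩))

theorem sPerm_zero : sPerm 0 ≠ 1 ∧ sPerm 0 ^ 4 = 1 := by decide +kernel

theorem Setup.gH_notMem (h : Setup ω) (hJ : Nat.card (J3 F ω) = 50232960) : h.gH 0 ∉ h.subR := by
  intro hR
  obtain ⟨χ, -, hker, hg⟩ := h.exists_chi hJ
  exact sPerm_zero.1 (by rw [← hg (h.gH_mem hJ)]; exact (hker _).2 hR)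

/-- An involution in the normal subgroup or in the outer coset of `gH 0` is conjugate to `jz`. -/
theorem Setup.wit (h : Setup ω) {w u : List ℕ} (hw : okW w = true) (e : witOk w u = true) :
    h.jW u * h.jz * (h.jW u)⁻¹ = h.jW w := by
  simp only [witOk, Bool.and_eq_true] at e
  rw [mul_inv_eq_iff_eq_mul, Setup.jz, ← h.jW_append, ← h.jW_append]
  exact (h.jW_eq (okW_append hw e.1) (okW_append e.1 ok_words.2.2.2.2) e.2).symm

theorem Setup.conj_of_R (h : Setup ω) {x : J3 F ω} (hx : x ∈ h.subR) (h2 : x * x = 1) (h1 : x ≠ 1) :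
    ∃ g, g * h.jz * g⁻¹ = x := by
  obtain ⟨i, hi, rfl⟩ := h.mem_subR.1 hx
  have := r_wit
  simp only [List.all_eq_true, List.mem_range, Bool.or_eq_true, Nat.beq_eq, Bool.not_eq_true'] at this
  rcases this i hi with (e | e) | e
  · exact absurd (by rw [e, h.rWord_zero]) h1
  · exfalso
    have h3 : rMul i i = 0 := h.injR (h.mulR hi hi).1 (by norm_num) (by rw [(h.mulR hi hi).2, h2, h.rWord_zero])
    rw [h3] at e
    simp at e
  · exact ⟨_, h.wit (ok_words.2.2.1 i hi) e⟩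

theorem Setup.conj_of_outer (h : Setup ω) {r : J3 F ω} (hr : r ∈ h.subR)
    (h2 : r * h.gH 0 * (r * h.gH 0) = 1) : ∃ g, g * h.jz * g⁻¹ = r * h.gH 0 := by
  obtain ⟨i, hi, rfl⟩ := h.mem_subR.1 hr
  obtain ⟨-, hg', hw, -, -⟩ := ok_words
  have hok := okW_append (hw i hi) (hg' 0 (by norm_num))
  rw [Setup.gH, ← h.jW_append] at h2 ⊢
  have := t_wit.1
  simp only [List.all_eq_true, List.mem_range, Bool.or_eq_true, Bool.not_eq_true'] at this
  rcases this i hi with e | e
  · exfalso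
    refine h.jW_ne (okW_append hok hok) rfl e ?_
    rw [h.jW_append, h.jW_nil, h2]
  · exact ⟨_, h.wit hok e⟩

theorem Setup.gH_sq (h : Setup ω) : h.gH 0 * h.gH 0 = 1 := by
  obtain ⟨-, hg', -, -, -⟩ := ok_words
  rw [Setup.gH, ← h.jW_append, ← h.jW_nil]
  exact h.jW_eq (okW_append (hg' 0 (by norm_num)) (hg' 0 (by norm_num))) rfl t_wit.2.1

theorem Setup.exists_data (h : Setup ω) (hJ : Nat.card (J3 F ω) = 50232960) :
    Fusion.ExtraCentralizer.Data (Subgroup.centralizer ({h.jz} : Set (J3 F ω))) h.subR h.jz := by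
  obtain ⟨hC, hcard⟩ := h.sup_eq_centralizer hJ
  obtain ⟨χ, hsurj, hker, hg⟩ := h.exists_chi hJ
  have hle : h.subR ≤ Subgroup.centralizer ({h.jz} : Set (J3 F ω)) := le_sup_left.trans hC.le
  refine ⟨hle, fun c hc r hr => h.conj_subR (hC.ge hc) hr, hcard, h.card_subR, ?_,
    fun x => Subgroup.mem_centralizer_singleton_iff, h.rWord_z ▸ h.mem_subR.2 ⟨zIdx, by decide, rfl⟩,
    h.jz_ne_one, fun x hx hc => h.center_R hx hc, fun a ha b hb => h.comm_R ha hb, ?_, ?_, ?_, ?_, ?_⟩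
  · have h1 := Subgroup.card_mul_index (Subgroup.centralizer ({h.jz} : Set (J3 F ω)))
    rw [hcard, hJ] at h1
    have : (Subgroup.centralizer ({h.jz} : Set (J3 F ω))).index = 26163 := by omega
    rw [this]; decide
  · intro N hRN hNC hN
    haveI : IsSimpleGroup (alternatingGroup (Fin 5)) := alternatingGroup.isSimpleGroup_five
    haveI hnor : ((N.subgroupOf (Subgroup.centralizer ({h.jz} : Set (J3 F ω)))).map χ).Normal :=
      Subgroup.Normal.map ⟨fun n hn c => by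
        rw [Subgroup.mem_subgroupOf] at hn ⊢
        exact hN c c.2 n hn⟩ χ hsurj
    rcases IsSimpleGroup.eq_bot_or_eq_top_of_normal _ hnor with e | e
    · left
      refine le_antisymm (fun n hn => ?_) hRN
      exact (hker ⟨n, hNC hn⟩).1 (by
        rw [← Subgroup.mem_bot, ← e]
        exact ⟨_, Subgroup.mem_subgroupOf.2 hn, rfl⟩)
    · right
      refine le_antisymm hNC fun c hc => ?_
      obtain ⟨n, hn, hnc⟩ := e.ge (Subgroup.mem_top (χ ⟨c, hc⟩))
      have h1 : (n : J3 F ω)⁻¹ * c ∈ h.subR := (hker (n⁻¹ * ⟨c, hc⟩)).1 (by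
        rw [map_mul, map_inv, hnc, inv_mul_cancel])
      have := mul_mem (Subgroup.mem_subgroupOf.1 hn) (hRN h1)
      simpa using this
  · intro s hs t ht hsR htR ⟨k, hk⟩ ⟨l, hl⟩
    have h4 : ∀ (x : J3 F ω) (hx : x ∈ Subgroup.centralizer ({h.jz} : Set (J3 F ω))) (k : ℕ),
        x ^ 2 ^ k = 1 → χ ⟨x, hx⟩ ^ 4 = 1 := by
      intro x hx k hk
      have e : (χ ⟨x, hx⟩) ^ 2 ^ k = 1 := by
        rw [← map_pow, ← map_one χ]
        exact congrArg χ (Subtype.ext hk)
      have h1 := orderOf_dvd_of_pow_eq_one e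
      obtain ⟨m, -, hm⟩ := (Nat.dvd_prime_pow Nat.prime_two).1 h1
      have h2 := orderOf_dvd_natCard (χ ⟨x, hx⟩)
      rw [card_A5] at h2
      apply orderOf_dvd_iff_pow_eq_one.1
      rw [hm] at h2 ⊢
      rcases Nat.lt_or_ge m 3 with hm3 | hm3
      · exact (Nat.pow_dvd_pow 2 (show m ≤ 2 by omega)).trans (by norm_num)
      · exact absurd ((Nat.pow_dvd_pow 2 hm3).trans h2) (by decide)
    obtain ⟨c, hc⟩ := conj_five _ _ (h4 t ht l hl) (h4 s hs k hk) (fun e => htR ((hker ⟨t, ht⟩).1 e))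
      (fun e => hsR ((hker ⟨s, hs⟩).1 e))
    obtain ⟨c, rfl⟩ := hsurj c
    refine ⟨c.1, c.2, (hker ((c * ⟨t, ht⟩ * c⁻¹)⁻¹ * ⟨s, hs⟩)).1 ?_⟩
    rw [map_mul, map_inv, map_mul, map_mul, map_inv, hc, inv_mul_cancel]
  · have := moves_chk
    simp only [List.any_eq_true, List.mem_range, Bool.and_eq_true, Bool.not_eq_true'] at this
    obtain ⟨b, hb, a, ha, e1, e2⟩ := this
    have hn := nrm_chk
    simp only [List.all_eq_true, List.mem_range, Bool.and_eq_true, Nat.blt_eq] at hn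
    obtain ⟨hlt, heq⟩ := hn b hb a ha
    obtain ⟨hg1, hg', hw, -, -⟩ := ok_words
    have hconj : h.gH b * h.gR a * (h.gH b)⁻¹ = h.jW (rWord (tbl nrmTab b a)) := by
      rw [mul_inv_eq_iff_eq_mul, Setup.gH, Setup.gR, ← h.jW_append, ← h.jW_append]
      exact h.jW_eq (okW_append (hg' b hb) (hg1 a ha)) (okW_append (hw _ hlt) (hg' b hb)) heq
    have hgidx : tbl rTab a 0 < 32 ∧ h.gR a = h.jW (rWord (tbl rTab a 0)) := by
      refine ⟨(h.tabR.idx'.2.2.1 0 (by norm_num)).2 a ha, ?_⟩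
      have := h.tabR.step a ha 0 (by norm_num)
      rwa [h.tabR.el_zero, mul_one, h.elT_R] at this
    refine ⟨h.gH b, hC.le (Subgroup.mem_sup_right (Subgroup.subset_closure ⟨b, hb, rfl⟩)), h.gR a,
      Subgroup.subset_closure ⟨a, ha, rfl⟩, ?_, ?_⟩ <;>
      rw [hconj, hgidx.2] <;> intro e <;> rw [mul_inv_eq_iff_eq_mul] at e
    · rw [one_mul] at e
      rw [h.injR hlt hgidx.1 e] at e1
      simp at e1
    · rw [← h.rWord_z, ← (h.mulR (by decide) hgidx.1).2] at e
      rw [h.injR hlt (h.mulR (by decide) hgidx.1).1 e] at e2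
      simp at e2
  · have := inside_chk
    simp only [List.any_eq_true, List.mem_range, Bool.and_eq_true, Bool.not_eq_true', Nat.beq_eq] at this
    obtain ⟨i, hi, ⟨e0, e1⟩, e2⟩ := this
    have hx : h.jW (rWord i) ∈ h.subR := h.mem_subR.2 ⟨i, hi, rfl⟩
    obtain ⟨g, hgz⟩ := h.conj_of_R hx (by rw [← (h.mulR hi hi).2, e2, h.rWord_zero]) (fun e => by
      rw [← h.rWord_zero] at e; rw [h.injR hi (by norm_num) e] at e0; simp at e0)
    refine ⟨g, hgz ▸ hx, fun e => ?_⟩
    rw [hgz, ← h.rWord_z] at e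
    rw [h.injR hi (by decide) e] at e1
    simp at e1
  · obtain ⟨g, hgz⟩ := h.conj_of_outer (r := 1) (one_mem _) (by rw [one_mul]; exact h.gH_sq)
    rw [one_mul] at hgz
    exact ⟨g, h.jz, h.rWord_z ▸ h.mem_subR.2 ⟨zIdx, by decide, rfl⟩, hgz ▸ h.gH_mem hJ, hgz ▸ h.gH_notMem hJ⟩

theorem Setup.jz_sq (h : Setup ω) : h.jz * h.jz = 1 := by
  rw [Setup.jz, Setup.jW, ← QuotientGroup.mk_mul,
    show h.mW zWord * h.mW zWord = 1 from matOf_inj (by rw [matOf_mul, h.z_square, matOf_one]),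
    QuotientGroup.mk_one]

/-- All involutions are conjugate. -/
theorem Setup.isConj_jz (h : Setup ω) (hJ : Nat.card (J3 F ω) = 50232960) {x : J3 F ω} (hx : orderOf x = 2) :
    IsConj h.jz x := by
  haveI : Fact (Nat.Prime 2) := ⟨Nat.prime_two⟩
  obtain ⟨hC, hcard⟩ := h.sup_eq_centralizer hJ
  set C := Subgroup.centralizer ({h.jz} : Set (J3 F ω)) with hCdef
  obtain ⟨P, hP⟩ := (IsPGroup.of_card (G := Subgroup.zpowers x) (p := 2) (n := 1)
    (by rw [Nat.card_zpowers, hx]; rfl)).exists_le_sylow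
  obtain ⟨T⟩ : Nonempty (Sylow 2 C) := inferInstance
  have hTcard : Nat.card ((T : Subgroup C).map C.subtype) = 2 ^ (Nat.card (J3 F ω)).factorization 2 := by
    rw [← Nat.card_congr ((T : Subgroup C).equivMapOfInjective _ C.subtype_injective).toEquiv,
      Sylow.card_eq_multiplicity, hcard, hJ]
    congr 1
    rw [show 1920 = 2 ^ 7 * 15 from rfl, show 50232960 = 2 ^ 7 * 392445 from rfl,
      Nat.factorization_mul (by norm_num) (by norm_num), Nat.factorization_mul (by norm_num) (by norm_num)]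
    simp [Nat.factorization_eq_zero_of_not_dvd (show ¬ (2 ∣ 15) by decide),
      Nat.factorization_eq_zero_of_not_dvd (show ¬ (2 ∣ 392445) by decide)]
  obtain ⟨g, hg⟩ := MulAction.exists_smul_eq (J3 F ω) P (Sylow.ofCard _ hTcard)
  have hyC : g * x * g⁻¹ ∈ C := by
    have h1 : g * x * g⁻¹ ∈ ((g • P : Sylow 2 (J3 F ω)) : Subgroup (J3 F ω)) := by
      rw [Sylow.coe_subgroup_smul]
      exact ⟨x, hP (Subgroup.mem_zpowers x), rfl⟩
    rw [hg, Sylow.coe_ofCard] at h1
    exact Subgroup.map_subtype_le _ h1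
  refine IsConj.trans ?_ (isConj_iff.2 ⟨g⁻¹, by group⟩ : IsConj (g * x * g⁻¹) x)
  have hy2 : g * x * g⁻¹ * (g * x * g⁻¹) = 1 := by
    have := pow_orderOf_eq_one x
    rw [hx, pow_two] at this
    calc g * x * g⁻¹ * (g * x * g⁻¹) = g * (x * x) * g⁻¹ := by group
      _ = 1 := by rw [this]; group
  have hy1 : g * x * g⁻¹ ≠ 1 := fun e => by
    rw [conj_eq_one_iff] at e; rw [e, orderOf_one] at hx; norm_num at hx
  generalize g * x * g⁻¹ = y at hyC hy2 hy1 ⊢
  obtain ⟨χ, hsurj, hker, hgH⟩ := h.exists_chi hJ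
  by_cases hyR : y ∈ h.subR
  · exact isConj_iff.2 (h.conj_of_R hyR hy2 hy1)
  have hy4 : χ ⟨y, hyC⟩ ^ 4 = 1 := by
    rw [← map_pow, ← map_one χ]
    refine congrArg χ (Subtype.ext ?_)
    show y ^ 4 = 1
    rw [show y ^ 4 = (y * y) * (y * y) by simp [pow_succ, mul_assoc], hy2, one_mul]
  obtain ⟨c, hc⟩ := conj_five _ _ hy4 sPerm_zero.2 (fun e => hyR ((hker ⟨y, hyC⟩).1 e)) sPerm_zero.1
  obtain ⟨c, rfl⟩ := hsurj c
  have hr : c.1 * y * c.1⁻¹ * (h.gH 0)⁻¹ ∈ h.subR :=
    (hker (c * ⟨y, hyC⟩ * c⁻¹ * ⟨_, h.gH_mem hJ⟩⁻¹)).1 (by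
      rw [map_mul, map_inv, map_mul, map_mul, map_inv, hc, hgH, mul_inv_cancel])
  obtain ⟨d, hd⟩ := h.conj_of_outer hr (by
    rw [inv_mul_cancel_right]
    calc c.1 * y * c.1⁻¹ * (c.1 * y * c.1⁻¹) = c.1 * (y * y) * c.1⁻¹ := by group
      _ = 1 := by rw [hy2]; group)
  rw [inv_mul_cancel_right] at hd
  exact (isConj_iff.2 ⟨d, hd⟩ : IsConj h.jz (c.1 * y * c.1⁻¹)).trans (isConj_iff.2 ⟨c.1⁻¹, by group⟩)

end Cfsg.Agent.Lib.JankoThree
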