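import Cfsg.Agent.Lib.JankoThree.CentChecks

/-! # The class of the involution has at least 26163 members -/

set_option autoImplicit false
set_option maxRecDepth 100000

namespace Cfsg.Agent.Lib.JankoThree

open Cfsg.Spor Matrix

variable {F : Type*} [Field F] [Fintype F] {ω : F}

omit [Fintype F] in
theorem matOf_inv_mulVec (g : threeJ3 F ω) (v : F9 → F) : matOf g⁻¹ *ᵥ (matOf g *ᵥ v) = v := by
  rw [Matrix.mulVec_mulVec, ← matOf_mul, inv_mul_cancel, matOf_one, Matrix.one_mulVec]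

theorem Setup.z_square (h : Setup ω) : matOf (h.mW zWord) * matOf (h.mW zWord) = 1 := by
  obtain ⟨-, -, -, -, hz⟩ := z_chk
  simp only [List.all_eq_true, List.mem_range, Nat.beq_eq] at hz
  have hl := okW_iff.1 words_ok.2.2.2.2
  refine mat_ext_cols fun k hk => ?_
  have h1 := h.ev_spec hl (pow_lt_nine hk)
  have h2 := h.ev_spec hl h1.1
  rw [hz k hk, vec_pow_four ω k hk, h1.2, vec_pow_four ω k hk, Matrix.mulVec_mulVec] at h2
  rw [← h2.2, Matrix.one_mulVec]

/-- Fixed normalised codes in the orbit. -/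
def fixSet : Finset ℕ :=
  (((List.range 1024).filter fun i => isN (cand i) && par9 (cand i) && inOrb (cand i)).map cand).toFinset

theorem card_fixSet : fixSet.card ≤ 136 := by
  refine (List.toFinset_card_le _).trans ?_
  rw [List.length_map, ← List.countP_eq_length_filter, fix_count]

theorem Setup.mem_fixSet (h : Setup ω) {m : ℕ} (hm : InS m) {d : F} (hd : d ≠ 0)
    (e : matOf (h.mW zWord) *ᵥ vec ω m = d • vec ω m) : m ∈ fixSet := by
  have hl := okW_iff.1 words_ok.2.2.2.2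
  have hv0 : vec ω m ≠ 0 := fun e0 => by
    obtain ⟨k, hk, w, hw, rfl⟩ := (isN_iff hm.1).1 hm.2.1
    have := congrFun e0 (unidx k)
    rw [Pi.zero_apply, h.dig_ne_iff, idx_unidx k hk, show 4 ^ k + w = w + 1 * 4 ^ k by ring,
      dig_top hw (by norm_num)] at this
    omega
  haveI := h.charTwo
  have hd1 : d = 1 := by
    have h1 : vec ω m = (d * d) • vec ω m := by
      calc vec ω m = matOf (h.mW zWord) *ᵥ (matOf (h.mW zWord) *ᵥ vec ω m) := by
            rw [Matrix.mulVec_mulVec, h.z_square, Matrix.one_mulVec]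
        _ = (d * d) • vec ω m := by rw [e, Matrix.mulVec_smul, e, smul_smul]
    obtain ⟨z, hz⟩ := Function.ne_iff.1 hv0
    have h2 := congrFun h1 z
    simp only [Pi.smul_apply, smul_eq_mul] at h2
    have h3 : d * d = 1 := mul_eq_right₀ hz |>.1 h2.symm
    have h4 : (d + 1) * (d + 1) = 0 := by
      rw [CharTwo.add_mul_self, h3, one_mul, h.add_self]
    exact CharTwo.add_eq_zero.1 (mul_self_eq_zero.1 h4)
  rw [hd1, one_smul] at e
  set i := m % 1024 with hi
  have hi' : i < 1024 := Nat.mod_lt _ (by norm_num)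
  have hc := fix_cand
  have hlow := fix_low
  simp only [List.all_eq_true, List.mem_range, Bool.and_eq_true, Nat.beq_eq, Nat.blt_eq, Bool.or_eq_true,
    Bool.not_eq_true'] at hc hlow
  obtain ⟨⟨hcl, hci⟩, hcf⟩ := hc i hi'
  have hm9 : m < 4 ^ 9 := hm.1
  set x := m ^^^ cand i with hx
  have hxl : x < 4 ^ 9 := Nat.xor_lt_two_pow (n := 18) hm9 hcl
  have hx0 : x % 1024 = 0 := by
    rw [hx, show 1024 = 2 ^ 10 from rfl, Nat.xor_mod_two_pow, show 2 ^ 10 = 1024 from rfl, hci, ← hi,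
      Nat.xor_self]
  have hxfix : ev zWord x = x := by
    refine h.vec_inj (h.ev_spec hl hxl).1 hxl ?_
    have h3 := (h.ev_spec hl (show cand i < 4 ^ 9 from hcl)).2
    rw [hcf] at h3
    rw [(h.ev_spec hl hxl).2, hx, h.vec_xor, Matrix.mulVec_add, e, ← h3]
  have hx1 : x = 1024 * (x / 1024) := by omega
  have hxz : x = 0 := by
    rcases hlow (x / 1024) (by omega) with h1 | h1
    · omega
    · rw [← hx1, hxfix] at h1
      simp at h1
  have hmc : m = cand i := by
    have h1 := congrArg (· ^^^ cand i) hxz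
    simpa [hx, Nat.xor_assoc, Nat.xor_self] using h1
  rw [hmc] at hm ⊢
  obtain ⟨-, hN, hp, hdp⟩ := hm
  rw [fixSet, List.mem_toFinset]
  exact List.mem_map_of_mem (List.mem_filter.2 ⟨List.mem_range.2 hi', by
    simp only [Bool.and_eq_true, inOrb, Nat.blt_eq]; exact ⟨⟨hN, hp⟩, hdp⟩⟩)

/-- The conjugates listed. -/
noncomputable def Setup.yElt (h : Setup ω) (j : Fin 153) : J3 F ω :=
  h.jW (yData.getD j ([], [], 1)).1

theorem Setup.y_spec (h : Setup ω) (j : Fin 153) :
    ∃ u : threeJ3 F ω, ∃ c : F, c ≠ 0 ∧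
      h.yElt j = QuotientGroup.mk u * h.jW zWord * (QuotientGroup.mk u)⁻¹ ∧
      matOf (h.mW (yData.getD j ([], [], 1)).1) *ᵥ vec ω 1 = c • vec ω 1 := by
  have hy := y_ok
  simp only [List.all_eq_true] at hy
  have hj : (j : ℕ) < yData.length := by rw [y_length]; exact j.2
  have hmem : yData.getD j ([], [], 1) ∈ yData := by
    rw [List.getD_eq_getElem _ _ hj]; exact List.getElem_mem _
  have := hy _ hmem
  rw [Setup.yElt]
  generalize yData.getD j ([], [], 1) = p at this ⊢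
  simp only [witOk, Bool.and_eq_true, Bool.or_eq_true, Nat.beq_eq] at this
  obtain ⟨⟨⟨⟨hw, hu⟩, hc⟩, hcol⟩, -, heq⟩ := this
  have hc' : p.2.2 = 1 ∨ p.2.2 = 2 ∨ p.2.2 = 3 := by tauto
  refine ⟨h.mW p.2.1, phi ω p.2.2, ?_, ?_, ?_⟩
  · rcases hc' with e | e | e <;> rw [e]
    · exact one_ne_zero
    · exact h.omega_ne
    · exact pow_ne_zero 2 h.omega_ne
  · rw [eq_mul_inv_iff_mul_eq]
    show h.jW p.1 * h.jW p.2.1 = h.jW p.2.1 * h.jW zWord
    rw [← h.jW_append, ← h.jW_append]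
    refine h.jW_eq ?_ ?_ heq <;> rw [okW_iff] <;> intro i hi <;> rcases List.mem_append.1 hi with hi | hi
    exacts [okW_iff.1 hw i hi, okW_iff.1 hu i hi, okW_iff.1 hu i hi, okW_iff.1 words_ok.2.2.2.2 i hi]
  · rw [← (h.ev_spec (okW_iff.1 hw) (by norm_num)).2, hcol, (h.vec_scalC hc' (by norm_num)).2]

theorem Setup.yElt_injective (h : Setup ω) : Function.Injective h.yElt := by
  intro i j e
  have hy := y_ok
  simp only [List.all_eq_true] at hy
  have hlen : ∀ k : Fin 153, (k : ℕ) < yData.length := fun k => by rw [y_length]; exact k.2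
  have hget : ∀ k : Fin 153, yData.getD k ([], [], 1) = yData[(k : ℕ)]'(hlen k) := fun k =>
    List.getD_eq_getElem _ _ (hlen k)
  have key : colKey (yData[(i : ℕ)]'(hlen i)).2.2 (yData[(i : ℕ)]'(hlen i)).1 =
      colKey (yData[(j : ℕ)]'(hlen j)).2.2 (yData[(j : ℕ)]'(hlen j)).1 := by
    have hp := hy _ (List.getElem_mem (hlen i))
    have hq := hy _ (List.getElem_mem (hlen j))
    simp only [Setup.yElt, hget] at e
    generalize yData[(i : ℕ)]'(hlen i) = p at hp e ⊢
    generalize yData[(j : ℕ)]'(hlen j) = q at hq e ⊢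
    simp only [Bool.and_eq_true, Bool.or_eq_true, Nat.beq_eq] at hp hq
    obtain ⟨⟨⟨⟨hpw, -⟩, hpc⟩, hpcol⟩, -⟩ := hp
    obtain ⟨⟨⟨⟨hqw, -⟩, hqc⟩, hqcol⟩, -⟩ := hq
    have hpc' : p.2.2 = 1 ∨ p.2.2 = 2 ∨ p.2.2 = 3 := by tauto
    have hqc' : q.2.2 = 1 ∨ q.2.2 = 2 ∨ q.2.2 = 3 := by tauto
    obtain ⟨a, ha, hm⟩ := h.smul_of_mk_eq e
    have hp1 := (h.ev_spec (okW_iff.1 hpw) (show 1 < 4 ^ 9 by norm_num)).2
    have hq1 := (h.ev_spec (okW_iff.1 hqw) (show 1 < 4 ^ 9 by norm_num)).2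
    rw [hpcol, (h.vec_scalC hpc' (by norm_num)).2, hm, Matrix.smul_mulVec] at hp1
    rw [hqcol, (h.vec_scalC hqc' (by norm_num)).2] at hq1
    rw [← hq1, smul_smul] at hp1
    have hac : phi ω p.2.2 = a * phi ω q.2.2 := by
      have := congrFun hp1 0
      simpa [vec_one] using this
    let ci : ℕ → ℕ := fun c => bif Nat.beq c 2 then 3 else bif Nat.beq c 3 then 2 else 1
    have hinv : ∀ c, c = 1 ∨ c = 2 ∨ c = 3 →
        (ci c = 1 ∨ ci c = 2 ∨ ci c = 3) ∧ phi ω (ci c) * phi ω c = 1 := by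
      have h3 := h.omega_cube
      rintro c (rfl | rfl | rfl)
      · exact ⟨Or.inl rfl, one_mul _⟩
      · exact ⟨Or.inr (Or.inr rfl), by show ω ^ 2 * ω = 1; rw [← pow_succ]; exact h3⟩
      · exact ⟨Or.inr (Or.inl rfl), by show ω * ω ^ 2 = 1; rw [← pow_succ']; exact h3⟩
    have hkk : phi ω (ci p.2.2) * a = phi ω (ci q.2.2) := by
      calc phi ω (ci p.2.2) * a = phi ω (ci p.2.2) * a * (phi ω (ci q.2.2) * phi ω q.2.2) := by
            rw [(hinv _ hqc').2, mul_one]
        _ = phi ω (ci q.2.2) * (phi ω (ci p.2.2) * (a * phi ω q.2.2)) := by ring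
        _ = phi ω (ci q.2.2) := by rw [← hac, (hinv _ hpc').2, mul_one]
    have hcol : ∀ k < 9, scalC (ci p.2.2) (ev p.1 (4 ^ k)) = scalC (ci q.2.2) (ev q.1 (4 ^ k)) := by
      intro k hk
      have h1 := h.ev_spec (okW_iff.1 hpw) (pow_lt_nine hk)
      have h2 := h.ev_spec (okW_iff.1 hqw) (pow_lt_nine hk)
      refine h.vec_inj (h.vec_scalC (hinv _ hpc').1 h1.1).1 (h.vec_scalC (hinv _ hqc').1 h2.1).1 ?_
      rw [(h.vec_scalC (hinv _ hpc').1 h1.1).2, (h.vec_scalC (hinv _ hqc').1 h2.1).2, h1.2, h2.2, hm,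
        Matrix.smul_mulVec, smul_smul, hkk]
    unfold colKey
    simp only [ci] at hcol
    simp only [List.range_succ, List.range_zero, List.foldl_append, List.foldl_cons, List.foldl_nil,
      hcol 0 (by norm_num), hcol 1 (by norm_num), hcol 2 (by norm_num), hcol 3 (by norm_num),
      hcol 4 (by norm_num), hcol 5 (by norm_num), hcol 6 (by norm_num), hcol 7 (by norm_num),
      hcol 8 (by norm_num)]
  have hk : (yData.map fun p => colKey p.2.2 p.1).Nodup := by rw [y_keys]; exact y_nodup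
  have := hk.getElem_inj_iff (i := (i : ℕ)) (hi := by simpa using hlen i) (j := (j : ℕ))
    (hj := by simpa using hlen j)
  simp only [List.getElem_map] at this
  exact Fin.ext (this.1 key)

theorem Setup.card_class_ge (h : Setup ω) :
    26163 ≤ (MulAction.orbit (ConjAct (J3 F ω)) (h.jW zWord)).ncard := by
  classical
  haveI : Fintype (J3 F ω) := Fintype.ofFinite _
  set K := (MulAction.orbit (ConjAct (J3 F ω)) (h.jW zWord)).toFinset with hK
  rw [Set.ncard_eq_toFinset_card', ← hK]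
  have hKmem : ∀ x, x ∈ K ↔ ∃ g : J3 F ω, g * h.jW zWord * g⁻¹ = x := by
    intro x
    rw [hK, Set.mem_toFinset, MulAction.mem_orbit_iff]
    exact ⟨fun ⟨g, e⟩ => ⟨ConjAct.ofConjAct g, by rw [← e, ConjAct.smul_def]⟩,
      fun ⟨g, e⟩ => ⟨ConjAct.toConjAct g, by rw [← e, ConjAct.smul_def, ConjAct.ofConjAct_toConjAct]⟩⟩
  have hmov : ∀ n : ℕ, ∃ g : threeJ3 F ω, InS n → ∃ a : F, a ≠ 0 ∧ vec ω n = a • (matOf g *ᵥ vec ω 1) := by
    intro n
    by_cases hn : InS n
    · obtain ⟨g, hg, a, ha, e⟩ := h.exists_mover n hn.1 hn.2.1 hn.2.2.1 hn.2.2.2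
      exact ⟨⟨g, hg⟩, fun _ => ⟨a, ha, e⟩⟩
    · exact ⟨1, fun h' => absurd h' hn⟩
  choose mv hmv using hmov
  choose yu yc hyc0 hyu hyfix using h.y_spec
  let r : ℕ → J3 F ω → Prop := fun n x =>
    ∃ j, (QuotientGroup.mk (mv n) : J3 F ω) * h.yElt j * (QuotientGroup.mk (mv n))⁻¹ = x
  have hP : orbCodes.toFinset.card = 23256 := by
    rw [List.toFinset_card_of_nodup nodup_orbCodes, length_orbCodes]
  have habove : ∀ n ∈ orbCodes.toFinset, 153 ≤ (K.bipartiteAbove r n).card := by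
    intro n _
    have hinj : Function.Injective fun j =>
        (QuotientGroup.mk (mv n) : J3 F ω) * h.yElt j * (QuotientGroup.mk (mv n))⁻¹ := fun i j e =>
      h.yElt_injective (mul_left_cancel (mul_right_cancel e))
    refine le_trans (le_of_eq (by simp))
      (Finset.card_le_card (s := Finset.univ.map ⟨_, hinj⟩) fun x hx => ?_)
    simp only [Finset.mem_map, Finset.mem_univ, true_and, Function.Embedding.coeFn_mk] at hx
    obtain ⟨j, rfl⟩ := hx
    refine (Finset.mem_bipartiteAbove r).2 ⟨(hKmem _).2 ⟨QuotientGroup.mk (mv n) * QuotientGroup.mk (yu j), ?_⟩,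
      j, rfl⟩
    rw [hyu j]; group
  have hbelow : ∀ x ∈ K, (orbCodes.toFinset.bipartiteBelow r x).card ≤ 136 := by
    intro x hx
    obtain ⟨g0, hg0⟩ := (hKmem x).1 hx
    obtain ⟨u, rfl⟩ := QuotientGroup.mk_surjective g0
    let f : ℕ → ℕ := fun n =>
      if hex : ∃ m ∈ fixSet, ∃ a : F, a ≠ 0 ∧ matOf u⁻¹ *ᵥ vec ω n = a • vec ω m then hex.choose else 0
    have hf : ∀ n ∈ orbCodes.toFinset.bipartiteBelow r x,
        ∃ m ∈ fixSet, ∃ a : F, a ≠ 0 ∧ matOf u⁻¹ *ᵥ vec ω n = a • vec ω m := by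
      intro n hn
      obtain ⟨hn, j, hj⟩ := (Finset.mem_bipartiteBelow r).1 hn
      rw [List.mem_toFinset, mem_orbCodes] at hn
      obtain ⟨a, ha, hva⟩ := hmv n hn
      obtain ⟨m, hm, a', ha', hma⟩ := h.stable (g := ((u⁻¹ : threeJ3 F ω) : GL F9 F)) (u⁻¹).2 hn
      have hma' : matOf u⁻¹ *ᵥ vec ω n = a' • vec ω m := hma
      refine ⟨m, ?_, a', ha', hma'⟩
      have hJ : (QuotientGroup.mk (mv n * h.mW (yData.getD j ([], [], 1)).1 * (mv n)⁻¹) : J3 F ω) =
          QuotientGroup.mk (u * h.mW zWord * u⁻¹) := by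
        rw [← hg0] at hj
        simpa [Setup.yElt, Setup.jW, QuotientGroup.mk_mul, QuotientGroup.mk_inv] using hj
      obtain ⟨b, hb, hM⟩ := h.smul_of_mk_eq hJ
      have h1 : matOf (mv n * h.mW (yData.getD j ([], [], 1)).1 * (mv n)⁻¹) *ᵥ vec ω n = yc j • vec ω n := by
        rw [hva, matOf_mul, matOf_mul, Matrix.mulVec_smul, ← Matrix.mulVec_mulVec, ← Matrix.mulVec_mulVec,
          matOf_inv_mulVec, hyfix j, Matrix.mulVec_smul, smul_comm]
      rw [hM, Matrix.smul_mulVec, matOf_mul, matOf_mul, ← Matrix.mulVec_mulVec, ← Matrix.mulVec_mulVec,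
        hma', Matrix.mulVec_smul, Matrix.mulVec_smul, smul_smul] at h1
      have h2 := congrArg (fun v => matOf u⁻¹ *ᵥ v) h1
      simp only [Matrix.mulVec_smul, matOf_inv_mulVec, hma', smul_smul] at h2
      refine h.mem_fixSet hm (d := (b * a')⁻¹ * (yc j * a'))
        (mul_ne_zero (inv_ne_zero (mul_ne_zero hb ha')) (mul_ne_zero (hyc0 j) ha')) ?_
      rw [← smul_smul, ← h2, smul_smul, inv_mul_cancel₀ (mul_ne_zero hb ha'), one_smul]
    refine le_trans (Finset.card_le_card_of_injOn f (fun n hn => ?_) ?_) card_fixSet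
    · simp only [f, dif_pos (hf n hn)]
      exact (hf n hn).choose_spec.1
    · intro n hn n' hn' e
      simp only [f, dif_pos (hf n hn), dif_pos (hf n' hn')] at e
      obtain ⟨a, ha, e1⟩ := (hf n hn).choose_spec.2
      obtain ⟨a', ha', e2⟩ := (hf n' hn').choose_spec.2
      revert e e1 e2
      generalize (hf n hn).choose = m₁
      generalize (hf n' hn').choose = m₂
      intro e e1 e2
      subst e
      have e3 : matOf u⁻¹ *ᵥ vec ω n' = matOf u⁻¹ *ᵥ ((a' / a) • vec ω n) := by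
        rw [Matrix.mulVec_smul, e1, e2, smul_smul, div_mul_cancel₀ _ ha]
      have e4 := congrArg (fun v => matOf u *ᵥ v) e3
      simp only [Matrix.mulVec_mulVec, ← matOf_mul, mul_inv_cancel, matOf_one, Matrix.one_mulVec] at e4
      have hn1 := ((Finset.mem_bipartiteBelow r).1 hn).1
      have hn2 := ((Finset.mem_bipartiteBelow r).1 hn').1
      rw [List.mem_toFinset, mem_orbCodes] at hn1 hn2
      exact (h.eq_of_smul hn1.1 hn2.1 hn1.2.1 hn2.2.1 (div_ne_zero ha' ha) e4).symm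
  have := Finset.card_mul_le_card_mul r habove hbelow
  omega

theorem Setup.card_centralizer_le (h : Setup ω) (hJ : Nat.card (J3 F ω) = 50232960) :
    Nat.card (Subgroup.centralizer ({h.jW zWord} : Set (J3 F ω))) ≤ 1920 := by
  have h1 := Nat.card_congr (MulAction.orbitEquivQuotientStabilizer (ConjAct (J3 F ω)) (h.jW zWord))
  have h2 := Subgroup.card_eq_card_quotient_mul_card_subgroup (MulAction.stabilizer (ConjAct (J3 F ω)) (h.jW zWord))
  rw [← h1, Nat.card_coe_set_eq] at h2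
  have h3 : Nat.card (MulAction.stabilizer (ConjAct (J3 F ω)) (h.jW zWord)) =
      Nat.card (Subgroup.centralizer ({h.jW zWord} : Set (J3 F ω))) := by
    rw [ConjAct.stabilizer_eq_centralizer]
    exact Nat.card_congr (Equiv.subtypeEquiv ConjAct.ofConjAct.toEquiv fun x => Iff.rfl)
  have h4 : Nat.card (ConjAct (J3 F ω)) = 50232960 := by
    rw [← hJ]; exact Nat.card_congr ConjAct.ofConjAct.toEquiv
  rw [h3, h4] at h2
  have h5 := h.card_class_ge
  nlinarith

end Cfsg.Agent.Lib.JankoThree
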