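import Cfsg.Prelude.Def_Spor_J3

/-! # Coded vectors and matrices over the field with four elements, for the triple cover of J₃

A vector is a number below `4 ^ 9`, two bits per coordinate; `0, 1, 2, 3` code `0, 1, ω, ω²`. -/

set_option autoImplicit false

namespace Cfsg.Agent.Lib.JankoThree

open Cfsg.Spor

/-- Binary tree of numbers, indexed from the lowest bit. -/
inductive Tr where
  | leaf (n : ℕ)
  | node (l r : Tr)

def Tr.get : Tr → ℕ → ℕ
  | .leaf n, _ => n
  | .node l r, i => bif Nat.beq (i % 2) 0 then l.get (i / 2) else r.get (i / 2)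

/-- A coordinate. -/
def dig (i v : ℕ) : ℕ := v / 4 ^ i % 4

/-- Application of a linear map given by its two tables. -/
def ap (t : Tr × Tr) (v : ℕ) : ℕ := Nat.xor (t.1.get (v % 512)) (t.2.get (v / 512))

def mul4 : ℕ → ℕ → ℕ
  | 1, b => b
  | 2, 1 => 2
  | 2, 2 => 3
  | 2, 3 => 1
  | 3, 1 => 3
  | 3, 2 => 1
  | 3, 3 => 2
  | _, _ => 0

def idx (z : F9) : ℕ := 3 * z.1.val + z.2.val

def unidx (n : ℕ) : F9 := (((n / 3 : ℕ) : ZMod 3), ((n % 3 : ℕ) : ZMod 3))

/-- Exclusive or of nine values. -/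
def xor9 (f : ℕ → ℕ) : ℕ :=
  (f 0 ^^^ f 1 ^^^ f 2) ^^^ (f 3 ^^^ f 4 ^^^ f 5) ^^^ (f 6 ^^^ f 7 ^^^ f 8)

/-- A coded matrix, row by row. -/
def mc (f : F9 → F9 → ℕ) : List ℕ :=
  (List.range 81).map fun n => f (unidx (n / 9)) (unidx (n % 9))

def ent2 (M : List ℕ) (i k : ℕ) : ℕ := M.getD (9 * i + k) 0

def mm (M N : List ℕ) : List ℕ :=
  (List.range 81).map fun n => xor9 fun k => mul4 (ent2 M (n / 9) k) (ent2 N k (n % 9))

/-- Row `i` of the product of a coded matrix and a coded vector. -/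
def mvDig (M : List ℕ) (v i : ℕ) : ℕ := xor9 fun k => mul4 (ent2 M i k) (dig k v)

def wPow (n : ZMod 3) : ℕ := n.val + 1

def cId : List ℕ := mc fun w z => if w = z then 1 else 0
def cScal (c : ℕ) : List ℕ := mc fun w z => if w = z then c else 0
def cA (Z : F9) : List ℕ := mc fun w z => if w = z then wPow (Z.1 * w.1 + Z.2 * w.2) else 0
def cE (Z : F9) : List ℕ :=
  mc fun w z => if w = z then wPow ((Z.1 - w.1) ^ 2 + (Z.2 - w.2) ^ 2) else 0
def cLam (Z z : F9) : ℕ :=
  if z = 0 then 1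
  else if F9.div Z z = F9.I - F9.one then 2
  else if F9.div Z z = -F9.I - F9.one then 3
  else 1
def cD (Z : F9) : List ℕ := mc fun w z => if w = z + Z then cLam Z z else 0
def cB (Z : F9) : List ℕ := mc fun w z => if w = F9.mul Z z then 1 else 0
def cC (Z : F9) : List ℕ := mc fun w z =>
  if z = 0 then (if w = 0 then 1 else 0)
  else if w = -F9.div Z z ∨ w = F9.mul F9.I (F9.div Z z) ∨ w = -F9.mul F9.I (F9.div Z z) then 1 else 0

/-- The four basic generators. -/
def cGen : ℕ → List ℕ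
  | 0 => cB (1, 1)
  | 1 => cE (0, 0)
  | 2 => cD (1, 0)
  | _ => cC (1, 0)

def wordMat (l : List ℕ) : List ℕ := l.foldr (fun i M => mm (cGen i) M) cId

/-- Number of nonzero coordinates among the lowest `k`, modulo 2. -/
def parR : ℕ → ℕ → Bool
  | 0, _ => false
  | k + 1, v => Bool.xor (parR k v) (!Nat.beq (dig k v) 0)

/-- All `w < 4 ^ k` with the given parity. -/
def enum : ℕ → Bool → List ℕ
  | 0, b => bif b then [] else [0]
  | k + 1, b => enum k b ++ ((enum k (!b)).map (4 ^ k + ·) ++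
      ((enum k (!b)).map (2 * 4 ^ k + ·) ++ (enum k (!b)).map (3 * 4 ^ k + ·)))

/-- Normalised vectors of the given parity: the highest nonzero coordinate is one. -/
def normList (b : Bool) : List ℕ :=
  (List.range 9).flatMap fun k => (enum k (!b)).map (4 ^ k + ·)

end Cfsg.Agent.Lib.JankoThree
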