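import Cfsg.Agent.Lib.JankoThree.Basic
import Cfsg.Agent.Lib.JankoThree.Parts

/-! # Enumerating normalised vectors by parity -/

set_option autoImplicit false
set_option maxRecDepth 100000

namespace Cfsg.Agent.Lib.JankoThree

theorem dig_mod {i k : ℕ} (h : i < k) (v : ℕ) : dig i (v % 4 ^ k) = dig i v := by
  obtain ⟨j, rfl⟩ : ∃ j, k = i + (j + 1) := ⟨k - i - 1, by omega⟩
  simp only [dig, pow_add]
  rw [Nat.mod_mul_right_div_self, Nat.mod_mod_of_dvd _ ⟨4 ^ j, by rw [pow_one, mul_comm]⟩]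

theorem dig_add_mul {i k : ℕ} (h : i < k) (v a : ℕ) : dig i (v + a * 4 ^ k) = dig i v := by
  rw [← dig_mod h, Nat.add_mul_mod_self_right, dig_mod h]

theorem parR_congr {k v u : ℕ} (h : ∀ i < k, dig i v = dig i u) : parR k v = parR k u := by
  induction k with
  | zero => rfl
  | succ k ih => simp only [parR, ih fun i hi => h i (by omega), h k (by omega)]

theorem dig_top {k w : ℕ} (hw : w < 4 ^ k) {a : ℕ} (ha : a < 4) : dig k (w + a * 4 ^ k) = a := by
  rw [dig, Nat.add_mul_div_right _ _ (by positivity), Nat.div_eq_of_lt hw, zero_add, Nat.mod_eq_of_lt ha]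

theorem mem_enum {k : ℕ} : ∀ {w : ℕ} {b : Bool}, w ∈ enum k b ↔ w < 4 ^ k ∧ parR k w = b := by
  induction k with
  | zero => intro w b; cases b <;> simp [enum, parR]
  | succ k ih =>
    intro w b
    simp only [enum, List.mem_append, List.mem_map, ih]
    constructor
    · rintro (⟨h1, h2⟩ | ⟨u, ⟨h1, h2⟩, rfl⟩ | ⟨u, ⟨h1, h2⟩, rfl⟩ | ⟨u, ⟨h1, h2⟩, rfl⟩)
      · refine ⟨by rw [pow_succ]; omega, ?_⟩
        have : dig k w = 0 := by simpa using dig_top h1 (a := 0) (by norm_num)
        simp [parR, this, h2]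
      all_goals refine ⟨by rw [pow_succ]; omega, ?_⟩
      · rw [show 4 ^ k + u = u + 1 * 4 ^ k by ring, parR, dig_top h1 (by norm_num),
          parR_congr fun i hi => dig_add_mul hi u 1, h2]; cases b <;> rfl
      · rw [show 2 * 4 ^ k + u = u + 2 * 4 ^ k by ring, parR, dig_top h1 (by norm_num),
          parR_congr fun i hi => dig_add_mul hi u 2, h2]; cases b <;> rfl
      · rw [show 3 * 4 ^ k + u = u + 3 * 4 ^ k by ring, parR, dig_top h1 (by norm_num),
          parR_congr fun i hi => dig_add_mul hi u 3, h2]; cases b <;> rfl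
    · rintro ⟨hw, hp⟩
      have hu : w % 4 ^ k < 4 ^ k := Nat.mod_lt _ (by positivity)
      have hq : w / 4 ^ k < 4 := Nat.div_lt_of_lt_mul (by rw [pow_succ] at hw; exact hw)
      have e : w = w % 4 ^ k + w / 4 ^ k * 4 ^ k := by rw [mul_comm]; exact (Nat.mod_add_div _ _).symm
      have hd : dig k w = w / 4 ^ k := by rw [dig, Nat.mod_eq_of_lt hq]
      have hpu : parR k (w % 4 ^ k) = parR k w := parR_congr fun i hi => dig_mod hi w
      rw [parR, hd, ← hpu] at hp
      obtain h | h | h | h : w / 4 ^ k = 0 ∨ w / 4 ^ k = 1 ∨ w / 4 ^ k = 2 ∨ w / 4 ^ k = 3 := by omega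
      all_goals rw [h] at hp e
      · left
        rw [zero_mul, add_zero] at e
        rw [← e] at hu hp
        exact ⟨hu, by simpa using hp⟩
      · right; left
        exact ⟨_, ⟨hu, by revert hp; generalize parR k (w % 4 ^ k) = x; cases x <;> cases b <;> decide⟩,
          by omega⟩
      · right; right; left
        exact ⟨_, ⟨hu, by revert hp; generalize parR k (w % 4 ^ k) = x; cases x <;> cases b <;> decide⟩,
          by omega⟩
      · right; right; right
        exact ⟨_, ⟨hu, by revert hp; generalize parR k (w % 4 ^ k) = x; cases x <;> cases b <;> decide⟩,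
          by omega⟩

theorem nodup_enum {k : ℕ} : ∀ b : Bool, (enum k b).Nodup := by
  induction k with
  | zero => intro b; cases b <;> simp [enum]
  | succ k ih =>
    intro b
    have hinj : ∀ a : ℕ, ((enum k (!b)).map (a + ·)).Nodup := fun a =>
      (ih _).map fun x y h => Nat.add_left_cancel h
    have hlt : ∀ {c : Bool} {w : ℕ}, w ∈ enum k c → w < 4 ^ k := fun h => (mem_enum.1 h).1
    simp only [enum, List.nodup_append, List.mem_append, List.mem_map]
    refine ⟨ih b, ⟨hinj _, ⟨hinj _, hinj _, ?_⟩, ?_⟩, ?_⟩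
    · rintro _ ⟨u, hu, rfl⟩ _ ⟨u', hu', rfl⟩
      have := hlt hu; have := hlt hu'; omega
    · rintro _ ⟨u, hu, rfl⟩ _ (⟨u', hu', rfl⟩ | ⟨u', hu', rfl⟩) <;>
      · have := hlt hu; have := hlt hu'; omega
    · rintro _ hx _ (⟨u', hu', rfl⟩ | ⟨u', hu', rfl⟩ | ⟨u', hu', rfl⟩) <;>
      · have := hlt hx; have := hlt hu'; omega

theorem topPow_eq {t n : ℕ} (ht : t < 9) (h1 : 4 ^ t ≤ n) (h2 : n < 4 ^ (t + 1)) :
    topPow n = 4 ^ t := by
  have hb : ∀ a b : ℕ, Nat.blt a b = decide (a < b) := fun a b => by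
    rw [Bool.eq_iff_iff]; simp [Nat.blt_eq]
  interval_cases t <;> simp only [Nat.reducePow, Nat.reduceAdd] at h1 h2 ⊢ <;>
    simp only [topPow, hb, Bool.cond_decide] <;> split_ifs <;> omega

theorem exists_top : ∀ {k n : ℕ}, n < 4 ^ k → n ≠ 0 → ∃ t < k, dig t n ≠ 0 ∧ n < 4 ^ (t + 1) ∧ 4 ^ t ≤ n := by
  intro k
  induction k with
  | zero => intro n h h'; simp at h; omega
  | succ k ih =>
    intro n h h'
    rcases lt_or_ge n (4 ^ k) with h1 | h1
    · obtain ⟨t, ht, r⟩ := ih h1 h'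
      exact ⟨t, by omega, r⟩
    · refine ⟨k, by omega, ?_, h, h1⟩
      rw [dig, Nat.mod_eq_of_lt (Nat.div_lt_of_lt_mul (by rwa [← pow_succ]))]
      exact (Nat.div_pos h1 (by positivity)).ne'

theorem lt_of_dig_zero : ∀ {k t n : ℕ}, n < 4 ^ k → (∀ i, t ≤ i → i < k → dig i n = 0) → t ≤ k → n < 4 ^ t := by
  intro k
  induction k with
  | zero => intro t n h _ ht; rwa [Nat.le_zero.1 ht]
  | succ k ih =>
    intro t n h hz ht
    rcases eq_or_lt_of_le ht with rfl | ht'
    · exact h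
    · refine ih (lt_of_not_ge fun h1 => ?_) (fun i h2 h3 => hz i h2 (by omega)) (by omega)
      have := hz k (by omega) (by omega)
      rw [dig, Nat.mod_eq_of_lt (Nat.div_lt_of_lt_mul (by rwa [← pow_succ]))] at this
      exact absurd this (Nat.div_pos h1 (by positivity)).ne'

theorem ext_dig : ∀ {k a b : ℕ}, a < 4 ^ k → b < 4 ^ k → (∀ i < k, dig i a = dig i b) → a = b := by
  intro k
  induction k with
  | zero => intro a b ha hb _; simp at ha hb; omega
  | succ k ih =>
    intro a b ha hb h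
    have e := ih (Nat.mod_lt a (by positivity)) (Nat.mod_lt b (by positivity))
      fun i hi => by rw [dig_mod hi, dig_mod hi]; exact h i (by omega)
    have hk := h k (by omega)
    rw [dig, dig, Nat.mod_eq_of_lt (Nat.div_lt_of_lt_mul (by rwa [← pow_succ])),
      Nat.mod_eq_of_lt (Nat.div_lt_of_lt_mul (by rwa [← pow_succ]))] at hk
    rw [← Nat.div_add_mod a (4 ^ k), ← Nat.div_add_mod b (4 ^ k), e, hk]

theorem exists_code : ∀ (k : ℕ) (f : ℕ → ℕ), (∀ i, f i < 4) → ∃ n < 4 ^ k, ∀ i < k, dig i n = f i := by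
  intro k
  induction k with
  | zero => exact fun f _ => ⟨0, by norm_num, fun i hi => absurd hi (by omega)⟩
  | succ k ih =>
    intro f hf
    obtain ⟨n, hn, hd⟩ := ih f hf
    have := Nat.mul_le_mul_right (4 ^ k) (show f k ≤ 3 by have := hf k; omega)
    refine ⟨n + f k * 4 ^ k, by rw [pow_succ]; omega, fun i hi => ?_⟩
    rcases Nat.lt_succ_iff_lt_or_eq.1 hi with hi | rfl
    · rw [dig_add_mul hi, hd i hi]
    · exact dig_top hn (hf _)

theorem isN_iff {n : ℕ} (hn : n < 4 ^ 9) :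
    isN n = true ↔ ∃ k < 9, ∃ w < 4 ^ k, n = 4 ^ k + w := by
  rw [isN, Nat.beq_eq]
  constructor
  · intro h
    have h0 : n ≠ 0 := by rintro rfl; simp at h
    obtain ⟨t, ht, -, h2, h1⟩ := exists_top hn h0
    rw [topPow_eq ht h1 h2] at h
    refine ⟨t, ht, n % 4 ^ t, Nat.mod_lt _ (by positivity), ?_⟩
    have := Nat.div_add_mod n (4 ^ t)
    rw [h, mul_one] at this
    omega
  · rintro ⟨k, hk, w, hw, rfl⟩
    rw [topPow_eq hk (by omega) (by rw [pow_succ]; omega)]
    rw [Nat.add_comm, Nat.add_div_right _ (by positivity), Nat.div_eq_of_lt hw]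

theorem par9_eq (v : ℕ) (hv : v < 4 ^ 9) : par9 v = parR 9 v := by
  have h4 : ∀ u < 256, Nat.beq (parTab4 / 2 ^ u % 2) 1 = parR 4 u := by decide +kernel
  have h5 : ∀ u < 1024, Nat.beq (parTab5 / 2 ^ u % 2) 1 = parR 5 u := by decide +kernel
  rw [par9, h4 _ (Nat.mod_lt _ (by norm_num)), h5 _ (by omega)]
  have d4 : ∀ i < 4, dig i (v % 256) = dig i v := fun i hi => dig_mod (k := 4) hi v
  have d5 : ∀ i, dig i (v / 256) = dig (4 + i) v := fun i => by
    simp only [dig, Nat.div_div_eq_div_mul, pow_add]; norm_num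
  simp only [parR, d4 0 (by norm_num), d4 1 (by norm_num), d4 2 (by norm_num), d4 3 (by norm_num), d5]
  simp [Bool.xor_assoc]

end Cfsg.Agent.Lib.JankoThree
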