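import Cfsg.Agent.Lib.JankoThree.Defs

/-! # Literal codes of the maps, and generators as words (data) -/

set_option autoImplicit false

namespace Cfsg.Agent.Lib.JankoThree

/-- Codes of the four generators and the two scalars. -/
def gLit : ℕ → List ℕ
  | 0 => [1, 0, 0, 0, 0, 0, 0, 0, 0, 0, 0, 0, 0, 0, 0, 0, 0, 1, 0, 0, 0, 0, 1, 0, 0, 0, 0, 0, 0, 0, 0, 0, 0, 0, 1, 0, 0, 0, 0, 1, 0, 0, 0, 0, 0, 0, 0, 1, 0, 0, 0, 0, 0, 0, 0, 0, 0, 0, 0, 1, 0, 0, 0, 0, 1, 0, 0, 0, 0, 0, 0, 0, 0, 0, 0, 0, 0, 0, 1, 0, 0]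
  | 1 => [1, 0, 0, 0, 0, 0, 0, 0, 0, 0, 2, 0, 0, 0, 0, 0, 0, 0, 0, 0, 2, 0, 0, 0, 0, 0, 0, 0, 0, 0, 2, 0, 0, 0, 0, 0, 0, 0, 0, 0, 3, 0, 0, 0, 0, 0, 0, 0, 0, 0, 3, 0, 0, 0, 0, 0, 0, 0, 0, 0, 2, 0, 0, 0, 0, 0, 0, 0, 0, 0, 3, 0, 0, 0, 0, 0, 0, 0, 0, 0, 3]
  | 2 => [0, 0, 0, 0, 0, 0, 1, 0, 0, 0, 0, 0, 0, 0, 0, 0, 1, 0, 0, 0, 0, 0, 0, 0, 0, 0, 1, 1, 0, 0, 0, 0, 0, 0, 0, 0, 0, 1, 0, 0, 0, 0, 0, 0, 0, 0, 0, 1, 0, 0, 0, 0, 0, 0, 0, 0, 0, 1, 0, 0, 0, 0, 0, 0, 0, 0, 0, 2, 0, 0, 0, 0, 0, 0, 0, 0, 0, 3, 0, 0, 0]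
  | 3 => [1, 0, 0, 0, 0, 0, 0, 0, 0, 0, 1, 0, 1, 0, 0, 1, 0, 0, 0, 0, 1, 1, 0, 0, 1, 0, 0, 0, 1, 1, 0, 0, 0, 1, 0, 0, 0, 0, 0, 0, 1, 1, 0, 0, 1, 0, 0, 0, 0, 1, 1, 0, 1, 0, 0, 1, 1, 1, 0, 0, 0, 0, 0, 0, 0, 0, 0, 0, 1, 0, 1, 1, 0, 0, 0, 0, 1, 0, 0, 1, 1]
  | 4 => [2, 0, 0, 0, 0, 0, 0, 0, 0, 0, 2, 0, 0, 0, 0, 0, 0, 0, 0, 0, 2, 0, 0, 0, 0, 0, 0, 0, 0, 0, 2, 0, 0, 0, 0, 0, 0, 0, 0, 0, 2, 0, 0, 0, 0, 0, 0, 0, 0, 0, 2, 0, 0, 0, 0, 0, 0, 0, 0, 0, 2, 0, 0, 0, 0, 0, 0, 0, 0, 0, 2, 0, 0, 0, 0, 0, 0, 0, 0, 0, 2]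
  | _ => [3, 0, 0, 0, 0, 0, 0, 0, 0, 0, 3, 0, 0, 0, 0, 0, 0, 0, 0, 0, 3, 0, 0, 0, 0, 0, 0, 0, 0, 0, 3, 0, 0, 0, 0, 0, 0, 0, 0, 0, 3, 0, 0, 0, 0, 0, 0, 0, 0, 0, 3, 0, 0, 0, 0, 0, 0, 0, 0, 0, 3, 0, 0, 0, 0, 0, 0, 0, 0, 0, 3, 0, 0, 0, 0, 0, 0, 0, 0, 0, 3]

def wordA : ℕ → List ℕ
  | 0 => []
  | 1 => [2, 2, 2]
  | 2 => [2, 2, 2, 2, 2, 2]
  | 3 => [0, 0, 2, 2, 2, 0, 0, 0, 0, 0, 0]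
  | 4 => [2, 1, 1, 2, 1, 2]
  | 5 => [2, 2, 2, 2, 1, 1, 2, 1, 2]
  | 6 => [0, 0, 0, 0, 0, 0, 2, 2, 2, 0, 0]
  | 7 => [2, 1, 2, 1, 1, 2]
  | 8 => [2, 2, 2, 2, 1, 2, 1, 1, 2]
  | _ => []

def wordE : ℕ → List ℕ
  | 0 => [1]
  | 1 => [2, 1, 1, 2, 1, 1, 2]
  | 2 => [2, 2, 2, 2, 1, 1, 2, 1, 1, 2]
  | 3 => [2, 2, 2, 2, 2, 2, 2, 1, 2, 2]
  | 4 => [2, 2, 1, 1, 2, 1, 1]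
  | 5 => [2, 2, 2, 2, 2, 1, 1, 2, 1, 1]
  | 6 => [2, 2, 2, 2, 2, 2, 2, 2, 1, 2]
  | 7 => [2, 1, 1, 2, 2, 1, 1]
  | 8 => [2, 2, 2, 2, 1, 1, 2, 2, 1, 1]
  | _ => []

def wordD : ℕ → List ℕ
  | 0 => []
  | 1 => [0, 0, 0, 0, 0, 0, 2, 0, 0]
  | 2 => [0, 0, 2, 0, 0, 0, 0, 0, 0]
  | 3 => [2]
  | 4 => [0, 2, 0, 0, 0, 0, 0, 0, 0]
  | 5 => [0, 0, 0, 2, 0, 0, 0, 0, 0]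
  | 6 => [2, 2, 2, 2, 2, 2, 2, 2]
  | 7 => [0, 0, 0, 0, 0, 0, 0, 2, 0]
  | 8 => [0, 0, 0, 0, 0, 2, 0, 0, 0]
  | _ => []

def wordB : ℕ → List ℕ
  | 1 => [0, 0, 0, 0, 0, 0]
  | 2 => [0, 0]
  | 3 => []
  | 4 => [0]
  | 5 => [0, 0, 0]
  | 6 => [0, 0, 0, 0]
  | 7 => [0, 0, 0, 0, 0, 0, 0]
  | 8 => [0, 0, 0, 0, 0]
  | _ => []

def wordC : ℕ → List ℕ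
  | 1 => [3, 0, 0]
  | 2 => [3, 0, 0, 0, 0, 0, 0]
  | 3 => [3]
  | 4 => [3, 0, 0, 0, 0, 0, 0, 0]
  | 5 => [3, 0, 0, 0, 0, 0]
  | 6 => [3, 0, 0, 0, 0]
  | 7 => [3, 0]
  | 8 => [3, 0, 0, 0]
  | _ => []

def ordGen : ℕ → ℕ
  | 0 => 8
  | 1 => 3
  | 2 => 9
  | _ => 2

end Cfsg.Agent.Lib.JankoThree
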