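import Cfsg.Agent.Lib.JankoThree.Basic
import Cfsg.Agent.Lib.JankoThree.WordData

/-! # The group `3·J₃` in terms of four generators -/

set_option autoImplicit false
set_option maxRecDepth 100000

namespace Cfsg.Agent.Lib.JankoThree

open Cfsg.Spor Matrix

theorem small_gLit : ∀ i < 6, Small (gLit i) = true := by decide +kernel

theorem tabOk_zero : TabOk (gLit 0) (tab 0) = true := by decide +kernel
theorem tabOk_one : TabOk (gLit 1) (tab 1) = true := by decide +kernel
theorem tabOk_two : TabOk (gLit 2) (tab 2) = true := by decide +kernel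
theorem tabOk_three : TabOk (gLit 3) (tab 3) = true := by decide +kernel
theorem tabOk_four : TabOk (gLit 4) (tab 4) = true := by decide +kernel
theorem tabOk_five : TabOk (gLit 5) (tab 5) = true := by decide +kernel

theorem tabOk (i : ℕ) (hi : i < 6) : TabOk (gLit i) (tab i) = true := by
  interval_cases i
  exacts [tabOk_zero, tabOk_one, tabOk_two, tabOk_three, tabOk_four, tabOk_five]

theorem tab_small : ∀ i < 6, (List.range 512).all
    (fun n => Nat.blt ((tab i).1.get n) 262144 && Nat.blt ((tab i).2.get n) 262144) = true := by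
  decide +kernel

theorem gLit_gen : ∀ i < 4, gLit i = cGen i := by decide +kernel

theorem gLit_scal : gLit 4 = cScal 2 ∧ gLit 5 = cScal 3 := by decide +kernel

/-- Code of a word in the four generators. -/
def wordLit (l : List ℕ) : List ℕ := l.foldr (fun i M => mm (gLit i) M) cId

theorem word_A : ∀ Z : F9, wordLit (wordA (idx Z)) = cA Z ∧ (wordA (idx Z)).all (Nat.blt · 4) := by
  decide +kernel
theorem word_E : ∀ Z : F9, wordLit (wordE (idx Z)) = cE Z ∧ (wordE (idx Z)).all (Nat.blt · 4) := by
  decide +kernel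
theorem word_D : ∀ Z : F9, wordLit (wordD (idx Z)) = cD Z ∧ (wordD (idx Z)).all (Nat.blt · 4) := by
  decide +kernel
theorem word_B : ∀ Z : F9, Z ≠ 0 → wordLit (wordB (idx Z)) = cB Z ∧ (wordB (idx Z)).all (Nat.blt · 4) := by
  decide +kernel
theorem word_C : ∀ Z : F9, Z ≠ 0 → wordLit (wordC (idx Z)) = cC Z ∧ (wordC (idx Z)).all (Nat.blt · 4) := by
  decide +kernel

theorem small_cId : Small cId = true := by decide +kernel

variable {F : Type*} [Field F] [Fintype F] {ω : F}

omit [Fintype F] in
theorem phi_wPow (n : ZMod 3) : phi ω (wPow n) = omegaPow F ω n := by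
  have : ∀ m : ZMod 3, m = 0 ∨ m = 1 ∨ m = 2 := by decide
  rcases this n with rfl | rfl | rfl
  · exact (pow_zero ω).symm
  · exact (pow_one ω).symm
  · rfl

omit [Fintype F] in
theorem toMat_cA (Z : F9) : toMat ω (cA Z) = j3A F ω Z := by
  ext w z
  simp only [toMat, Matrix.of_apply, cA, ent2_mc, j3A, Matrix.diagonal_apply]
  split_ifs with h
  · exact phi_wPow _
  · rfl

omit [Fintype F] in
theorem toMat_cE (Z : F9) : toMat ω (cE Z) = j3E F ω Z := by
  ext w z
  simp only [toMat, Matrix.of_apply, cE, ent2_mc, j3E, Matrix.diagonal_apply]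
  split_ifs with h
  · exact phi_wPow _
  · rfl

omit [Fintype F] in
theorem toMat_cD (Z : F9) : toMat ω (cD Z) = j3D F ω Z := by
  ext w z
  simp only [toMat, Matrix.of_apply, cD, ent2_mc, j3D, cLam, j3Lam]
  split_ifs <;> simp [phi]

omit [Fintype F] in
theorem toMat_cB (Z : F9) : toMat ω (cB Z) = j3B F Z := by
  ext w z
  simp only [toMat, Matrix.of_apply, cB, ent2_mc, j3B]
  split_ifs <;> rfl

omit [Fintype F] in
theorem toMat_cC (Z : F9) : toMat ω (cC Z) = j3C F Z := by
  ext w z
  simp only [toMat, Matrix.of_apply, cC, ent2_mc, j3C]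
  split_ifs <;> rfl

theorem gLit_mem (ω : F) : ∀ i < 4, toMat ω (gLit i) ∈ j3Gens F ω := by
  intro i hi
  rw [gLit_gen i hi]
  interval_cases i
  · exact Or.inl (Or.inr ⟨(1, 1), by decide, toMat_cB _⟩)
  · exact Or.inl (Or.inl (Or.inl (Or.inr ⟨(0, 0), (toMat_cE _).symm⟩)))
  · exact Or.inl (Or.inl (Or.inr ⟨(1, 0), (toMat_cD _).symm⟩))
  · exact Or.inr ⟨(1, 0), by decide, toMat_cC _⟩

theorem small_wordLit : ∀ {l : List ℕ}, (∀ i ∈ l, i < 4) → Small (wordLit l) = true
  | [], _ => small_cId
  | i :: l, h => small_mm (small_gLit i (by have := h i List.mem_cons_self; omega))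
      (small_wordLit fun j hj => h j (List.mem_cons_of_mem _ hj))

theorem Setup.mem_gens (h : Setup ω) {M : Matrix F9 F9 F} (hM : M ∈ j3Gens F ω) :
    ∃ l : List ℕ, (∀ i ∈ l, i < 4) ∧ M = toMat ω (wordLit l) := by
  have key : ∀ {c : List ℕ} {l : List ℕ}, wordLit l = c ∧ (l.all (Nat.blt · 4) : Bool) = true →
      ∃ l : List ℕ, (∀ i ∈ l, i < 4) ∧ toMat ω c = toMat ω (wordLit l) := fun {c l} hl =>
    ⟨l, fun i hi => by simpa [Nat.blt_eq] using List.all_eq_true.1 hl.2 i hi, by rw [hl.1]⟩
  rcases hM with (((⟨Z, rfl⟩ | ⟨Z, rfl⟩) | ⟨Z, rfl⟩) | ⟨Z, hZ, rfl⟩) | ⟨Z, hZ, rfl⟩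
  · rw [← toMat_cA]; exact key (word_A Z)
  · rw [← toMat_cE]; exact key (word_E Z)
  · rw [← toMat_cD]; exact key (word_D Z)
  · rw [← toMat_cB (ω := ω)]; exact key (word_B Z hZ)
  · rw [← toMat_cC (ω := ω)]; exact key (word_C Z hZ)

theorem gLit_inv : ∀ i < 4, wordLit (List.replicate (ordGen i) i) = cId := by decide +kernel

theorem Setup.exists_gen (h : Setup ω) (i : ℕ) (hi : i < 4) :
    ∃ g ∈ threeJ3 F ω, (g : Matrix F9 F9 F) = toMat ω (gLit i) := by
  have hN : ∀ j ∈ List.replicate (ordGen i - 1) i, j < 4 := fun j hj => by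
    rw [List.eq_of_mem_replicate hj]; exact hi
  have e : toMat ω (gLit i) * toMat ω (wordLit (List.replicate (ordGen i - 1) i)) = 1 := by
    rw [← h.toMat_mm (small_gLit i (by omega)) (small_wordLit hN), ← toMat_cId ω]
    congr 1
    rw [← gLit_inv i hi]
    have : ordGen i = (ordGen i - 1) + 1 := by interval_cases i <;> rfl
    rw [this, List.replicate_succ]
    rfl
  refine ⟨⟨_, _, e, mul_eq_one_comm.1 e⟩, Subgroup.subset_closure ?_, rfl⟩
  exact gLit_mem ω i hi

/-- A property of matrices holding for the four generators and closed under products holds on the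
whole group. -/
theorem Setup.induction (h : Setup ω) {P : Matrix F9 F9 F → Prop} (h1 : P 1)
    (hmul : ∀ A B, P A → P B → P (A * B)) (hgen : ∀ i < 4, P (toMat ω (gLit i)))
    {g : GL F9 F} (hg : g ∈ threeJ3 F ω) : P (g : Matrix F9 F9 F) := by
  classical
  have hword : ∀ l : List ℕ, (∀ i ∈ l, i < 4) → P (toMat ω (wordLit l)) := by
    intro l
    induction l with
    | nil => intro _; show P (toMat ω cId); rw [toMat_cId]; exact h1
    | cons i l ih =>
      intro hl
      have hl' : ∀ j ∈ l, j < 4 := fun j hj => hl j (List.mem_cons_of_mem _ hj)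
      have hi := hl i List.mem_cons_self
      show P (toMat ω (mm (gLit i) (wordLit l)))
      rw [h.toMat_mm (small_gLit i (by omega)) (small_wordLit hl')]
      exact hmul _ _ (hgen i hi) (ih hl')
  induction hg using Subgroup.closure_induction with
  | mem x hx =>
    obtain ⟨l, hl, e⟩ := h.mem_gens hx
    rw [e]; exact hword l hl
  | one => simpa using h1
  | mul x y _ _ hx hy => simpa using hmul _ _ hx hy
  | inv x _ hx =>
    have hp : ∀ n : ℕ, P ((x ^ n : GL F9 F) : Matrix F9 F9 F) := by
      intro n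
      induction n with
      | zero => simpa using h1
      | succ n ih => rw [pow_succ, Units.val_mul]; exact hmul _ _ ih hx
    rw [inv_eq_of_mul_eq_one_right (b := x ^ (orderOf x - 1))
      (by rw [← pow_succ', Nat.sub_add_cancel (orderOf_pos x), pow_orderOf_eq_one])]
    exact hp _

end Cfsg.Agent.Lib.JankoThree
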