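import Cfsg.Agent.Lib.JankoThree.Parts

/-! # Checks on one parity class of normalised vectors -/

set_option autoImplicit false
set_option maxRecDepth 100000

namespace Cfsg.Agent.Lib.JankoThree

theorem isoChk0_ : chk 0 1 true isoOk = true := by decide +kernel

theorem isoChk1_ : chk 1 4 true isoOk = true := by decide +kernel

theorem isoChk2_ : chk 2 16 true isoOk = true := by decide +kernel

theorem isoChk3_ : chk 3 64 true isoOk = true := by decide +kernel

theorem isoChk4_ : chk 4 256 true isoOk = true := by decide +kernel

theorem isoChk5_ : chk 5 1024 true isoOk = true := by decide +kernel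

theorem isoChk6_ : chk 6 4096 true isoOk = true := by decide +kernel

theorem isoChk7_0 : chk 6 16384 true isoOk = true := by decide +kernel

theorem isoChk7_1 : chk 6 20480 false isoOk = true := by decide +kernel

theorem isoChk7_2 : chk 6 24576 false isoOk = true := by decide +kernel

theorem isoChk7_3 : chk 6 28672 false isoOk = true := by decide +kernel

theorem isoChk7_ : chk 7 16384 true isoOk = true :=
  chk_succ (k := 6) isoChk7_0 isoChk7_1 isoChk7_2 isoChk7_3

theorem isoChk8_00 : chk 6 65536 true isoOk = true := by decide +kernel

theorem isoChk8_01 : chk 6 69632 false isoOk = true := by decide +kernel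

theorem isoChk8_02 : chk 6 73728 false isoOk = true := by decide +kernel

theorem isoChk8_03 : chk 6 77824 false isoOk = true := by decide +kernel

theorem isoChk8_0 : chk 7 65536 true isoOk = true :=
  chk_succ (k := 6) isoChk8_00 isoChk8_01 isoChk8_02 isoChk8_03

theorem isoChk8_10 : chk 6 81920 false isoOk = true := by decide +kernel

theorem isoChk8_11 : chk 6 86016 true isoOk = true := by decide +kernel

theorem isoChk8_12 : chk 6 90112 true isoOk = true := by decide +kernel

theorem isoChk8_13 : chk 6 94208 true isoOk = true := by decide +kernel

theorem isoChk8_1 : chk 7 81920 false isoOk = true :=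
  chk_succ (k := 6) isoChk8_10 isoChk8_11 isoChk8_12 isoChk8_13

theorem isoChk8_20 : chk 6 98304 false isoOk = true := by decide +kernel

theorem isoChk8_21 : chk 6 102400 true isoOk = true := by decide +kernel

theorem isoChk8_22 : chk 6 106496 true isoOk = true := by decide +kernel

theorem isoChk8_23 : chk 6 110592 true isoOk = true := by decide +kernel

theorem isoChk8_2 : chk 7 98304 false isoOk = true :=
  chk_succ (k := 6) isoChk8_20 isoChk8_21 isoChk8_22 isoChk8_23

theorem isoChk8_30 : chk 6 114688 false isoOk = true := by decide +kernel

theorem isoChk8_31 : chk 6 118784 true isoOk = true := by decide +kernel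

theorem isoChk8_32 : chk 6 122880 true isoOk = true := by decide +kernel

theorem isoChk8_33 : chk 6 126976 true isoOk = true := by decide +kernel

theorem isoChk8_3 : chk 7 114688 false isoOk = true :=
  chk_succ (k := 6) isoChk8_30 isoChk8_31 isoChk8_32 isoChk8_33

theorem isoChk8_ : chk 8 65536 true isoOk = true :=
  chk_succ (k := 7) isoChk8_0 isoChk8_1 isoChk8_2 isoChk8_3

end Cfsg.Agent.Lib.JankoThree
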