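import Cfsg.Agent.Lib.JankoThree.Parts

/-! # Checks on one parity class of normalised vectors -/

set_option autoImplicit false
set_option maxRecDepth 100000

namespace Cfsg.Agent.Lib.JankoThree

theorem orbChk0_ : chk 0 1 false orbOk = true := by decide +kernel

theorem orbChk0__n : cnt 0 1 false inOrb = 1 := by decide +kernel

theorem orbChk1_ : chk 1 4 false orbOk = true := by decide +kernel

theorem orbChk1__n : cnt 1 4 false inOrb = 1 := by decide +kernel

theorem orbChk2_ : chk 2 16 false orbOk = true := by decide +kernel

theorem orbChk2__n : cnt 2 16 false inOrb = 1 := by decide +kernel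

theorem orbChk3_ : chk 3 64 false orbOk = true := by decide +kernel

theorem orbChk3__n : cnt 3 64 false inOrb = 28 := by decide +kernel

theorem orbChk4_ : chk 4 256 false orbOk = true := by decide +kernel

theorem orbChk4__n : cnt 4 256 false inOrb = 82 := by decide +kernel

theorem orbChk5_ : chk 5 1024 false orbOk = true := by decide +kernel

theorem orbChk5__n : cnt 5 1024 false inOrb = 217 := by decide +kernel

theorem orbChk6_ : chk 6 4096 false orbOk = true := by decide +kernel

theorem orbChk6__n : cnt 6 4096 false inOrb = 1162 := by decide +kernel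

theorem orbChk7_0 : chk 6 16384 false orbOk = true := by decide +kernel

theorem orbChk7_0_n : cnt 6 16384 false inOrb = 1162 := by decide +kernel

theorem orbChk7_1 : chk 6 20480 true orbOk = true := by decide +kernel

theorem orbChk7_1_n : cnt 6 20480 true inOrb = 1062 := by decide +kernel

theorem orbChk7_2 : chk 6 24576 true orbOk = true := by decide +kernel

theorem orbChk7_2_n : cnt 6 24576 true inOrb = 1062 := by decide +kernel

theorem orbChk7_3 : chk 6 28672 true orbOk = true := by decide +kernel

theorem orbChk7_3_n : cnt 6 28672 true inOrb = 1062 := by decide +kernel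

theorem orbChk7_ : chk 7 16384 false orbOk = true :=
  chk_succ (k := 6) orbChk7_0 orbChk7_1 orbChk7_2 orbChk7_3

theorem orbChk7__n : cnt 7 16384 false inOrb = 4348 :=
  cnt_succ (k := 6) orbChk7_0_n orbChk7_1_n orbChk7_2_n orbChk7_3_n

theorem orbChk8_00 : chk 6 65536 false orbOk = true := by decide +kernel

theorem orbChk8_00_n : cnt 6 65536 false inOrb = 1162 := by decide +kernel

theorem orbChk8_01 : chk 6 69632 true orbOk = true := by decide +kernel

theorem orbChk8_01_n : cnt 6 69632 true inOrb = 1062 := by decide +kernel

theorem orbChk8_02 : chk 6 73728 true orbOk = true := by decide +kernel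

theorem orbChk8_02_n : cnt 6 73728 true inOrb = 1062 := by decide +kernel

theorem orbChk8_03 : chk 6 77824 true orbOk = true := by decide +kernel

theorem orbChk8_03_n : cnt 6 77824 true inOrb = 1062 := by decide +kernel

theorem orbChk8_0 : chk 7 65536 false orbOk = true :=
  chk_succ (k := 6) orbChk8_00 orbChk8_01 orbChk8_02 orbChk8_03

theorem orbChk8_0_n : cnt 7 65536 false inOrb = 4348 :=
  cnt_succ (k := 6) orbChk8_00_n orbChk8_01_n orbChk8_02_n orbChk8_03_n

theorem orbChk8_10 : chk 6 81920 true orbOk = true := by decide +kernel

theorem orbChk8_10_n : cnt 6 81920 true inOrb = 1062 := by decide +kernel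

theorem orbChk8_11 : chk 6 86016 false orbOk = true := by decide +kernel

theorem orbChk8_11_n : cnt 6 86016 false inOrb = 1098 := by decide +kernel

theorem orbChk8_12 : chk 6 90112 false orbOk = true := by decide +kernel

theorem orbChk8_12_n : cnt 6 90112 false inOrb = 1098 := by decide +kernel

theorem orbChk8_13 : chk 6 94208 false orbOk = true := by decide +kernel

theorem orbChk8_13_n : cnt 6 94208 false inOrb = 1098 := by decide +kernel

theorem orbChk8_1 : chk 7 81920 true orbOk = true :=
  chk_succ (k := 6) orbChk8_10 orbChk8_11 orbChk8_12 orbChk8_13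

theorem orbChk8_1_n : cnt 7 81920 true inOrb = 4356 :=
  cnt_succ (k := 6) orbChk8_10_n orbChk8_11_n orbChk8_12_n orbChk8_13_n

theorem orbChk8_20 : chk 6 98304 true orbOk = true := by decide +kernel

theorem orbChk8_20_n : cnt 6 98304 true inOrb = 1062 := by decide +kernel

theorem orbChk8_21 : chk 6 102400 false orbOk = true := by decide +kernel

theorem orbChk8_21_n : cnt 6 102400 false inOrb = 1098 := by decide +kernel

theorem orbChk8_22 : chk 6 106496 false orbOk = true := by decide +kernel

theorem orbChk8_22_n : cnt 6 106496 false inOrb = 1098 := by decide +kernel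

theorem orbChk8_23 : chk 6 110592 false orbOk = true := by decide +kernel

theorem orbChk8_23_n : cnt 6 110592 false inOrb = 1098 := by decide +kernel

theorem orbChk8_2 : chk 7 98304 true orbOk = true :=
  chk_succ (k := 6) orbChk8_20 orbChk8_21 orbChk8_22 orbChk8_23

theorem orbChk8_2_n : cnt 7 98304 true inOrb = 4356 :=
  cnt_succ (k := 6) orbChk8_20_n orbChk8_21_n orbChk8_22_n orbChk8_23_n

theorem orbChk8_30 : chk 6 114688 true orbOk = true := by decide +kernel

theorem orbChk8_30_n : cnt 6 114688 true inOrb = 1062 := by decide +kernel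

theorem orbChk8_31 : chk 6 118784 false orbOk = true := by decide +kernel

theorem orbChk8_31_n : cnt 6 118784 false inOrb = 1098 := by decide +kernel

theorem orbChk8_32 : chk 6 122880 false orbOk = true := by decide +kernel

theorem orbChk8_32_n : cnt 6 122880 false inOrb = 1098 := by decide +kernel

theorem orbChk8_33 : chk 6 126976 false orbOk = true := by decide +kernel

theorem orbChk8_33_n : cnt 6 126976 false inOrb = 1098 := by decide +kernel

theorem orbChk8_3 : chk 7 114688 true orbOk = true :=
  chk_succ (k := 6) orbChk8_30 orbChk8_31 orbChk8_32 orbChk8_33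

theorem orbChk8_3_n : cnt 7 114688 true inOrb = 4356 :=
  cnt_succ (k := 6) orbChk8_30_n orbChk8_31_n orbChk8_32_n orbChk8_33_n

theorem orbChk8_ : chk 8 65536 false orbOk = true :=
  chk_succ (k := 7) orbChk8_0 orbChk8_1 orbChk8_2 orbChk8_3

theorem orbChk8__n : cnt 8 65536 false inOrb = 17416 :=
  cnt_succ (k := 7) orbChk8_0_n orbChk8_1_n orbChk8_2_n orbChk8_3_n

end Cfsg.Agent.Lib.JankoThree
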