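import Cfsg.Agent.Lib.JankoThree.Gens
import Cfsg.Agent.Lib.JankoThree.Enum
import Cfsg.Agent.Lib.JankoThree.OrbChecks
import Cfsg.Agent.Lib.JankoThree.IsoChecks

/-! # Two orbits of `3·J₃` on lines -/

set_option autoImplicit false
set_option maxRecDepth 100000

namespace Cfsg.Agent.Lib.JankoThree

open Cfsg.Spor Matrix

theorem orb_chk : ∀ k < 9, chk k (4 ^ k) false orbOk = true := by
  intro k hk
  interval_cases k
  exacts [orbChk0_, orbChk1_, orbChk2_, orbChk3_, orbChk4_, orbChk5_, orbChk6_, orbChk7_, orbChk8_]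

theorem iso_chk : ∀ k < 9, chk k (4 ^ k) true isoOk = true := by
  intro k hk
  interval_cases k
  exacts [isoChk0_, isoChk1_, isoChk2_, isoChk3_, isoChk4_, isoChk5_, isoChk6_, isoChk7_, isoChk8_]

theorem exists_enum {n : ℕ} {b : Bool} (hn : n < 4 ^ 9) (hN : isN n = true) (hp : par9 n = b) :
    ∃ k < 9, ∃ w ∈ enum k (!b), n = 4 ^ k + w := by
  obtain ⟨k, hk, w, hw, rfl⟩ := (isN_iff hn).1 hN
  refine ⟨k, hk, w, mem_enum.2 ⟨hw, ?_⟩, rfl⟩
  rw [par9_eq _ hn] at hp
  have hext : ∀ j, k + 1 ≤ j → parR j (4 ^ k + w) = parR (k + 1) (4 ^ k + w) := by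
    intro j hj
    induction j, hj using Nat.le_induction with
    | base => rfl
    | succ j hj ih =>
      have h0 : dig j (4 ^ k + w) = 0 := by
        rw [dig, Nat.div_eq_of_lt]
        have : 4 ^ (k + 1) ≤ 4 ^ j := Nat.pow_le_pow_right (by norm_num) hj
        rw [pow_succ] at this; omega
      simp [parR, h0, ih]
  rw [hext 9 (by omega), show 4 ^ k + w = w + 1 * 4 ^ k by ring, parR, dig_top hw (by norm_num),
    parR_congr fun i hi => dig_add_mul hi w 1] at hp
  revert hp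
  generalize parR k w = x
  cases x <;> cases b <;> decide

theorem orbOk_of {n : ℕ} (hn : n < 4 ^ 9) (hN : isN n = true) (hp : par9 n = true) :
    orbOk n = true := by
  obtain ⟨k, hk, w, hw, rfl⟩ := exists_enum hn hN hp
  exact List.all_eq_true.1 (orb_chk k hk) w hw

theorem isoOk_of {n : ℕ} (hn : n < 4 ^ 9) (hN : isN n = true) (hp : par9 n = false) :
    isoOk n = true := by
  obtain ⟨k, hk, w, hw, rfl⟩ := exists_enum hn hN hp
  exact List.all_eq_true.1 (iso_chk k hk) w hw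

/-- The two roots. -/
def rootOf (b : Bool) : ℕ := bif b then 1 else 5

theorem reach_of {n : ℕ} {b : Bool} (hn : n < 4 ^ 9) (hN : isN n = true) (hp : par9 n = b)
    (hd : 0 < depth n) : reachOk b (rootOf b) n = true := by
  cases b
  · have := isoOk_of hn hN hp
    rw [isoOk, fce_eq, Bool.and_eq_true] at this
    exact this.2
  · have := orbOk_of hn hN hp
    rw [orbOk, fce_eq, show Nat.beq (depth n) 0 = false from Bool.eq_false_iff.2
      (fun h => hd.ne' (Nat.eq_of_beq_eq_true h)), cond_false, Bool.and_eq_true] at this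
    exact this.1

variable {F : Type*} [Field F] [Fintype F] {ω : F}

theorem Setup.scalC_spec (h : Setup ω) (c : ℕ) {v : ℕ} (hv : v < 4 ^ 9) :
    scalC c v < 4 ^ 9 ∧ ∃ a : F, a ≠ 0 ∧ vec ω (scalC c v) = a • vec ω v := by
  have key : ∀ i, i < 6 → ∀ d, d = 2 ∨ d = 3 → gLit i = cScal d →
      ap (tab i) v < 4 ^ 9 ∧ ∃ a : F, a ≠ 0 ∧ vec ω (ap (tab i) v) = a • vec ω v := by
    intro i hi d hd e
    refine ⟨ap_lt (tab_small i hi) hv, phi ω d, ?_, ?_⟩
    · rcases hd with rfl | rfl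
      · exact h.omega_ne
      · exact pow_ne_zero 2 h.omega_ne
    · rw [h.vec_ap (small_gLit i hi) (tabOk i hi) hv, e,
        show toMat ω (cScal d) = phi ω d • (1 : Matrix F9 F9 F) by
          ext w z
          simp only [toMat, Matrix.of_apply, cScal, ent2_mc, Matrix.smul_apply, Matrix.one_apply]
          split_ifs <;> simp [phi], Matrix.smul_mulVec, Matrix.one_mulVec]
  unfold scalC
  rcases hc : Nat.beq c 2
  · rcases hc' : Nat.beq c 3
    · exact ⟨hv, 1, one_ne_zero, (one_smul _ _).symm⟩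
    · exact key 5 (by norm_num) 3 (Or.inr rfl) gLit_scal.2
  · exact key 4 (by norm_num) 2 (Or.inl rfl) gLit_scal.1

theorem Setup.exists_mover (h : Setup ω) : ∀ (n : ℕ) {b : Bool}, n < 4 ^ 9 → isN n = true →
    par9 n = b → 0 < depth n → ∃ g ∈ threeJ3 F ω, ∃ a : F, a ≠ 0 ∧
      vec ω n = a • ((g : Matrix F9 F9 F) *ᵥ vec ω (rootOf b)) := by
  intro n
  induction hm : depth n using Nat.strong_induction_on generalizing n with
  | _ m ih =>
    intro b hn hN hp hd
    subst hm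
    have hr := reach_of hn hN hp hd
    rw [reachOk] at hr
    simp only [fce_eq] at hr
    rcases hdd : Nat.beq (entry n / 4194304) 1
    · rw [hdd, cond_false] at hr
      simp only [Bool.and_eq_true, Nat.beq_eq, Nat.blt_eq, beq_iff_eq] at hr
      obtain ⟨e, hlt, hpos, hPN, hPp⟩ := hr
      set p := entry n % 262144
      set i := entry n / 262144 % 4 with hi
      have hi4 : i < 4 := Nat.mod_lt _ (by norm_num)
      have hpl : p < 4 ^ 9 := Nat.mod_lt _ (by norm_num)
      obtain ⟨g, hg, a, ha, hga⟩ := ih (depth p) hlt p rfl hpl hPN hPp hpos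
      obtain ⟨k, hk, hkM⟩ := h.exists_gen i hi4
      obtain ⟨-, a', ha', hsc⟩ := h.scalC_spec (entry n / 1048576 % 4)
        (ap_lt (tab_small i (by omega)) hpl)
      refine ⟨k * g, mul_mem hk hg, a' * a, mul_ne_zero ha' ha, ?_⟩
      rw [e, hsc, h.vec_ap (small_gLit i (by omega)) (tabOk i (by omega)) hpl, hga, Matrix.mulVec_smul,
        smul_smul, ← hkM, Units.val_mul, Matrix.mulVec_mulVec]
    · rw [hdd, cond_true] at hr
      refine ⟨1, one_mem _, 1, one_ne_zero, ?_⟩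
      rw [Nat.eq_of_beq_eq_true hr, Units.val_one, Matrix.one_mulVec, one_smul]

theorem vec_one (ω : F) : vec ω 1 = Pi.single (0 : F9) (1 : F) := by
  have h : ∀ z : F9, dig (idx z) 1 = if z = 0 then 1 else 0 := by decide
  funext z
  rw [vec, h, Pi.single_apply]
  split_ifs <;> rfl

/-- Membership in the first orbit. -/
def InS (n : ℕ) : Prop := n < 4 ^ 9 ∧ isN n = true ∧ par9 n = true ∧ 0 < depth n

theorem inS_one : InS 1 :=
  ⟨by norm_num, by decide +kernel, by decide +kernel,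
    show 0 < depth 1 from Nat.blt_eq ▸ (by decide +kernel : Nat.blt 0 (depth 1) = true)⟩

theorem Setup.nrmC_spec (h : Setup ω) {y : ℕ} (hy : y < 4 ^ 9) :
    nrmC y < 4 ^ 9 ∧ ∃ a : F, a ≠ 0 ∧ vec ω (nrmC y) = a • vec ω y := by
  have he : nrmC y = bif Nat.beq (y / topPow y) 2 then scalC 3 y else
      bif Nat.beq (y / topPow y) 3 then scalC 2 y else y := by simp only [nrmC, fce_eq]
  rw [he]
  rcases Nat.beq (y / topPow y) 2
  · rcases Nat.beq (y / topPow y) 3
    · exact ⟨hy, 1, one_ne_zero, (one_smul _ _).symm⟩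
    · exact h.scalC_spec 2 hy
  · exact h.scalC_spec 3 hy

theorem Setup.gen_stable (h : Setup ω) {i : ℕ} (hi : i < 4) {n : ℕ} (hn : InS n) :
    ∃ m, InS m ∧ ∃ a : F, a ≠ 0 ∧ toMat ω (gLit i) *ᵥ vec ω n = a • vec ω m := by
  obtain ⟨hlt, hN, hp, hd⟩ := hn
  have hr := orbOk_of hlt hN hp
  rw [orbOk, fce_eq, show Nat.beq (depth n) 0 = false from Bool.eq_false_iff.2
    (fun e => hd.ne' (Nat.eq_of_beq_eq_true e)), cond_false] at hr
  simp only [Bool.and_eq_true] at hr
  have him : imgOk i n = true := by interval_cases i <;> tauto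
  simp only [imgOk, fce_eq, Bool.and_eq_true, Nat.blt_eq] at him
  have hl := ap_lt (tab_small i (by omega)) hlt
  obtain ⟨hl', a, ha, e⟩ := h.nrmC_spec hl
  refine ⟨_, ⟨hl', him.1, him.2.1, him.2.2⟩, a⁻¹, inv_ne_zero ha, ?_⟩
  rw [← h.vec_ap (small_gLit i (by omega)) (tabOk i (by omega)) hlt, e, smul_smul,
    inv_mul_cancel₀ ha, one_smul]

theorem Setup.stable (h : Setup ω) {g : GL F9 F} (hg : g ∈ threeJ3 F ω) {n : ℕ} (hn : InS n) :
    ∃ m, InS m ∧ ∃ a : F, a ≠ 0 ∧ (g : Matrix F9 F9 F) *ᵥ vec ω n = a • vec ω m := by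
  refine h.induction (P := fun A => ∀ n, InS n → ∃ m, InS m ∧ ∃ a : F, a ≠ 0 ∧
    A *ᵥ vec ω n = a • vec ω m) ?_ ?_ (fun i hi n hn => h.gen_stable hi hn) hg n hn
  · exact fun n hn => ⟨n, hn, 1, one_ne_zero, by rw [Matrix.one_mulVec, one_smul]⟩
  · intro A B hA hB n hn
    obtain ⟨m, hm, a, ha, e⟩ := hB n hn
    obtain ⟨m', hm', a', ha', e'⟩ := hA m hm
    exact ⟨m', hm', a * a', mul_ne_zero ha ha',
      by rw [← Matrix.mulVec_mulVec, e, Matrix.mulVec_smul, e', smul_smul]⟩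

theorem Setup.dig_ne_iff (h : Setup ω) (n : ℕ) (z : F9) : vec ω n z = 0 ↔ dig (idx z) n = 0 :=
  ⟨fun e => h.phi_inj _ (dig_lt _ _) 0 (by norm_num) e, fun e => by rw [vec, e]; rfl⟩

theorem Setup.vec_inj (h : Setup ω) {a b : ℕ} (ha : a < 4 ^ 9) (hb : b < 4 ^ 9)
    (e : vec ω a = vec ω b) : a = b := by
  refine ext_dig ha hb fun i hi => ?_
  have := h.phi_inj _ (dig_lt _ _) _ (dig_lt _ _) (congrFun e (unidx i))
  rwa [idx_unidx i hi] at this

theorem Setup.eq_of_smul (h : Setup ω) {n m : ℕ} (hn : n < 4 ^ 9) (hm : m < 4 ^ 9) (hN : isN n = true)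
    (hM : isN m = true) {a : F} (ha : a ≠ 0) (e : vec ω m = a • vec ω n) : m = n := by
  obtain ⟨k, hk, w, hw, rfl⟩ := (isN_iff hn).1 hN
  obtain ⟨j, hj, u, hu, rfl⟩ := (isN_iff hm).1 hM
  have htop : ∀ {t s : ℕ}, s < 4 ^ t → dig t (4 ^ t + s) = 1 ∧ ∀ i, t < i → dig i (4 ^ t + s) = 0 := by
    intro t s hs
    refine ⟨by rw [show 4 ^ t + s = s + 1 * 4 ^ t by ring]; exact dig_top hs (by norm_num), fun i hi => ?_⟩
    rw [dig, Nat.div_eq_of_lt]
    have : 4 ^ (t + 1) ≤ 4 ^ i := Nat.pow_le_pow_right (by norm_num) hi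
    rw [pow_succ] at this; omega
  have hiff : ∀ i < 9, dig i (4 ^ j + u) = 0 ↔ dig i (4 ^ k + w) = 0 := by
    intro i hi
    have h1 := congrFun e (unidx i)
    rw [← idx_unidx i hi, ← h.dig_ne_iff, ← h.dig_ne_iff, h1, Pi.smul_apply, smul_eq_mul, mul_eq_zero]
    simp [ha]
  have hjk : j = k := by
    rcases lt_trichotomy j k with hlt | heq | hlt
    · have := (hiff k hk).1 ((htop hu).2 k hlt); rw [(htop hw).1] at this; omega
    · exact heq
    · have := (hiff j hj).2 ((htop hw).2 j hlt); rw [(htop hu).1] at this; omega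
  subst hjk
  have h1 := congrFun e (unidx j)
  simp only [vec, Pi.smul_apply, smul_eq_mul, idx_unidx j hj, (htop hu).1, (htop hw).1] at h1
  rw [show phi ω 1 = 1 from rfl, mul_one] at h1
  rw [← h1, one_smul] at e
  exact h.vec_inj hm hn e

/-- The codes of the first orbit. -/
def orbCodes : List ℕ :=
  (List.range 9).flatMap fun k => ((enum k false).map (4 ^ k + ·)).filter inOrb

theorem mem_orbCodes {n : ℕ} : n ∈ orbCodes ↔ InS n := by
  simp only [orbCodes, List.mem_flatMap, List.mem_range, List.mem_filter, List.mem_map, inOrb,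
    Nat.blt_eq]
  constructor
  · rintro ⟨k, hk, ⟨w, hw, rfl⟩, hd⟩
    obtain ⟨hwl, hwp⟩ := mem_enum.1 hw
    have hlt : 4 ^ k + w < 4 ^ 9 := by
      have : 4 ^ (k + 1) ≤ 4 ^ 9 := Nat.pow_le_pow_right (by norm_num) hk
      rw [pow_succ] at this; omega
    have hN : isN (4 ^ k + w) = true := (isN_iff hlt).2 ⟨k, hk, w, hwl, rfl⟩
    refine ⟨hlt, hN, ?_, hd⟩
    by_contra hp
    obtain ⟨k', hk', w', hw', e⟩ := exists_enum hlt hN (Bool.eq_false_iff.2 hp)
    obtain ⟨hwl', hwp'⟩ := mem_enum.1 hw'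
    have hkk : k = k' := by
      rcases lt_trichotomy k k' with h | h | h
      · have : 4 ^ (k + 1) ≤ 4 ^ k' := Nat.pow_le_pow_right (by norm_num) h
        rw [pow_succ] at this; omega
      · exact h
      · have : 4 ^ (k' + 1) ≤ 4 ^ k := Nat.pow_le_pow_right (by norm_num) h
        rw [pow_succ] at this; omega
    subst hkk
    obtain rfl : w = w' := by omega
    rw [hwp] at hwp'
    exact absurd hwp' (by decide)
  · rintro ⟨hlt, hN, hp, hd⟩
    obtain ⟨k, hk, w, hw, rfl⟩ := exists_enum hlt hN hp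
    exact ⟨k, hk, ⟨w, hw, rfl⟩, hd⟩

theorem nodup_orbCodes : orbCodes.Nodup := by
  rw [orbCodes, List.nodup_flatMap]
  refine ⟨fun k _ => ((nodup_enum _).map fun a b h => Nat.add_left_cancel h).filter _, ?_⟩
  refine List.Pairwise.imp ?_ List.pairwise_lt_range
  intro k j hkj n hn hn'
  simp only [List.mem_filter, List.mem_map] at hn hn'
  obtain ⟨⟨w, hw, rfl⟩, -⟩ := hn
  obtain ⟨⟨u, hu, e⟩, -⟩ := hn'
  have := (mem_enum.1 hw).1
  have : 4 ^ (k + 1) ≤ 4 ^ j := Nat.pow_le_pow_right (by norm_num) hkj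
  rw [pow_succ] at this; omega

theorem length_orbCodes : orbCodes.length = 23256 := by
  have hp : ∀ k, (((enum k false).map (4 ^ k + ·)).filter inOrb).length = cnt k (4 ^ k) false inOrb := by
    intro k
    rw [← List.countP_eq_length_filter, List.countP_map]; rfl
  rw [orbCodes, List.length_flatMap]
  simp only [List.range_succ, List.range_zero, List.map_append, List.map_cons, List.map_nil, List.nil_append,
    List.sum_append, List.sum_cons, List.sum_nil, hp]
  simp only [show cnt 0 (4 ^ 0) false inOrb = _ from orbChk0__n, show cnt 1 (4 ^ 1) false inOrb = _ from orbChk1__n,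
    show cnt 2 (4 ^ 2) false inOrb = _ from orbChk2__n, show cnt 3 (4 ^ 3) false inOrb = _ from orbChk3__n,
    show cnt 4 (4 ^ 4) false inOrb = _ from orbChk4__n, show cnt 5 (4 ^ 5) false inOrb = _ from orbChk5__n,
    show cnt 6 (4 ^ 6) false inOrb = _ from orbChk6__n, show cnt 7 (4 ^ 7) false inOrb = _ from orbChk7__n,
    show cnt 8 (4 ^ 8) false inOrb = _ from orbChk8__n, Nat.reduceAdd]

theorem Setup.ncard_orbit (h : Setup ω) :
    {L : Submodule F (F9 → F) | ∃ g ∈ threeJ3 F ω,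
      L = Submodule.span F {(g : Matrix F9 F9 F) *ᵥ (Pi.single (0 : F9) (1 : F) : F9 → F)}}.ncard = 23256 := by
  classical
  have hset : {L : Submodule F (F9 → F) | ∃ g ∈ threeJ3 F ω,
      L = Submodule.span F {(g : Matrix F9 F9 F) *ᵥ (Pi.single (0 : F9) (1 : F) : F9 → F)}} =
      (fun n => Submodule.span F {vec ω n}) '' (orbCodes.toFinset : Set ℕ) := by
    ext L
    simp only [Set.mem_ofPred_eq, Set.mem_image, List.coe_toFinset, mem_orbCodes]
    constructor
    · rintro ⟨g, hg, rfl⟩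
      obtain ⟨m, hm, a, ha, e⟩ := h.stable hg inS_one
      refine ⟨m, hm, ?_⟩
      rw [← vec_one, e, Submodule.span_singleton_smul_eq (Ne.isUnit ha)]
    · rintro ⟨n, ⟨h1, h2, h3, h4⟩, rfl⟩
      obtain ⟨g, hg, a, ha, e⟩ := h.exists_mover n h1 h2 h3 h4
      refine ⟨g, hg, ?_⟩
      rw [← vec_one, e, Submodule.span_singleton_smul_eq (Ne.isUnit ha)]
      rfl
  rw [hset, Set.InjOn.ncard_image, Set.ncard_coe_finset,
    List.toFinset_card_of_nodup nodup_orbCodes, length_orbCodes]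
  intro n hn m hm e
  simp only [List.coe_toFinset, Set.mem_ofPred_eq, mem_orbCodes] at hn hm
  have hmem : vec ω m ∈ Submodule.span F {vec ω n} := by
    rw [show Submodule.span F {vec ω n} = Submodule.span F {vec ω m} from e]
    exact Submodule.mem_span_singleton_self _
  obtain ⟨a, ha⟩ := Submodule.mem_span_singleton.1 hmem
  have ha0 : a ≠ 0 := by
    rintro rfl
    obtain ⟨k, hk, w, hw, rfl⟩ := (isN_iff hm.1).1 hm.2.1
    have := congrFun ha (unidx k)
    rw [zero_smul, Pi.zero_apply, eq_comm, h.dig_ne_iff, idx_unidx k hk,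
      show 4 ^ k + w = w + 1 * 4 ^ k by ring, dig_top hw (by norm_num)] at this
    omega
  exact (h.eq_of_smul hn.1 hm.1 hn.2.1 hm.2.1 ha0 ha.symm).symm

theorem Setup.cube_sum (h : Setup ω) (n : ℕ) :
    ∑ z, vec ω n z ^ 3 = phi ω (bif parR 9 n then 1 else 0) := by
  have h1 : ∀ z, vec ω n z ^ 3 = phi ω (bif Nat.beq (dig (idx z) n) 0 then 0 else 1) := by
    intro z
    have := dig_lt (idx z) n
    have hc := h.omega_cube
    rw [vec]
    generalize dig (idx z) n = d at this ⊢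
    interval_cases d
    · exact zero_pow three_ne_zero
    · exact one_pow 3
    · exact hc
    · show (ω ^ 2) ^ 3 = 1; rw [← pow_mul, mul_comm, pow_mul, hc, one_pow]
  simp only [h1]
  rw [← h.phi_xor9 (f := fun k => bif Nat.beq (dig k n) 0 then 0 else 1)
    fun k => by cases Nat.beq (dig k n) 0 <;> norm_num]
  congr 1
  simp only [xor9, parR]
  generalize Nat.beq (dig 0 n) 0 = b0, Nat.beq (dig 1 n) 0 = b1, Nat.beq (dig 2 n) 0 = b2,
    Nat.beq (dig 3 n) 0 = b3, Nat.beq (dig 4 n) 0 = b4, Nat.beq (dig 5 n) 0 = b5,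
    Nat.beq (dig 6 n) 0 = b6, Nat.beq (dig 7 n) 0 = b7, Nat.beq (dig 8 n) 0 = b8
  revert b0 b1 b2 b3 b4 b5 b6 b7 b8
  decide +kernel

theorem Setup.iso_code (h : Setup ω) {v : F9 → F} (hv : v ≠ 0) (hs : ∑ z, v z ^ 3 = 0) :
    ∃ g ∈ threeJ3 F ω, ∃ a : F, a ≠ 0 ∧ v = a • ((g : Matrix F9 F9 F) *ᵥ vec ω 5) := by
  classical
  choose code hcode hphi using h.phi_surj
  obtain ⟨n, hn, hd⟩ := exists_code 9 (fun i => code (v (unidx i))) (fun i => hcode _)
  have hvn : vec ω n = v := funext fun z => by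
    rw [vec, hd _ (idx_lt z), unidx_idx, hphi]
  have hn0 : n ≠ 0 := by
    rintro rfl
    exact hv (hvn ▸ funext fun z => by simp [vec, dig, phi])
  obtain ⟨t, ht, htop, htu, -⟩ := exists_top hn hn0
  set a := vec ω n (unidx t) with hadef
  have ha : a ≠ 0 := fun e => htop (by rw [h.dig_ne_iff, idx_unidx t ht] at e; exact e)
  obtain ⟨m, hm, hmd⟩ := exists_code 9 (fun i => code (a⁻¹ * vec ω n (unidx i))) (fun i => hcode _)
  have hvm : vec ω m = a⁻¹ • vec ω n := funext fun z => by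
    rw [vec, hmd _ (idx_lt z), unidx_idx, hphi]; rfl
  have hmt : dig t m = 1 := by
    refine h.phi_inj _ (dig_lt _ _) 1 (by norm_num) ?_
    rw [hmd t ht, hphi, ← hadef, inv_mul_cancel₀ ha]; rfl
  have hzero : ∀ i, t + 1 ≤ i → i < 9 → dig i m = 0 := by
    intro i hi hi9
    have h0 : dig i n = 0 := by
      rw [dig, Nat.div_eq_of_lt (lt_of_lt_of_le htu (Nat.pow_le_pow_right (by norm_num) hi))]
    rw [← idx_unidx i hi9, ← h.dig_ne_iff, hvm, Pi.smul_apply, smul_eq_mul,
      (h.dig_ne_iff n (unidx i)).2 (by rw [idx_unidx i hi9]; exact h0), mul_zero]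
  have hmlt := lt_of_dig_zero hm hzero (by omega)
  have hN : isN m = true := by
    refine (isN_iff hm).2 ⟨t, ht, m % 4 ^ t, Nat.mod_lt _ (by positivity), ?_⟩
    have hq : m / 4 ^ t = 1 := by
      rw [← hmt, dig, Nat.mod_eq_of_lt (Nat.div_lt_of_lt_mul (by rwa [← pow_succ]))]
    have := Nat.div_add_mod m (4 ^ t)
    rw [hq, mul_one] at this
    omega
  have hp : par9 m = false := by
    rw [par9_eq m hm]
    have hz : ∑ z, vec ω m z ^ 3 = 0 := by
      simp only [hvm, Pi.smul_apply, smul_eq_mul, mul_pow, ← Finset.mul_sum, hvn, hs, mul_zero]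
    rw [h.cube_sum] at hz
    cases hb : parR 9 m
    · rfl
    · rw [hb] at hz; exact absurd hz one_ne_zero
  have hd0 : 0 < depth m := by
    have := isoOk_of hm hN hp
    rw [isoOk, fce_eq, Bool.and_eq_true, Nat.blt_eq] at this
    exact this.1
  obtain ⟨g, hg, c, hc, e⟩ := h.exists_mover m hm hN hp hd0
  refine ⟨g, hg, a * c, mul_ne_zero ha hc, ?_⟩
  rw [← hvn, ← smul_smul, show c • ((g : Matrix F9 F9 F) *ᵥ vec ω 5) = vec ω m from e.symm, hvm,
    smul_smul, mul_inv_cancel₀ ha, one_smul]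

theorem Setup.iso_transitive (h : Setup ω) {v w : F9 → F} (hv : v ≠ 0) (hw : w ≠ 0)
    (hsv : ∑ z, v z ^ 3 = 0) (hsw : ∑ z, w z ^ 3 = 0) :
    ∃ g ∈ threeJ3 F ω, ∃ c : F, c ≠ 0 ∧ (g : Matrix F9 F9 F) *ᵥ v = c • w := by
  obtain ⟨g, hg, a, ha, e⟩ := h.iso_code hv hsv
  obtain ⟨k, hk, b, hb, e'⟩ := h.iso_code hw hsw
  refine ⟨k * g⁻¹, mul_mem hk (inv_mem hg), a / b, div_ne_zero ha hb, ?_⟩
  rw [e, e', Matrix.mulVec_smul, Matrix.mulVec_mulVec, smul_smul, div_mul_cancel₀ a hb,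
    ← Units.val_mul, inv_mul_cancel_right]

end Cfsg.Agent.Lib.JankoThree
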