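import Cfsg.Agent.Lib.JankoThree.Group
import Cfsg.Agent.Lib.JankoThree.OrderChecks

/-! # The order of `3·J₃` -/

set_option autoImplicit false
set_option maxRecDepth 100000

namespace Cfsg.Agent.Lib.JankoThree

open Cfsg.Spor Matrix

variable {F : Type*} [Field F] [Fintype F] {ω : F}

theorem seg_spec {P : ℕ → Bool} {a n : ℕ} (hs : seg P a n = true) {d : ℕ} (h1 : a ≤ d) (h2 : d < a + n) :
    P d = true := by
  have := List.all_eq_true.1 hs (d - a) (List.mem_range.2 (by omega))
  rwa [Nat.add_sub_cancel' h1] at this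

theorem hStep_all (d : ℕ) (hd : d < 6480) : hStepOk d = true := by
  rcases (show d < 1080 ∨ (1080 ≤ d ∧ d < 2160) ∨ (2160 ≤ d ∧ d < 3240) ∨ (3240 ≤ d ∧ d < 4320) ∨
    (4320 ≤ d ∧ d < 5400) ∨ (5400 ≤ d) by omega) with h | h | h | h | h | h
  · exact seg_spec hStep_seg0 (Nat.zero_le _) (by omega)
  · exact seg_spec hStep_seg1 h.1 (by omega)
  · exact seg_spec hStep_seg2 h.1 (by omega)
  · exact seg_spec hStep_seg3 h.1 (by omega)
  · exact seg_spec hStep_seg4 h.1 (by omega)
  · exact seg_spec hStep_seg5 h (by omega)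

theorem hPar_all (d : ℕ) (hd : d < 6480) : hParOk d = true := by
  rcases (show d < 2160 ∨ (2160 ≤ d ∧ d < 4320) ∨ 4320 ≤ d by omega) with h | h | h
  · exact seg_spec hPar_seg0 (Nat.zero_le _) (by omega)
  · exact seg_spec hPar_seg1 h.1 (by omega)
  · exact seg_spec hPar_seg2 h (by omega)

theorem hSort_all (d : ℕ) (hd : d < 6479) : hSorted d = true :=
  seg_spec hSort_seg0 (Nat.zero_le _) (by omega)

theorem cStep_all (n : ℕ) (hn : n < 1620) : cStepOk n = true := by
  rcases (show n < 405 ∨ (405 ≤ n ∧ n < 810) ∨ (810 ≤ n ∧ n < 1215) ∨ 1215 ≤ n by omega) with h | h | h | h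
  · exact seg_spec cStep_seg0 (Nat.zero_le _) (by omega)
  · exact seg_spec cStep_seg1 h.1 (by omega)
  · exact seg_spec cStep_seg2 h.1 (by omega)
  · exact seg_spec cStep_seg3 h (by omega)

theorem fix_all (n : ℕ) (hn : n < 5832) : fixOk n = true := by
  rcases (show n < 1944 ∨ (1944 ≤ n ∧ n < 3888) ∨ 3888 ≤ n by omega) with h | h | h
  · exact seg_spec fix_seg0 (Nat.zero_le _) (by omega)
  · exact seg_spec fix_seg1 h.1 (by omega)
  · exact seg_spec fix_seg2 h (by omega)

theorem getD_mem_or {α : Type*} (l : List α) (i : ℕ) (d : α) : l.getD i d ∈ l ∨ l.getD i d = d := by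
  rcases lt_or_ge i l.length with h | h
  · rw [List.getD_eq_getElem _ _ h]; exact Or.inl (List.getElem_mem h)
  · exact Or.inr (List.getD_eq_default _ _ h)

theorem small_words : (∀ j, ∀ i ∈ kGenWord.getD j [], i < 3) ∧ (∀ c, ∀ i ∈ kW c, i < 3) ∧
    (∀ a, ∀ i ∈ tW a, i < 3) ∧ (∀ r, ∀ i ∈ rW r, i < 4) ∧ (∀ k, ∀ i ∈ hWord k, i < 4) := by
  have hw := words_small
  simp only [Bool.and_eq_true] at hw
  obtain ⟨h1, h2, ⟨⟨⟨h3, h4⟩, -⟩, -⟩, -⟩ := hw
  simp only [List.all_eq_true, List.mem_append] at h1 h2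
  refine ⟨fun j => ?_, fun c => ?_, fun a => ?_, fun r => ?_, fun k => ?_⟩
  · rcases getD_mem_or kGenWord j [] with h | h
    · exact smallW_spec (h1 _ (Or.inl (Or.inl h)))
    · rw [h]; simp
  · rcases getD_mem_or kWord c [] with h | h
    · exact smallW_spec (h1 _ (Or.inl (Or.inr h)))
    · rw [show kW c = [] from h]; simp
  · rcases getD_mem_or tWord a [] with h | h
    · exact smallW_spec (h1 _ (Or.inr h))
    · rw [show tW a = [] from h]; simp
  · rcases getD_mem_or repWord r [] with h | h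
    · exact smallW_spec (h2 _ h)
    · rw [show rW r = [] from h]; simp
  · rcases k with _ | k
    · exact smallW_spec h3
    · exact smallW_spec h4

theorem word_lt_four {w : List ℕ} (hw : ∀ i ∈ w, i < 3) : ∀ i ∈ w, i < 4 := fun i hi => (hw i hi).trans (by norm_num)

theorem app_lt {k : ℕ} {a b : List ℕ} (ha : ∀ i ∈ a, i < k) (hb : ∀ i ∈ b, i < k) : ∀ i ∈ a ++ b, i < k :=
  fun i hi => (List.mem_append.1 hi).elim (ha i) (hb i)

namespace Setup

variable (h : Setup ω)

/-- Elements of the monomial subgroup `K`. -/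
def InK (g : GL F9 F) : Prop := ∃ c < 72, g = h.wordGL (kW c)

/-- Elements of the monomial subgroup. -/
def InM (g : GL F9 F) : Prop := ∃ c < 72, ∃ a < 81, g = h.wordGL (kW c) * h.wordGL (tW a)

/-- The group fixing the first basis line. -/
noncomputable def hGrp : Subgroup (GL F9 F) :=
  Subgroup.closure (Set.range fun k : Fin 2 => h.wordGL (hWord k.val))

noncomputable def kGrp : Subgroup (GL F9 F) :=
  Subgroup.closure (Set.range fun j : Fin 3 => h.wordGL (kGenWord.getD j.val []))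

include h

theorem rep_hGrp {g : GL F9 F} (hg : g ∈ h.hGrp) : ∃ d < 6480, Rep ω g (hCols d) := by
  rw [hGrp, ← Subgroup.mem_toSubmonoid, Subgroup.closure_toSubmonoid_of_finite] at hg
  induction hg using Submonoid.closure_induction_left with
  | one =>
    have hr := hPar_all hRoot (by decide)
    have e : beqL idCols (hCols hRoot) = true := by decide +kernel
    exact ⟨hRoot, by decide, beqL_eq e ▸ rep_one ω⟩
  | mul_left s hs y _ ih =>
    obtain ⟨k, rfl⟩ := hs
    obtain ⟨d, hd, hrep⟩ := ih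
    have := hStep_all d hd
    simp only [hStepOk, fce_eq, Bool.and_eq_true, Nat.blt_eq] at this
    have hr := h.rep_eval hrep (small_words.2.2.2.2 k.val)
    fin_cases k
    · exact ⟨_, this.1, beqL_eq this.2.2.1 ▸ hr⟩
    · exact ⟨_, this.2.1, beqL_eq this.2.2.2 ▸ hr⟩

theorem exists_hGrp (d : ℕ) (hd : d < 6480) : ∃ g ∈ h.hGrp, Rep ω g (hCols d) := by
  induction hn : hPar.get d / 16384 using Nat.strong_induction_on generalizing d with
  | _ n ih =>
    subst hn
    have := hPar_all d hd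
    simp only [hParOk, fce_eq] at this
    rcases h0 : Nat.beq (hPar.get d / 16384) 0
    · rw [h0, cond_false] at this
      simp only [Bool.and_eq_true, Nat.blt_eq] at this
      obtain ⟨g, hg, hrep⟩ := ih _ this.2.1 _ this.1 rfl
      have hr := h.rep_eval hrep (small_words.2.2.2.2 (hPar.get d / 8192 % 2))
      exact ⟨_, mul_mem (Subgroup.subset_closure ⟨⟨_, Nat.mod_lt _ (by norm_num)⟩, rfl⟩) hg,
        beqL_eq this.2.2 ▸ hr⟩
    · rw [h0, cond_true] at this
      refine ⟨1, one_mem _, ?_⟩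
      rw [Nat.eq_of_beq_eq_true this]
      have e : beqL idCols (hCols hRoot) = true := by decide +kernel
      exact beqL_eq e ▸ rep_one ω

theorem card_hGrp : Nat.card h.hGrp = 6480 := by
  classical
  choose f hf hfr using fun g : h.hGrp => h.rep_hGrp g.2
  have hinj : ∀ a b, a < b → b < 6480 → hTree.get a < hTree.get b := by
    intro a b hab hb
    induction b with
    | zero => omega
    | succ b ih =>
      have := hSort_all b (by omega)
      simp only [hSorted, fce_eq, Nat.blt_eq] at this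
      rcases Nat.lt_succ_iff_lt_or_eq.1 hab with hab | rfl
      · exact (ih hab (by omega)).trans this
      · exact this
  have hpk : ∀ n, n < 2 ^ 162 → n = (unpk n).getD 0 0 + 262144 * ((unpk n).getD 1 0 + 262144 * ((unpk n).getD 2 0 +
      262144 * ((unpk n).getD 3 0 + 262144 * ((unpk n).getD 4 0 + 262144 * ((unpk n).getD 5 0 +
      262144 * ((unpk n).getD 6 0 + 262144 * ((unpk n).getD 7 0 + 262144 * (unpk n).getD 8 0))))))) := by
    intro n hn
    simp only [unpk, fce_eq, List.getD_cons_zero, List.getD_cons_succ]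
    omega
  have hlt : ∀ d < 6480, hTree.get d < 2 ^ 162 := by
    have : seg (fun d => Nat.blt (hTree.get d) (2 ^ 162)) 0 6480 = true := by decide +kernel
    exact fun d hd => by simpa [Nat.blt_eq] using seg_spec this (Nat.zero_le d) (by omega)
  have hcols : ∀ a < 6480, ∀ b < 6480, hCols a = hCols b → a = b := by
    intro a ha b hb e
    have e' : hTree.get a = hTree.get b := by
      rw [hpk _ (hlt a ha), hpk _ (hlt b hb)]
      simp only [hCols] at e
      rw [e]
    rcases lt_trichotomy a b with h' | h' | h'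
    · exact absurd e' (hinj a b h' hb).ne
    · exact h'
    · exact absurd e' (hinj b a h' ha).ne'
  refine (Nat.card_eq_of_bijective (fun g : h.hGrp => (⟨f g, hf g⟩ : Fin 6480)) ⟨?_, ?_⟩).trans
    (Nat.card_fin _)
  · intro g g' e
    have e' : f g = f g' := congrArg Fin.val e
    exact Subtype.ext ((hfr g).ext (e' ▸ hfr g'))
  · intro d
    obtain ⟨g, hg, hrep⟩ := h.exists_hGrp d.val d.2
    exact ⟨⟨g, hg⟩, Fin.ext (hcols _ (hf ⟨g, hg⟩) _ d.2 (Rep.unique h (hfr ⟨g, hg⟩) hrep))⟩

theorem kWord_mem : ∀ c < 72, h.wordGL (kW c) ∈ h.kGrp := by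
  intro c
  induction c using Nat.strong_induction_on with
  | _ c ih =>
    intro hc
    have := seg_spec kPar_all (Nat.zero_le c) (by omega)
    simp only [kParOk, fce_eq] at this
    rcases h0 : Nat.beq c 0
    · rw [h0, cond_false] at this
      simp only [Bool.and_eq_true, Nat.blt_eq] at this
      rw [← h.word_eq (app_lt (word_lt_four (small_words.1 _)) (word_lt_four (small_words.2.1 _)))
        (word_lt_four (small_words.2.1 c)) this.2.2, h.wordGL_append]
      exact mul_mem (Subgroup.subset_closure ⟨⟨_, this.2.1⟩, rfl⟩) (ih _ this.1 (this.1.trans hc))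
    · rw [h0, cond_true] at this
      rw [h.word_eq (u := []) (word_lt_four (small_words.2.1 c)) (by simp) this]
      exact one_mem _

theorem inK_of_mem {g : GL F9 F} (hg : g ∈ h.kGrp) : h.InK g := by
  rw [kGrp, ← Subgroup.mem_toSubmonoid, Subgroup.closure_toSubmonoid_of_finite] at hg
  induction hg using Submonoid.closure_induction_left with
  | one =>
    have := seg_spec kPar_all (Nat.zero_le 0) (by omega)
    simp only [kParOk, Nat.beq, cond_true] at this
    exact ⟨0, by norm_num, (h.word_eq (u := []) (word_lt_four (small_words.2.1 0)) (by simp) this).symm⟩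
  | mul_left s hs y _ ih =>
    obtain ⟨j, rfl⟩ := hs
    obtain ⟨c, hc, rfl⟩ := ih
    have := seg_spec kStep_all (Nat.zero_le c) (by omega)
    simp only [kStepOk, List.all_eq_true, List.mem_range, Bool.and_eq_true, Nat.blt_eq] at this
    refine ⟨_, (this j.val j.2).1, ?_⟩
    rw [← h.word_eq (app_lt (word_lt_four (small_words.1 _)) (word_lt_four (small_words.2.1 _)))
        (word_lt_four (small_words.2.1 _)) (this j.val j.2).2, h.wordGL_append]

theorem mem_kGrp {g : GL F9 F} (hg : h.InK g) : g ∈ h.kGrp := by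
  obtain ⟨c, hc, rfl⟩ := hg
  exact h.kWord_mem c hc

theorem InK_mul {g g' : GL F9 F} (hg : h.InK g) (hg' : h.InK g') : h.InK (g * g') :=
  h.inK_of_mem (mul_mem (h.mem_kGrp hg) (h.mem_kGrp hg'))

theorem InM_mul_gen {m : GL F9 F} (hm : h.InM m) (i : ℕ) (hi : i < 3) : h.InM (m * h.gl i) := by
  obtain ⟨c, hc, a, ha, rfl⟩ := hm
  have := seg_spec tStep_all (Nat.zero_le a) (by omega)
  simp only [tStepOk, fce_eq, List.all_eq_true, List.mem_range, Bool.and_eq_true, Nat.blt_eq] at this
  obtain ⟨h1, h2, h3⟩ := this i hi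
  have e := h.word_eq (app_lt (word_lt_four (small_words.2.2.1 a)) (b := [i])
    (fun j hj => by rw [List.mem_singleton.1 hj]; omega))
    (app_lt (word_lt_four (small_words.2.1 _)) (word_lt_four (small_words.2.2.1 _))) h3
  simp only [h.wordGL_append] at e
  rw [show h.wordGL [i] = h.gl i by simp [wordGL]] at e
  obtain ⟨c', hc', e'⟩ := h.InK_mul ⟨c, hc, rfl⟩ ⟨_, h1, rfl⟩
  exact ⟨c', hc', _, h2, by rw [mul_assoc, e, ← mul_assoc, e']⟩

/-- The monomial subgroup. -/
noncomputable def mGrp : Subgroup (GL F9 F) :=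
  Subgroup.closure (Set.range fun i : Fin 3 => h.gl i.val)

theorem word_mem_mGrp {w : List ℕ} (hw : ∀ i ∈ w, i < 3) : h.wordGL w ∈ h.mGrp :=
  list_prod_mem fun x hx => by
    obtain ⟨i, hi, rfl⟩ := List.mem_map.1 hx
    exact Subgroup.subset_closure ⟨⟨i, hw i hi⟩, rfl⟩

theorem mem_mGrp {m : GL F9 F} : m ∈ h.mGrp ↔ h.InM m := by
  constructor
  · intro hm
    rw [mGrp, ← Subgroup.mem_toSubmonoid, Subgroup.closure_toSubmonoid_of_finite] at hm
    induction hm using Submonoid.closure_induction_right with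
    | one =>
      obtain ⟨c, hc, e⟩ := h.inK_of_mem (one_mem h.kGrp)
      exact ⟨c, hc, 0, by norm_num, by rw [show tW 0 = [] from rfl, wordGL_nil, mul_one, e]⟩
    | mul_right y _ s hs ih =>
      obtain ⟨i, rfl⟩ := hs
      exact h.InM_mul_gen ih i.val i.2
  · rintro ⟨c, -, a, -, rfl⟩
    exact mul_mem (h.word_mem_mGrp (small_words.2.1 c)) (h.word_mem_mGrp (small_words.2.2.1 a))

theorem conj_K {k : GL F9 F} (hk : k ∈ h.kGrp) :
    ∃ k' ∈ h.kGrp, h.gl 3 * k = k' * h.gl 3 := by
  induction hk using Subgroup.closure_induction with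
  | mem x hx =>
    obtain ⟨j, rfl⟩ := hx
    have := seg_spec conj_all (Nat.zero_le j.val) (by omega)
    simp only [conjOk, Bool.and_eq_true, Nat.blt_eq] at this
    have e := h.word_eq (app_lt (a := [3]) (by simp) (word_lt_four (small_words.1 _)))
      (app_lt (word_lt_four (small_words.2.1 _)) (b := [3]) (by simp)) this.2
    simp only [h.wordGL_append, show h.wordGL [3] = h.gl 3 by simp [wordGL]] at e
    exact ⟨_, h.kWord_mem _ this.1, e⟩
  | one => exact ⟨1, one_mem _, by rw [mul_one, one_mul]⟩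
  | mul x y _ _ hx hy =>
    obtain ⟨x', hx', ex⟩ := hx
    obtain ⟨y', hy', ey⟩ := hy
    exact ⟨x' * y', mul_mem hx' hy', by rw [← mul_assoc, ex, mul_assoc, ey, mul_assoc]⟩
  | inv x _ hx =>
    obtain ⟨x', hx', ex⟩ := hx
    refine ⟨x'⁻¹, inv_mem hx', ?_⟩
    rw [eq_inv_mul_iff_mul_eq, ← mul_assoc, ← ex, mul_inv_cancel_right]

theorem decomp {g : GL F9 F} (hg : g ∈ threeJ3 F ω) :
    ∃ m ∈ h.mGrp, ∃ r < 20, ∃ x ∈ h.hGrp, g = m * h.wordGL (rW r) * x := by
  rw [h.closure_gl, ← Subgroup.mem_toSubmonoid, Subgroup.closure_toSubmonoid_of_finite] at hg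
  induction hg using Submonoid.closure_induction_left with
  | one => exact ⟨1, one_mem _, 0, by norm_num, 1, one_mem _, by rw [show rW 0 = [] from rfl, wordGL_nil]; simp⟩
  | mul_left s hs y _ ih =>
    obtain ⟨i, rfl⟩ := hs
    obtain ⟨m, hm, r, hr, x, hx, rfl⟩ := ih
    rcases Nat.lt_or_ge i.val 3 with hi | hi
    · exact ⟨h.gl i.val * m, mul_mem (Subgroup.subset_closure ⟨⟨i.val, hi⟩, rfl⟩) hm, r, hr, x, hx,
        by simp only [mul_assoc]⟩
    · have hi3 : i.val = 3 := by omega
      obtain ⟨c, hc, a, ha, rfl⟩ := h.mem_mGrp.1 hm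
      obtain ⟨k', hk', ek⟩ := h.conj_K (h.kWord_mem c hc)
      have hn : 20 * a + r < 1620 := by omega
      have := cStep_all (20 * a + r) hn
      simp only [cStepOk, fce_eq, Bool.and_eq_true, Nat.blt_eq,
        show (20 * a + r) / 20 = a by omega, show (20 * a + r) % 20 = r by omega] at this
      obtain ⟨hc', hb, hr', hd, e⟩ := this
      set s := cStep.get (20 * a + r)
      obtain ⟨u, hu, hrep⟩ := h.exists_hGrp _ hd
      have h1 := h.rep_eval (rep_one ω) (app_lt (app_lt (a := [3]) (by simp)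
        (word_lt_four (small_words.2.2.1 a))) (small_words.2.2.2.1 r))
      have h2 := h.rep_eval hrep (app_lt (app_lt (word_lt_four (small_words.2.1 (s % 128)))
        (word_lt_four (small_words.2.2.1 (s / 128 % 128)))) (small_words.2.2.2.1 (s / 16384 % 32)))
      rw [beqL_eq e] at h1
      have heq := h1.ext h2
      simp only [h.wordGL_append, show h.wordGL [3] = h.gl 3 by simp [wordGL], mul_one] at heq
      obtain ⟨c2, hc2, ec2⟩ := h.InK_mul (h.inK_of_mem hk') ⟨_, hc', rfl⟩
      refine ⟨h.wordGL (kW c2) * h.wordGL (tW (s / 128 % 128)),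
        h.mem_mGrp.2 ⟨c2, hc2, _, hb, rfl⟩, _, hr', u * x, mul_mem hu hx, ?_⟩
      calc h.gl i.val * (h.wordGL (kW c) * h.wordGL (tW a) * h.wordGL (rW r) * x)
          = k' * (h.gl 3 * h.wordGL (tW a) * h.wordGL (rW r)) * x := by
            rw [hi3]; simp only [← mul_assoc, ek]
        _ = _ := by rw [heq, ← ec2]; simp only [mul_assoc]

/-- Fixing the first basis line. -/
def Fixes (_h : Setup ω) (g : GL F9 F) : Prop :=
  ∃ a : F, a ≠ 0 ∧ (g : Matrix F9 F9 F) *ᵥ vec ω 1 = a • vec ω 1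

theorem Fixes.mul {g g' : GL F9 F} (hg : h.Fixes g) (hg' : h.Fixes g') : h.Fixes (g * g') := by
  obtain ⟨a, ha, e⟩ := hg
  obtain ⟨b, hb, e'⟩ := hg'
  exact ⟨b * a, mul_ne_zero hb ha, by
    rw [Units.val_mul, ← Matrix.mulVec_mulVec, e', Matrix.mulVec_smul, e, smul_smul]⟩

theorem Fixes.inv {g : GL F9 F} (hg : h.Fixes g) : h.Fixes g⁻¹ := by
  obtain ⟨a, ha, e⟩ := hg
  refine ⟨a⁻¹, inv_ne_zero ha, ?_⟩
  have := congrArg (fun v => (↑g⁻¹ : Matrix F9 F9 F) *ᵥ v) e
  simp only [Matrix.mulVec_mulVec, Units.inv_mul, Matrix.one_mulVec, Matrix.mulVec_smul] at this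
  conv_rhs => rw [this]
  rw [smul_smul, inv_mul_cancel₀ ha, one_smul]

theorem rep_first {g : GL F9 F} {L : List ℕ} (hg : Rep ω g L) :
    (g : Matrix F9 F9 F) *ᵥ vec ω 1 = vec ω (L.getD 0 0) := by
  rw [vec_one]; exact hg.2.2 0

theorem hGrp_fixes {g : GL F9 F} (hg : g ∈ h.hGrp) : h.Fixes g := by
  induction hg using Subgroup.closure_induction with
  | mem x hx =>
    obtain ⟨k, rfl⟩ := hx
    have hr := h.rep_eval (rep_one ω) (small_words.2.2.2.2 k.val)
    rw [mul_one] at hr
    have hcol : ∀ k : Fin 2, (evalW (hWord k.val) idCols).getD 0 0 ∈ [1, 2, 3] := by decide +kernel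
    have := h.rep_first hr
    have hcase := hcol k
    simp only [List.mem_cons, List.not_mem_nil, or_false] at hcase
    have hv : ∀ z : F9, ∀ c < 4, dig (idx z) c = if z = 0 then c else 0 := by decide
    have hvec : ∀ c < 4, vec ω c = phi ω c • vec ω 1 := fun c hc => by
      funext z
      rw [Pi.smul_apply, vec, vec, hv z c hc, hv z 1 (by norm_num), smul_eq_mul]
      split_ifs
      · show phi ω c = phi ω c * 1; rw [mul_one]
      · show (0 : F) = phi ω c * 0; rw [mul_zero]
    set v := (evalW (hWord k.val) idCols).getD 0 0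
    refine ⟨phi ω v, fun e => ?_, by rw [this, hvec v (by omega)]⟩
    have := h.phi_inj v (by omega) 0 (by norm_num) (e.trans rfl)
    omega
  | one => exact ⟨1, one_ne_zero, by rw [Units.val_one, Matrix.one_mulVec, one_smul]⟩
  | mul x y _ _ hx hy => exact Fixes.mul h hx hy
  | inv x _ hx => exact Fixes.inv h hx

theorem hGrp_le : h.hGrp ≤ threeJ3 F ω :=
  (Subgroup.closure_le _).2 (by rintro _ ⟨k, rfl⟩; exact h.wordGL_mem _)

theorem basis_stable {m : GL F9 F} (hm : m ∈ h.mGrp) : ∀ v ∈ basisLines,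
    ∃ u ∈ basisLines, ∃ a : F, a ≠ 0 ∧ (m : Matrix F9 F9 F) *ᵥ vec ω v = a • vec ω u := by
  rw [mGrp, ← Subgroup.mem_toSubmonoid, Subgroup.closure_toSubmonoid_of_finite] at hm
  induction hm using Submonoid.closure_induction_left with
  | one => exact fun v hv => ⟨v, hv, 1, one_ne_zero, by rw [Units.val_one, Matrix.one_mulVec, one_smul]⟩
  | mul_left s hs y _ ih =>
    obtain ⟨i, rfl⟩ := hs
    intro v hv
    obtain ⟨u, hu, a, ha, e⟩ := ih v hv
    have hchk : ∀ i : Fin 3, ∀ u ∈ basisLines, nrmC (ap (tab i.val) u) ∈ basisLines := by decide +kernel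
    have hul : u < 4 ^ 9 := (show ∀ u ∈ basisLines, u < 4 ^ 9 by decide) u hu
    obtain ⟨-, b, hb, eb⟩ := h.nrmC_spec (ap_lt (tab_small i.val (by omega)) hul)
    refine ⟨_, hchk i u hu, a * b⁻¹, mul_ne_zero ha (inv_ne_zero hb), ?_⟩
    rw [Units.val_mul, ← Matrix.mulVec_mulVec, e, Matrix.mulVec_smul, h.gl_val (by omega), eb,
      ← h.vec_ap (small_gLit i.val (by omega)) (tabOk i.val (by omega)) hul, smul_smul,
      mul_assoc, inv_mul_cancel₀ hb, mul_one]

theorem fixer_mem {g : GL F9 F} (hg : g ∈ threeJ3 F ω) (hfix : h.Fixes g) : g ∈ h.hGrp := by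
  obtain ⟨m, hm, r, hr, x, hx, rfl⟩ := h.decomp hg
  have hmr : h.Fixes (m * h.wordGL (rW r)) := by
    have := Fixes.mul h hfix (Fixes.inv h (h.hGrp_fixes hx))
    rwa [mul_inv_cancel_right] at this
  refine mul_mem ?_ hx
  -- the representative lies on the orbit of the basis lines
  have hr0 : r = 0 := by
    have hone : (1 : ℕ) ∈ basisLines := by decide
    obtain ⟨u, hu, a, ha, e⟩ := h.basis_stable (inv_mem hm) 1 hone
    obtain ⟨b, hb, eb⟩ := hmr
    have hrep := h.rep_eval (rep_one ω) (small_words.2.2.2.1 r)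
    rw [mul_one] at hrep
    have h1 := h.rep_first hrep
    have hnn : ∀ r < 20, nrmC ((evalW (rW r) idCols).getD 0 0) ∈ basisLines → r = 0 := by decide +kernel
    refine hnn r hr ?_
    set v := (evalW (rW r) idCols).getD 0 0
    have hvl : v < 4 ^ 9 := by
      have hlen : 0 < (evalW (rW r) idCols).length := by rw [hrep.1]; norm_num
      have hg := hrep.2.1 _ (List.getElem_mem hlen)
      rwa [← List.getD_eq_getElem _ 0 hlen] at hg
    have hve : vec ω v = (b * a) • vec ω u := by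
      rw [← h1, mul_comm, ← smul_smul]
      have := congrArg (fun w => (↑m⁻¹ : Matrix F9 F9 F) *ᵥ w) eb
      simp only [Units.val_mul, Matrix.mulVec_mulVec, Matrix.mulVec_smul, ← mul_assoc, Units.inv_mul,
        one_mul, e] at this
      rw [this, smul_comm]
    obtain ⟨hnl, c, hc, ec⟩ := h.nrmC_spec hvl
    have hul : ∀ u ∈ basisLines, u < 4 ^ 9 ∧ isN u = true := by decide +kernel
    have hN : isN (nrmC v) = true := by
      have : ∀ r < 20, isN (nrmC ((evalW (rW r) idCols).getD 0 0)) = true := by decide +kernel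
      exact this r hr
    rw [h.eq_of_smul (hul u hu).1 hnl (hul u hu).2 hN (mul_ne_zero hc (mul_ne_zero hb ha))
      (by rw [ec, hve, smul_smul])]
    exact hu
  subst hr0
  rw [show rW 0 = [] from rfl, wordGL_nil, mul_one] at hmr ⊢
  obtain ⟨c, hc, a, ha, rfl⟩ := h.mem_mGrp.1 hm
  obtain ⟨b, hb, eb⟩ := hmr
  have hw : ∀ i ∈ kW c ++ tW a, i < 4 :=
    app_lt (word_lt_four (small_words.2.1 c)) (word_lt_four (small_words.2.2.1 a))
  have hrep := h.rep_eval (rep_one ω) hw
  rw [mul_one, h.wordGL_append] at hrep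
  have hn : 81 * c + a < 5832 := by omega
  have hfo := fix_all _ hn
  simp only [fixOk, fce_eq, show (81 * c + a) / 81 = c by omega, show (81 * c + a) % 81 = a by omega] at hfo
  have hone : (evalW (kW c ++ tW a) [1]).getD 0 0 = (evalW (kW c ++ tW a) idCols).getD 0 0 := by
    have : ∀ w : List ℕ, ∀ x : ℕ, ∀ l : List ℕ, (evalW w (x :: l)).getD 0 0 = (evalW w [x]).getD 0 0 := by
      intro w
      have key : ∀ x : ℕ, ∀ l : List ℕ, ∃ y, ∀ l', (∃ t, evalW w (x :: l') = y :: t) := by
        induction w with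
        | nil => exact fun x l => ⟨x, fun l' => ⟨l', rfl⟩⟩
        | cons i w ih =>
          intro x l
          obtain ⟨y, hy⟩ := ih x l
          refine ⟨fce y fun v => ap (tab i) v, fun l' => ?_⟩
          obtain ⟨t, ht⟩ := hy l'
          exact ⟨_, by rw [evalW, ht, mapAp]⟩
      intro x l
      obtain ⟨y, hy⟩ := key x l
      obtain ⟨t, ht⟩ := hy l
      obtain ⟨t', ht'⟩ := hy []
      rw [ht, ht']; rfl
    exact (this _ 1 _).symm
  rw [hone] at hfo
  set v := (evalW (kW c ++ tW a) idCols).getD 0 0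
  have hev : vec ω v = b • vec ω 1 := (h.rep_first hrep).symm.trans eb
  have hv4 : v < 4 := by
    have hvl : v < 4 ^ 9 := by
      have hlen : 0 < (evalW (kW c ++ tW a) idCols).length := by rw [hrep.1]; norm_num
      have hg := hrep.2.1 _ (List.getElem_mem hlen)
      rwa [← List.getD_eq_getElem _ 0 hlen] at hg
    refine lt_of_dig_zero (t := 1) hvl (fun i hi1 hi9 => ?_) (by norm_num)
    rw [← idx_unidx i hi9, ← h.dig_ne_iff, hev, Pi.smul_apply, smul_eq_mul,
      (h.dig_ne_iff 1 (unidx i)).2 (by rw [idx_unidx i hi9, dig, Nat.div_eq_of_lt]; exact Nat.one_lt_pow (by omega) (by norm_num)),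
      mul_zero]
  rw [show Nat.blt v 4 = true from Nat.blt_eq ▸ hv4, cond_true, Bool.and_eq_true, Nat.blt_eq] at hfo
  obtain ⟨u, hu, hur⟩ := h.exists_hGrp _ hfo.1
  rw [← beqL_eq hfo.2] at hur
  rwa [hrep.ext hur]

theorem card_threeJ3 : Nat.card (threeJ3 F ω) = 150698880 := by
  classical
  have hmov : ∀ n : {n // n ∈ orbCodes}, ∃ g ∈ threeJ3 F ω, ∃ a : F, a ≠ 0 ∧
      vec ω n.1 = a • ((g : Matrix F9 F9 F) *ᵥ vec ω 1) := fun n => by
    obtain ⟨h1, h2, h3, h4⟩ := mem_orbCodes.1 n.2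
    exact h.exists_mover n.1 h1 h2 h3 h4
  choose t ht a ha hta using hmov
  have hbij : Function.Bijective (fun p : {n // n ∈ orbCodes} × h.hGrp =>
      (⟨t p.1 * p.2.1, mul_mem (ht p.1) (h.hGrp_le p.2.2)⟩ : threeJ3 F ω)) := by
    refine ⟨fun p q e => ?_, fun g => ?_⟩
    · have e' : t p.1 * p.2.1 = t q.1 * q.2.1 := congrArg Subtype.val e
      obtain ⟨x, hx, ex⟩ := h.hGrp_fixes p.2.2
      obtain ⟨y, hy, ey⟩ := h.hGrp_fixes q.2.2
      have e1 : x • ((t p.1 : Matrix F9 F9 F) *ᵥ vec ω 1) = y • ((t q.1 : Matrix F9 F9 F) *ᵥ vec ω 1) := by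
        rw [← Matrix.mulVec_smul, ← ex, ← Matrix.mulVec_smul, ← ey, Matrix.mulVec_mulVec,
          Matrix.mulVec_mulVec, ← Units.val_mul, ← Units.val_mul, e']
      obtain ⟨p1, p2, -⟩ := mem_orbCodes.1 p.1.2
      obtain ⟨q1, q2, -⟩ := mem_orbCodes.1 q.1.2
      have hpq : p.1.1 = q.1.1 := by
        refine h.eq_of_smul q1 p1 q2 p2 (a := a p.1 * x⁻¹ * (y * (a q.1)⁻¹))
          (mul_ne_zero (mul_ne_zero (ha _) (inv_ne_zero hx)) (mul_ne_zero hy (inv_ne_zero (ha _)))) ?_
        rw [hta q.1, smul_smul, show a p.1 * x⁻¹ * (y * (a q.1)⁻¹) * a q.1 = a p.1 * x⁻¹ * y by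
          rw [mul_assoc, mul_assoc y, inv_mul_cancel₀ (ha _), mul_one], ← smul_smul, ← e1, smul_smul,
          mul_assoc, inv_mul_cancel₀ hx, mul_one, hta p.1]
      have h1 : p.1 = q.1 := Subtype.ext hpq
      rw [h1] at e'
      exact Prod.ext h1 (Subtype.ext (mul_left_cancel e'))
    · obtain ⟨m, hm, c, hc, e⟩ := h.stable g.2 inS_one
      set n : {n // n ∈ orbCodes} := ⟨m, mem_orbCodes.2 hm⟩
      have hf : h.Fixes ((t n)⁻¹ * g.1) := by
        refine ⟨c * a n, mul_ne_zero hc (ha n), ?_⟩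
        rw [Units.val_mul, ← Matrix.mulVec_mulVec, e, hta n, smul_smul, Matrix.mulVec_smul,
          Matrix.mulVec_mulVec, Units.inv_mul, Matrix.one_mulVec]
      refine ⟨(n, ⟨_, h.fixer_mem (mul_mem (inv_mem (ht n)) g.2) hf⟩), ?_⟩
      exact Subtype.ext (mul_inv_cancel_left _ _)
  rw [← Nat.card_eq_of_bijective _ hbij, Nat.card_prod, h.card_hGrp,
    show Nat.card {n // n ∈ orbCodes} = 23256 by
      rw [Nat.card_eq_fintype_card, Fintype.card_of_subtype orbCodes.toFinset (fun x => List.mem_toFinset),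
        List.toFinset_card_of_nodup nodup_orbCodes, length_orbCodes]]

end Setup

end Cfsg.Agent.Lib.JankoThree
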