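import Cfsg.Agent.Lib.JankoThree.Order

/-! # Centre and simple quotient of `3·J₃` -/

set_option autoImplicit false
set_option maxRecDepth 100000

namespace Cfsg.Agent.Lib.JankoThree

open Cfsg.Spor Matrix

/-- A conjugate of the element of order nineteen, as a word. -/
def conjWord (x : List ℕ) : List ℕ := x ++ aWord ++ winv x

theorem expr_check : ∀ g < 4, beqL (evalW [g] idCols)
    (evalW (conjWord ((aExpr.getD g []).getD 0 []) ++ conjWord ((aExpr.getD g []).getD 1 [])) idCols) = true := by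
  decide +kernel

theorem aWord_check : beqL (evalW (List.replicate 19 aWord).flatten idCols) idCols = true ∧
    beqL (evalW aWord idCols) idCols = false := by decide +kernel

theorem scalWord_check : beqL (evalW scalWord idCols) [2, 8, 32, 128, 512, 2048, 8192, 32768, 131072] = true := by
  decide +kernel

theorem expr_small : ∀ g < 4, ∀ j < 2, smallW 4 ((aExpr.getD g []).getD j []) = true := by decide +kernel

theorem translation_lam : ∀ z w : F9, cLam (w - z) z ≠ 0 := by decide

theorem separation : ∀ z w : F9, z ≠ w → ∃ Z : F9, wPow (Z.1 * z.1 + Z.2 * z.2) ≠ wPow (Z.1 * w.1 + Z.2 * w.2) := by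
  decide +kernel

variable {F : Type*} [Field F] [Fintype F] {ω : F}

namespace Setup

variable (h : Setup ω)

include h

/-- Each kind of generator is a member of the group. -/
theorem exists_val {M : Matrix F9 F9 F} (hM : M ∈ j3Gens F ω) :
    ∃ g ∈ threeJ3 F ω, (g : Matrix F9 F9 F) = M := by
  obtain ⟨l, hl, rfl⟩ := h.mem_gens hM
  refine ⟨h.wordGL l, h.wordGL_mem l, ?_⟩
  clear hM
  induction l with
  | nil => rw [Setup.wordGL_nil, Units.val_one]; exact (toMat_cId ω).symm
  | cons i l ih =>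
    have hl' : ∀ j ∈ l, j < 4 := fun j hj => hl j (List.mem_cons_of_mem _ hj)
    have hi := hl i List.mem_cons_self
    rw [h.wordGL_cons, Units.val_mul, ih hl', h.gl_val hi]
    exact (h.toMat_mm (small_gLit i (by omega)) (small_wordLit hl')).symm

/-- A central element is a scalar. -/
theorem central_scalar {g : GL F9 F} (hc : ∀ x ∈ threeJ3 F ω, x * g = g * x) :
    ∃ c : F, c ≠ 0 ∧ (g : Matrix F9 F9 F) = c • (1 : Matrix F9 F9 F) := by
  classical
  have hcomm : ∀ M ∈ j3Gens F ω, M * (g : Matrix F9 F9 F) = (g : Matrix F9 F9 F) * M := fun M hM => by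
    obtain ⟨x, hx, rfl⟩ := h.exists_val hM
    rw [← Units.val_mul, ← Units.val_mul, hc x hx]
  have hdiag : ∀ z w : F9, z ≠ w → (g : Matrix F9 F9 F) z w = 0 := by
    intro z w hzw
    obtain ⟨Z, hZ⟩ := separation z w hzw
    have := congrFun (congrFun (hcomm _ (Or.inl (Or.inl (Or.inl (Or.inl ⟨Z, rfl⟩))))) z) w
    rw [j3A, Matrix.diagonal_mul, Matrix.mul_diagonal, mul_comm ((g : Matrix F9 F9 F) z w)] at this
    by_contra hne
    rw [mul_left_inj' hne, ← phi_wPow, ← phi_wPow] at this
    have hw4 : ∀ n : ZMod 3, wPow n < 4 := fun n => by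
      have := ZMod.val_lt n; unfold wPow; omega
    exact hZ (h.phi_inj _ (hw4 _) _ (hw4 _) this)
  have hconst : ∀ z w : F9, (g : Matrix F9 F9 F) w w = (g : Matrix F9 F9 F) z z := by
    intro z w
    have := congrFun (congrFun (hcomm _ (Or.inl (Or.inl (Or.inr ⟨w - z, rfl⟩)))) w) z
    rw [Matrix.mul_apply, Matrix.mul_apply, Finset.sum_eq_single z (fun t _ ht => by rw [hdiag t z ht, mul_zero])
      (by simp), Finset.sum_eq_single w (fun t _ ht => by rw [hdiag w t (Ne.symm ht), zero_mul]) (by simp)] at this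
    simp only [j3D, Matrix.of_apply, if_pos (add_sub_cancel z w).symm] at this
    have hlam : j3Lam F ω (w - z) z ≠ 0 := by
      have hl := translation_lam z w
      have e : j3Lam F ω (w - z) z = phi ω (cLam (w - z) z) := by
        simp only [cLam, j3Lam]; split_ifs <;> simp [phi]
      have hlt : cLam (w - z) z < 4 := by unfold cLam; split_ifs <;> norm_num
      exact e ▸ fun e0 => hl (h.phi_inj _ hlt 0 (by norm_num) e0)
    rw [mul_comm] at this
    exact (mul_right_cancel₀ hlam this).symm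
  refine ⟨(g : Matrix F9 F9 F) 0 0, fun e => ?_, ?_⟩
  · have h0 : (g : Matrix F9 F9 F) = 0 := by
      ext z w
      by_cases hzw : z = w
      · subst hzw; rw [hconst 0 z, e]; rfl
      · exact hdiag z w hzw
    have := g.mul_inv
    rw [h0, zero_mul] at this
    exact zero_ne_one (congrFun (congrFun this 0) 0)
  · ext z w
    rw [Matrix.smul_apply, Matrix.one_apply, smul_eq_mul]
    split_ifs with hzw
    · subst hzw; rw [mul_one, hconst 0 z]
    · rw [mul_zero, hdiag z w hzw]

theorem exists_scalar : ∃ g ∈ threeJ3 F ω, (g : Matrix F9 F9 F) = ω • (1 : Matrix F9 F9 F) := by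
  have hw : ∀ i ∈ scalWord, i < 4 := by decide
  refine ⟨h.wordGL scalWord, h.wordGL_mem _, ?_⟩
  have hr := h.rep_eval (rep_one ω) hw
  rw [mul_one, beqL_eq scalWord_check] at hr
  have hd : ∀ z w : F9, dig (idx w) ([2, 8, 32, 128, 512, 2048, 8192, 32768, 131072].getD (idx z) 0) =
      if w = z then 2 else 0 := by decide +kernel
  ext w z
  have := congrFun (hr.2.2 z) w
  rw [Matrix.mulVec_single, vec, hd] at this
  simp only [MulOpposite.op_one, one_smul, Matrix.col_apply] at this
  rw [this, Matrix.smul_apply, Matrix.one_apply, smul_eq_mul]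
  split_ifs
  · rw [mul_one]; rfl
  · rw [mul_zero]; rfl

theorem card_center : Nat.card (Subgroup.center (threeJ3 F ω)) = 3 := by
  classical
  obtain ⟨s, hs, hsv⟩ := h.exists_scalar
  have hcs : (⟨s, hs⟩ : threeJ3 F ω) ∈ Subgroup.center (threeJ3 F ω) := Subgroup.mem_center_iff.2 fun x => by
    apply Subtype.ext; apply Units.ext
    show (x.1 : Matrix F9 F9 F) * (s : Matrix F9 F9 F) = (s : Matrix F9 F9 F) * x.1
    rw [hsv]; simp
  set t : Subgroup.center (threeJ3 F ω) := ⟨_, hcs⟩ with htdef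
  have hval : ∀ k : ℕ, (((t ^ k).1.1 : GL F9 F) : Matrix F9 F9 F) = ω ^ k • (1 : Matrix F9 F9 F) := by
    intro k
    induction k with
    | zero => simp
    | succ k ih =>
      rw [pow_succ, Subgroup.coe_mul, Subgroup.coe_mul, Units.val_mul, ih]
      show _ * (s : Matrix F9 F9 F) = _
      rw [hsv, smul_mul_smul_comm, mul_one, pow_succ]
  have hbij : Function.Bijective fun k : Fin 3 => t ^ k.val := by
    refine ⟨fun i j e => ?_, fun x => ?_⟩
    · have := congrArg (fun y : Subgroup.center (threeJ3 F ω) => ((y.1.1 : GL F9 F) : Matrix F9 F9 F) 0 0) e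
      simp only [hval, Matrix.smul_apply, Matrix.one_apply_eq, smul_eq_mul, mul_one] at this
      have h1 := h.omega_ne_one
      have h2 := h.omega_sq_ne_one
      have h3 := h.omega_sq_ne
      fin_cases i <;> fin_cases j <;> first
        | rfl
        | exact absurd this (by simp [h1, h2, h3, h1.symm, h2.symm, h3.symm])
    · obtain ⟨c, hc, e⟩ := h.central_scalar (g := x.1.1) fun y hy =>
        congrArg Subtype.val (Subgroup.mem_center_iff.1 x.2 ⟨y, hy⟩)
      obtain ⟨n, hn, rfl⟩ := h.phi_surj c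
      interval_cases n
      · exact absurd rfl hc
      all_goals refine ⟨?_, Subtype.ext (Subtype.ext (Units.ext ?_))⟩
      · exact 0
      · rw [hval, e]; simp [phi]
      · exact 1
      · rw [hval, e]; simp [phi]
      · exact 2
      · rw [hval, e]; simp [phi]
  exact (Nat.card_eq_of_bijective _ hbij).symm.trans (Nat.card_fin 3)

theorem card_quot : Nat.card (J3 F ω) = 50232960 := by
  have := Subgroup.card_eq_card_quotient_mul_card_subgroup (Subgroup.center (threeJ3 F ω))
  rw [h.card_threeJ3, h.card_center] at this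
  show Nat.card (threeJ3 F ω ⧸ Subgroup.center (threeJ3 F ω)) = _
  omega

/-- The element of order nineteen. -/
noncomputable def elA : threeJ3 F ω := ⟨h.wordGL aWord, h.wordGL_mem _⟩

omit h in
theorem elA_facts (h : Setup ω) : orderOf h.elA = 19 ∧
    ∀ g : Fin 4, ∃ x y : threeJ3 F ω,
      (⟨h.gl g.val, h.gl_mem _⟩ : threeJ3 F ω) = (x * h.elA * x⁻¹) * (y * h.elA * y⁻¹) := by
  have ha : ∀ i ∈ aWord, i < 4 := by decide
  have h19 : h.wordGL aWord ^ 19 = 1 := by
    have hs : ∀ i ∈ (List.replicate 19 aWord).flatten, i < 4 := fun i hi => by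
      obtain ⟨l, hl, hil⟩ := List.mem_flatten.1 hi
      rw [List.eq_of_mem_replicate hl] at hil
      exact ha i hil
    have e := h.word_eq (u := []) hs (by simp) aWord_check.1
    rw [Setup.wordGL_nil, Setup.wordGL, List.map_flatten, List.prod_flatten, List.map_replicate,
      List.map_replicate, List.prod_replicate] at e
    exact e
  have hne : h.wordGL aWord ≠ 1 := fun e => by
    have h1 := h.rep_eval (rep_one ω) ha
    rw [e, one_mul] at h1
    have he := Rep.unique h h1 (rep_one ω)
    have h2 := aWord_check.2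
    rw [he] at h2
    exact absurd (show beqL idCols idCols = true by decide +kernel) (by rw [h2]; simp)
  refine ⟨?_, fun g => ?_⟩
  · haveI : Fact (Nat.Prime 19) := ⟨by norm_num⟩
    rw [elA, Subgroup.orderOf_mk]
    exact orderOf_eq_prime h19 hne
  · have hx := fun j hj => smallW_spec (expr_small g.val g.2 j hj)
    set x := (aExpr.getD g.val []).getD 0 []
    set y := (aExpr.getD g.val []).getD 1 []
    obtain ⟨ex, hxw⟩ := h.wordGL_winv (hx 0 (by norm_num))
    obtain ⟨ey, hyw⟩ := h.wordGL_winv (hx 1 (by norm_num))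
    refine ⟨⟨h.wordGL x, h.wordGL_mem _⟩, ⟨h.wordGL y, h.wordGL_mem _⟩, Subtype.ext ?_⟩
    have e := h.word_eq (w := [g.val]) (fun i hi => by rw [List.mem_singleton.1 hi]; exact g.2)
      (app_lt (app_lt (app_lt (hx 0 (by norm_num)) ha) hxw) (app_lt (app_lt (hx 1 (by norm_num)) ha) hyw))
      (expr_check g.val g.2)
    simp only [conjWord, h.wordGL_append, ex, ey] at e
    rw [show h.wordGL [g.val] = h.gl g.val by simp [Setup.wordGL]] at e
    exact e

/-- Only the whole group contains the element of order nineteen and is normal. -/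
theorem eq_top_of_elA {N : Subgroup (threeJ3 F ω)} (hN : N.Normal) (ha : h.elA ∈ N) : N = ⊤ := by
  refine eq_top_iff.2 fun g _ => ?_
  have hle : threeJ3 F ω ≤ N.map (threeJ3 F ω).subtype := by
    refine le_of_eq_of_le h.closure_gl ((Subgroup.closure_le _).2 ?_)
    rintro _ ⟨i, rfl⟩
    obtain ⟨x, y, e⟩ := (elA_facts h).2 i
    exact ⟨_, e ▸ mul_mem (hN.conj_mem _ ha x) (hN.conj_mem _ ha y), rfl⟩
  obtain ⟨n, hn, e⟩ := hle g.2
  rwa [← Subtype.ext (show (n : GL F9 F) = g from e)]

omit h in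
theorem no_small_pow {p k : ℕ} (hpk : (p = 2 ∧ k ≤ 7) ∨ (p = 3 ∧ k ≤ 6) ∨ (p = 5 ∧ k ≤ 1) ∨ (p = 17 ∧ k ≤ 1))
    {i : ℕ} (hi : i ≤ k) (e : p ^ k % 19 = p ^ i % 19) : i = k := by
  rcases hpk with ⟨rfl, hk⟩ | ⟨rfl, hk⟩ | ⟨rfl, hk⟩ | ⟨rfl, hk⟩ <;> interval_cases k <;>
    interval_cases i <;> first | rfl | (norm_num at e)

set_option synthInstance.maxHeartbeats 400000 in
theorem normal_le_center {N : Subgroup (threeJ3 F ω)} (hN : N.Normal) (ha : h.elA ∉ N) :
    N ≤ Subgroup.center (threeJ3 F ω) := by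
  classical
  haveI := hN
  haveI h19 : Fact (Nat.Prime 19) := ⟨by norm_num⟩
  have hord := (elA_facts h).1
  set A := Subgroup.zpowers h.elA with hA
  have hcA : Nat.card A = 19 := by rw [hA, Nat.card_zpowers, hord]
  have hA19 : IsPGroup 19 A := IsPGroup.of_card (n := 1) (by rw [hcA, pow_one])
  have hdvdG : Nat.card N ∣ 150698880 := h.card_threeJ3 ▸ Subgroup.card_subgroup_dvd_card N
  have hN19 : ¬ 19 ∣ Nat.card N := by
    intro h19N
    obtain ⟨b, hb⟩ := exists_prime_orderOf_dvd_card' 19 h19N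
    have hb' : orderOf (b : (threeJ3 F ω)) = 19 := by rwa [Subgroup.orderOf_coe]
    obtain ⟨S, hS⟩ := (IsPGroup.of_card (n := 1) (show Nat.card A = 19 ^ 1 by rw [hcA, pow_one])).exists_le_sylow
    obtain ⟨T, hT⟩ := (IsPGroup.of_card (n := 1) (show Nat.card (Subgroup.zpowers (b : (threeJ3 F ω))) = 19 ^ 1 by
      rw [Nat.card_zpowers, hb', pow_one])).exists_le_sylow
    obtain ⟨g, hg⟩ := MulAction.exists_smul_eq (threeJ3 F ω) T S
    have hTcard : Nat.card (T : Subgroup (threeJ3 F ω)) = 19 := by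
      rw [T.card_eq_multiplicity, h.card_threeJ3, Nat.factorization_def _ (by norm_num),
        show (150698880 : ℕ) = 19 ^ 1 * 7931520 by norm_num,
        padicValNat.mul (by norm_num) (by norm_num), padicValNat.prime_pow,
        padicValNat.eq_zero_of_not_dvd (by norm_num), add_zero, pow_one]
    have hTeq : Subgroup.zpowers (b : (threeJ3 F ω)) = (T : Subgroup (threeJ3 F ω)) :=
      Subgroup.eq_of_le_of_card_ge hT (by rw [hTcard, Nat.card_zpowers, hb'])
    have hTN : (T : Subgroup (threeJ3 F ω)) ≤ N := hTeq ▸ Subgroup.zpowers_le.2 b.2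
    refine ha ?_
    have hmem : h.elA ∈ (S : Subgroup (threeJ3 F ω)) := hS (Subgroup.mem_zpowers _)
    rw [← hg, Sylow.coe_subgroup_smul] at hmem
    obtain ⟨t, ht, e⟩ := hmem
    rw [← e]
    exact hN.conj_mem t (hTN ht) g
  have key : ∀ p : ℕ, p.Prime → p ∣ Nat.card N → ∃ P : Sylow p N, ∀ x ∈ (P : Subgroup N), Commute h.elA (x : (threeJ3 F ω)) := by
    intro p hp hpN
    haveI : Fact p.Prime := ⟨hp⟩
    letI : MulDistribMulAction A N := MulDistribMulAction.compHom N
      ((MulAut.conjNormal (H := N)).comp A.subtype)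
    have hsmul : ∀ (a : A) (n : N), ((a • n : N) : (threeJ3 F ω)) = (a : (threeJ3 F ω)) * n * (a : (threeJ3 F ω))⁻¹ := fun a n => rfl
    haveI : Fintype (Sylow p N) := Fintype.ofFinite _
    obtain ⟨P, hP⟩ := hA19.nonempty_fixed_point_of_prime_not_dvd_card (Sylow p N)
      (fun hd => hN19 (hd.trans ((Sylow.card_dvd_index (default : Sylow p N)).trans (Subgroup.index_dvd_card _))))
    refine ⟨P, ?_⟩
    have hstab : ∀ a : A, ∀ x ∈ (P : Subgroup N), a • x ∈ (P : Subgroup N) := fun a x hx => by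
      have e := congrArg (fun Q : Sylow p N => (Q : Subgroup N)) (hP a)
      rw [← e]
      exact Subgroup.smul_mem_pointwise_smul x a _ hx
    let SA : SubMulAction A N :=
      { carrier := ((P : Subgroup N) : Set N), smul_mem' := fun a x hx => hstab a x hx }
    have hmod := hA19.card_modEq_card_fixedPoints SA
    let C : Subgroup N :=
      { carrier := {x | x ∈ (P : Subgroup N) ∧ ∀ a : A, a • x = x}
        one_mem' := ⟨one_mem _, fun a => smul_one a⟩
        mul_mem' := fun hx hy => ⟨mul_mem hx.1 hy.1, fun a => by rw [smul_mul', hx.2 a, hy.2 a]⟩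
        inv_mem' := fun hx => ⟨inv_mem hx.1, fun a => by rw [smul_inv', hx.2 a]⟩ }
    have hfix : Nat.card (MulAction.fixedPoints A SA) = Nat.card C :=
      Nat.card_congr
        { toFun := fun x => ⟨x.1.1, x.1.2, fun a => congrArg Subtype.val (x.2 a)⟩
          invFun := fun x => ⟨⟨x.1, x.2.1⟩, fun a => Subtype.ext (x.2.2 a)⟩
          left_inv := fun x => rfl
          right_inv := fun x => rfl }
    rw [hfix, show Nat.card SA = Nat.card (P : Subgroup N) from rfl] at hmod
    obtain ⟨k, hk⟩ := IsPGroup.iff_card.1 P.2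
    have hCP : C ≤ (P : Subgroup N) := fun x hx => hx.1
    obtain ⟨i, hi, hCi⟩ := (Nat.dvd_prime_pow hp).1 (hk ▸ Subgroup.card_dvd_of_le hCP)
    have hpk : p ^ k ∣ 150698880 := hk ▸ ((Subgroup.card_subgroup_dvd_card _).trans hdvdG)
    have hcases : (p = 2 ∧ k ≤ 7) ∨ (p = 3 ∧ k ≤ 6) ∨ (p = 5 ∧ k ≤ 1) ∨ (p = 17 ∧ k ≤ 1) := by
      have hmem : p ∈ (150698880 : ℕ).primeFactors :=
        Nat.mem_primeFactors.2 ⟨hp, hpN.trans hdvdG, by norm_num⟩
      have hbound : ∀ m : ℕ, ¬ p ^ m ∣ 150698880 → k < m := fun m hm => by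
        by_contra hc
        exact hm ((pow_dvd_pow p (not_lt.1 hc)).trans hpk)
      have hpf : (150698880 : ℕ).primeFactors ⊆ {2, 3, 5, 17, 19} := by
        intro q hq
        obtain ⟨hq1, hq2, -⟩ := Nat.mem_primeFactors.1 hq
        rw [show (150698880 : ℕ) = 2 ^ 7 * 3 ^ 6 * 5 * 17 * 19 by norm_num] at hq2
        simp only [Finset.mem_insert, Finset.mem_singleton]
        rcases (Nat.Prime.dvd_mul hq1).1 hq2 with hq3 | hq3
        · rcases (Nat.Prime.dvd_mul hq1).1 hq3 with hq4 | hq4
          · rcases (Nat.Prime.dvd_mul hq1).1 hq4 with hq5 | hq5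
            · rcases (Nat.Prime.dvd_mul hq1).1 hq5 with hq6 | hq6
              · exact Or.inl ((Nat.prime_dvd_prime_iff_eq hq1 Nat.prime_two).1 (hq1.dvd_of_dvd_pow hq6))
              · exact Or.inr (Or.inl ((Nat.prime_dvd_prime_iff_eq hq1 Nat.prime_three).1 (hq1.dvd_of_dvd_pow hq6)))
            · exact Or.inr (Or.inr (Or.inl ((Nat.prime_dvd_prime_iff_eq hq1 Nat.prime_five).1 hq5)))
          · exact Or.inr (Or.inr (Or.inr (Or.inl ((Nat.prime_dvd_prime_iff_eq hq1 (by norm_num)).1 hq4))))
        · exact Or.inr (Or.inr (Or.inr (Or.inr ((Nat.prime_dvd_prime_iff_eq hq1 (by norm_num)).1 hq3))))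
      have hmem' := hpf hmem
      simp only [Finset.mem_insert, Finset.mem_singleton] at hmem'
      rcases hmem' with rfl | rfl | rfl | rfl | rfl
      · exact Or.inl ⟨rfl, Nat.lt_succ_iff.1 (hbound 8 (by norm_num))⟩
      · exact Or.inr (Or.inl ⟨rfl, Nat.lt_succ_iff.1 (hbound 7 (by norm_num))⟩)
      · exact Or.inr (Or.inr (Or.inl ⟨rfl, Nat.lt_succ_iff.1 (hbound 2 (by norm_num))⟩))
      · exact Or.inr (Or.inr (Or.inr ⟨rfl, Nat.lt_succ_iff.1 (hbound 2 (by norm_num))⟩))
      · exact absurd hpN hN19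
    rw [hk, hCi] at hmod
    have hik := no_small_pow hcases hi hmod
    have hCeq : C = (P : Subgroup N) := Subgroup.eq_of_le_of_card_ge hCP (by rw [hk, hCi, hik])
    intro x hx
    rw [← hCeq] at hx
    have := congrArg Subtype.val (hx.2 ⟨h.elA, Subgroup.mem_zpowers _⟩)
    rw [hsmul] at this
    exact mul_inv_eq_iff_eq_mul.1 this
  let CA : Subgroup N := (Subgroup.centralizer ({h.elA} : Set (threeJ3 F ω))).subgroupOf N
  have hCA : CA = ⊤ := by
    refine Subgroup.index_eq_one.1 (Nat.eq_one_iff_not_exists_prime_dvd.2 fun p hp hpd => ?_)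
    haveI : Fact p.Prime := ⟨hp⟩
    obtain ⟨P, hP⟩ := key p hp (hpd.trans (Subgroup.index_dvd_card _))
    have hPC : (P : Subgroup N) ≤ CA := fun x hx => by
      rw [Subgroup.mem_subgroupOf, Subgroup.mem_centralizer_singleton_iff]
      exact (hP x hx).symm
    exact P.not_dvd_index (hpd.trans (Subgroup.index_dvd_of_le hPC))
  intro n hn
  let K : Subgroup (threeJ3 F ω) := Subgroup.centralizer (N : Set (threeJ3 F ω))
  have haK : h.elA ∈ K := fun m hm => by
    have : (⟨m, hm⟩ : N) ∈ CA := hCA ▸ Subgroup.mem_top _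
    rw [Subgroup.mem_subgroupOf, Subgroup.mem_centralizer_singleton_iff] at this
    exact this
  haveI : K.Normal := Subgroup.normal_centralizer
  have hKtop := h.eq_top_of_elA (N := K) inferInstance haK
  exact Subgroup.mem_center_iff.2 fun g => ((hKtop ▸ Subgroup.mem_top g : g ∈ K) n hn).symm

theorem isSimple_J3 : IsSimpleGroup (J3 F ω) := by
  haveI : Nontrivial (J3 F ω) := Finite.one_lt_card_iff_nontrivial.1 (by rw [h.card_quot]; norm_num)
  refine ⟨fun H hH => ?_⟩
  set π := QuotientGroup.mk' (Subgroup.center (threeJ3 F ω))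
  have hN : (H.comap π).Normal := hH.comap π
  by_cases ha : h.elA ∈ H.comap π
  · right
    rw [← Subgroup.map_comap_eq_self_of_surjective (QuotientGroup.mk'_surjective _) H,
      h.eq_top_of_elA hN ha, Subgroup.map_top_of_surjective _ (QuotientGroup.mk'_surjective _)]
  · left
    refine le_bot_iff.1 fun x hx => ?_
    obtain ⟨g, rfl⟩ := QuotientGroup.mk'_surjective _ x
    rw [Subgroup.mem_bot, QuotientGroup.mk'_apply, QuotientGroup.eq_one_iff]
    exact h.normal_le_center hN ha hx

end Setup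

end Cfsg.Agent.Lib.JankoThree
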