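import Cfsg.Agent.Lib.JankoThree.Defs

/-! # Tables of the six linear maps (data) -/

set_option autoImplicit false
set_option maxRecDepth 100000

namespace Cfsg.Agent.Lib.JankoThree

local notation "L" => Tr.leaf
local notation "N" => Tr.node

def tabLo0 : Tr :=
  (N (N (N (N (N (N (N (N (N (L 0) (L 16)) (N (L 512) (L 528))) (N (N (L 256) (L 272)) (N (L 768) (L 784)))) (N (N (N (L 2048) (L 2064)) (N (L 2560) (L 2576))) (N (N (L 2304) (L 2320)) (N (L 2816) (L 2832))))) (N (N (N (N (L 1024) (L 1040)) (N (L 1536) (L 1552))) (N (N (L 1280) (L 1296)) (N (L 1792) (L 1808)))) (N (N (N (L 3072) (L 3088)) (N (L 3584) (L 3600))) (N (N (L 3328) (L 3344)) (N (L 3840) (L 3856)))))) (N (N (N (N (N (L 32768) (L 32784)) (N (L 33280) (L 33296))) (N (N (L 33024) (L 33040)) (N (L 33536) (L 33552)))) (N (N (N (L 34816) (L 34832)) (N (L 35328) (L 35344))) (N (N (L 35072) (L 35088)) (N (L 35584) (L 35600))))) (N (N (N (N (L 33792) (L 33808)) (N (L 34304) (L 34320))) (N (N (L 34048)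 (L 34064)) (N (L 34560) (L 34576)))) (N (N (N (L 35840) (L 35856)) (N (L 36352) (L 36368))) (N (N (L 36096) (L 36112)) (N (L 36608) (L 36624))))))) (N (N (N (N (N (N (L 16384) (L 16400)) (N (L 16896) (L 16912))) (N (N (L 16640) (L 16656)) (N (L 17152) (L 17168)))) (N (N (N (L 18432) (L 18448)) (N (L 18944) (L 18960))) (N (N (L 18688) (L 18704)) (N (L 19200) (L 19216))))) (N (N (N (N (L 17408) (L 17424)) (N (L 17920) (L 17936))) (N (N (L 17664) (L 17680)) (N (L 18176) (L 18192)))) (N (N (N (L 19456) (L 19472)) (N (L 19968) (L 19984))) (N (N (L 19712) (L 19728)) (N (L 20224) (L 20240)))))) (N (N (N (N (N (L 49152) (L 49168)) (N (L 49664) (L 49680))) (N (N (L 49408) (L 49424)) (N (L 49920) (L 49936)))) (N (N (N (L 51200) (L 51216)) (N (L 51712) (L 51728))) (N (N (L 51456) (L 51472)) (N (L 51968) (L 51984))))) (N (N (N (N (L 50176) (L 50192)) (N (L 50688) (L 50704))) (N (N (L 50432) (L 50448)) (N (L 50944) (L 50960)))) (N (N (N (L 52224) (L 52240)) (N (L 52736)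 (L 52752))) (N (N (L 52480) (L 52496)) (N (L 52992) (L 53008)))))))) (N (N (N (N (N (N (N (L 2) (L 18)) (N (L 514) (L 530))) (N (N (L 258) (L 274)) (N (L 770) (L 786)))) (N (N (N (L 2050) (L 2066)) (N (L 2562) (L 2578))) (N (N (L 2306) (L 2322)) (N (L 2818) (L 2834))))) (N (N (N (N (L 1026) (L 1042)) (N (L 1538) (L 1554))) (N (N (L 1282) (L 1298)) (N (L 1794) (L 1810)))) (N (N (N (L 3074) (L 3090)) (N (L 3586) (L 3602))) (N (N (L 3330) (L 3346)) (N (L 3842) (L 3858)))))) (N (N (N (N (N (L 32770) (L 32786)) (N (L 33282) (L 33298))) (N (N (L 33026) (L 33042)) (N (L 33538) (L 33554)))) (N (N (N (L 34818) (L 34834)) (N (L 35330) (L 35346))) (N (N (L 35074) (L 35090)) (N (L 35586) (L 35602))))) (N (N (N (N (L 33794) (L 33810)) (N (L 34306) (L 34322))) (N (N (L 34050) (L 34066)) (N (L 34562) (L 34578)))) (N (N (N (L 35842) (L 35858)) (N (L 36354) (L 36370))) (N (N (L 36098) (L 36114)) (N (L 36610) (L 36626))))))) (N (N (N (N (N (N (L 16386) (L 16402)) (N (L 16898)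 (L 16914))) (N (N (L 16642) (L 16658)) (N (L 17154) (L 17170)))) (N (N (N (L 18434) (L 18450)) (N (L 18946) (L 18962))) (N (N (L 18690) (L 18706)) (N (L 19202) (L 19218))))) (N (N (N (N (L 17410) (L 17426)) (N (L 17922) (L 17938))) (N (N (L 17666) (L 17682)) (N (L 18178) (L 18194)))) (N (N (N (L 19458) (L 19474)) (N (L 19970) (L 19986))) (N (N (L 19714) (L 19730)) (N (L 20226) (L 20242)))))) (N (N (N (N (N (L 49154) (L 49170)) (N (L 49666) (L 49682))) (N (N (L 49410) (L 49426)) (N (L 49922) (L 49938)))) (N (N (N (L 51202) (L 51218)) (N (L 51714) (L 51730))) (N (N (L 51458) (L 51474)) (N (L 51970) (L 51986))))) (N (N (N (N (L 50178) (L 50194)) (N (L 50690) (L 50706))) (N (N (L 50434) (L 50450)) (N (L 50946) (L 50962)))) (N (N (N (L 52226) (L 52242)) (N (L 52738) (L 52754))) (N (N (L 52482) (L 52498)) (N (L 52994) (L 53010))))))))) (N (N (N (N (N (N (N (N (L 1) (L 17)) (N (L 513) (L 529))) (N (N (L 257) (L 273)) (N (L 769) (L 785)))) (N (N (N (L 2049) (L 2065))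 (N (L 2561) (L 2577))) (N (N (L 2305) (L 2321)) (N (L 2817) (L 2833))))) (N (N (N (N (L 1025) (L 1041)) (N (L 1537) (L 1553))) (N (N (L 1281) (L 1297)) (N (L 1793) (L 1809)))) (N (N (N (L 3073) (L 3089)) (N (L 3585) (L 3601))) (N (N (L 3329) (L 3345)) (N (L 3841) (L 3857)))))) (N (N (N (N (N (L 32769) (L 32785)) (N (L 33281) (L 33297))) (N (N (L 33025) (L 33041)) (N (L 33537) (L 33553)))) (N (N (N (L 34817) (L 34833)) (N (L 35329) (L 35345))) (N (N (L 35073) (L 35089)) (N (L 35585) (L 35601))))) (N (N (N (N (L 33793) (L 33809)) (N (L 34305) (L 34321))) (N (N (L 34049) (L 34065)) (N (L 34561) (L 34577)))) (N (N (N (L 35841) (L 35857)) (N (L 36353) (L 36369))) (N (N (L 36097) (L 36113)) (N (L 36609) (L 36625))))))) (N (N (N (N (N (N (L 16385) (L 16401)) (N (L 16897) (L 16913))) (N (N (L 16641) (L 16657)) (N (L 17153) (L 17169)))) (N (N (N (L 18433) (L 18449)) (N (L 18945) (L 18961))) (N (N (L 18689) (L 18705)) (N (L 19201) (L 19217))))) (N (N (N (N (L 17409)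 (L 17425)) (N (L 17921) (L 17937))) (N (N (L 17665) (L 17681)) (N (L 18177) (L 18193)))) (N (N (N (L 19457) (L 19473)) (N (L 19969) (L 19985))) (N (N (L 19713) (L 19729)) (N (L 20225) (L 20241)))))) (N (N (N (N (N (L 49153) (L 49169)) (N (L 49665) (L 49681))) (N (N (L 49409) (L 49425)) (N (L 49921) (L 49937)))) (N (N (N (L 51201) (L 51217)) (N (L 51713) (L 51729))) (N (N (L 51457) (L 51473)) (N (L 51969) (L 51985))))) (N (N (N (N (L 50177) (L 50193)) (N (L 50689) (L 50705))) (N (N (L 50433) (L 50449)) (N (L 50945) (L 50961)))) (N (N (N (L 52225) (L 52241)) (N (L 52737) (L 52753))) (N (N (L 52481) (L 52497)) (N (L 52993) (L 53009)))))))) (N (N (N (N (N (N (N (L 3) (L 19)) (N (L 515) (L 531))) (N (N (L 259) (L 275)) (N (L 771) (L 787)))) (N (N (N (L 2051) (L 2067)) (N (L 2563) (L 2579))) (N (N (L 2307) (L 2323)) (N (L 2819) (L 2835))))) (N (N (N (N (L 1027) (L 1043)) (N (L 1539) (L 1555))) (N (N (L 1283) (L 1299)) (N (L 1795) (L 1811)))) (N (N (N (L 3075) (L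 3091)) (N (L 3587) (L 3603))) (N (N (L 3331) (L 3347)) (N (L 3843) (L 3859)))))) (N (N (N (N (N (L 32771) (L 32787)) (N (L 33283) (L 33299))) (N (N (L 33027) (L 33043)) (N (L 33539) (L 33555)))) (N (N (N (L 34819) (L 34835)) (N (L 35331) (L 35347))) (N (N (L 35075) (L 35091)) (N (L 35587) (L 35603))))) (N (N (N (N (L 33795) (L 33811)) (N (L 34307) (L 34323))) (N (N (L 34051) (L 34067)) (N (L 34563) (L 34579)))) (N (N (N (L 35843) (L 35859)) (N (L 36355) (L 36371))) (N (N (L 36099) (L 36115)) (N (L 36611) (L 36627))))))) (N (N (N (N (N (N (L 16387) (L 16403)) (N (L 16899) (L 16915))) (N (N (L 16643) (L 16659)) (N (L 17155) (L 17171)))) (N (N (N (L 18435) (L 18451)) (N (L 18947) (L 18963))) (N (N (L 18691) (L 18707)) (N (L 19203) (L 19219))))) (N (N (N (N (L 17411) (L 17427)) (N (L 17923) (L 17939))) (N (N (L 17667) (L 17683)) (N (L 18179) (L 18195)))) (N (N (N (L 19459) (L 19475)) (N (L 19971) (L 19987))) (N (N (L 19715) (L 19731)) (N (L 20227) (L 20243))))))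 (N (N (N (N (N (L 49155) (L 49171)) (N (L 49667) (L 49683))) (N (N (L 49411) (L 49427)) (N (L 49923) (L 49939)))) (N (N (N (L 51203) (L 51219)) (N (L 51715) (L 51731))) (N (N (L 51459) (L 51475)) (N (L 51971) (L 51987))))) (N (N (N (N (L 50179) (L 50195)) (N (L 50691) (L 50707))) (N (N (L 50435) (L 50451)) (N (L 50947) (L 50963)))) (N (N (N (L 52227) (L 52243)) (N (L 52739) (L 52755))) (N (N (L 52483) (L 52499)) (N (L 52995) (L 53011))))))))))

def tabHi0 : Tr :=
  (N (N (N (N (N (N (N (N (N (L 0) (L 8)) (N (L 4) (L 12))) (N (N (L 128) (L 136)) (N (L 132) (L 140)))) (N (N (N (L 64) (L 72)) (N (L 68) (L 76))) (N (N (L 192) (L 200)) (N (L 196) (L 204))))) (N (N (N (N (L 131072) (L 131080)) (N (L 131076) (L 131084))) (N (N (L 131200) (L 131208)) (N (L 131204) (L 131212)))) (N (N (N (L 131136) (L 131144)) (N (L 131140) (L 131148))) (N (N (L 131264) (L 131272)) (N (L 131268) (L 131276)))))) (N (N (N (N (N (L 65536) (L 65544)) (N (L 65540) (L 65548))) (N (N (L 65664)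 (L 65672)) (N (L 65668) (L 65676)))) (N (N (N (L 65600) (L 65608)) (N (L 65604) (L 65612))) (N (N (L 65728) (L 65736)) (N (L 65732) (L 65740))))) (N (N (N (N (L 196608) (L 196616)) (N (L 196612) (L 196620))) (N (N (L 196736) (L 196744)) (N (L 196740) (L 196748)))) (N (N (N (L 196672) (L 196680)) (N (L 196676) (L 196684))) (N (N (L 196800) (L 196808)) (N (L 196804) (L 196812))))))) (N (N (N (N (N (N (L 8192) (L 8200)) (N (L 8196) (L 8204))) (N (N (L 8320) (L 8328)) (N (L 8324) (L 8332)))) (N (N (N (L 8256) (L 8264)) (N (L 8260) (L 8268))) (N (N (L 8384) (L 8392)) (N (L 8388) (L 8396))))) (N (N (N (N (L 139264) (L 139272)) (N (L 139268) (L 139276))) (N (N (L 139392) (L 139400)) (N (L 139396) (L 139404)))) (N (N (N (L 139328) (L 139336)) (N (L 139332) (L 139340))) (N (N (L 139456) (L 139464)) (N (L 139460) (L 139468)))))) (N (N (N (N (N (L 73728) (L 73736)) (N (L 73732) (L 73740))) (N (N (L 73856) (L 73864)) (N (L 73860) (L 73868)))) (N (N (N (L 73792) (L 73800))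 (N (L 73796) (L 73804))) (N (N (L 73920) (L 73928)) (N (L 73924) (L 73932))))) (N (N (N (N (L 204800) (L 204808)) (N (L 204804) (L 204812))) (N (N (L 204928) (L 204936)) (N (L 204932) (L 204940)))) (N (N (N (L 204864) (L 204872)) (N (L 204868) (L 204876))) (N (N (L 204992) (L 205000)) (N (L 204996) (L 205004)))))))) (N (N (N (N (N (N (N (L 4096) (L 4104)) (N (L 4100) (L 4108))) (N (N (L 4224) (L 4232)) (N (L 4228) (L 4236)))) (N (N (N (L 4160) (L 4168)) (N (L 4164) (L 4172))) (N (N (L 4288) (L 4296)) (N (L 4292) (L 4300))))) (N (N (N (N (L 135168) (L 135176)) (N (L 135172) (L 135180))) (N (N (L 135296) (L 135304)) (N (L 135300) (L 135308)))) (N (N (N (L 135232) (L 135240)) (N (L 135236) (L 135244))) (N (N (L 135360) (L 135368)) (N (L 135364) (L 135372)))))) (N (N (N (N (N (L 69632) (L 69640)) (N (L 69636) (L 69644))) (N (N (L 69760) (L 69768)) (N (L 69764) (L 69772)))) (N (N (N (L 69696) (L 69704)) (N (L 69700) (L 69708))) (N (N (L 69824) (L 69832)) (N (L 69828)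 (L 69836))))) (N (N (N (N (L 200704) (L 200712)) (N (L 200708) (L 200716))) (N (N (L 200832) (L 200840)) (N (L 200836) (L 200844)))) (N (N (N (L 200768) (L 200776)) (N (L 200772) (L 200780))) (N (N (L 200896) (L 200904)) (N (L 200900) (L 200908))))))) (N (N (N (N (N (N (L 12288) (L 12296)) (N (L 12292) (L 12300))) (N (N (L 12416) (L 12424)) (N (L 12420) (L 12428)))) (N (N (N (L 12352) (L 12360)) (N (L 12356) (L 12364))) (N (N (L 12480) (L 12488)) (N (L 12484) (L 12492))))) (N (N (N (N (L 143360) (L 143368)) (N (L 143364) (L 143372))) (N (N (L 143488) (L 143496)) (N (L 143492) (L 143500)))) (N (N (N (L 143424) (L 143432)) (N (L 143428) (L 143436))) (N (N (L 143552) (L 143560)) (N (L 143556) (L 143564)))))) (N (N (N (N (N (L 77824) (L 77832)) (N (L 77828) (L 77836))) (N (N (L 77952) (L 77960)) (N (L 77956) (L 77964)))) (N (N (N (L 77888) (L 77896)) (N (L 77892) (L 77900))) (N (N (L 78016) (L 78024)) (N (L 78020) (L 78028))))) (N (N (N (N (L 208896) (L 208904))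 (N (L 208900) (L 208908))) (N (N (L 209024) (L 209032)) (N (L 209028) (L 209036)))) (N (N (N (L 208960) (L 208968)) (N (L 208964) (L 208972))) (N (N (L 209088) (L 209096)) (N (L 209092) (L 209100))))))))) (N (N (N (N (N (N (N (N (L 32) (L 40)) (N (L 36) (L 44))) (N (N (L 160) (L 168)) (N (L 164) (L 172)))) (N (N (N (L 96) (L 104)) (N (L 100) (L 108))) (N (N (L 224) (L 232)) (N (L 228) (L 236))))) (N (N (N (N (L 131104) (L 131112)) (N (L 131108) (L 131116))) (N (N (L 131232) (L 131240)) (N (L 131236) (L 131244)))) (N (N (N (L 131168) (L 131176)) (N (L 131172) (L 131180))) (N (N (L 131296) (L 131304)) (N (L 131300) (L 131308)))))) (N (N (N (N (N (L 65568) (L 65576)) (N (L 65572) (L 65580))) (N (N (L 65696) (L 65704)) (N (L 65700) (L 65708)))) (N (N (N (L 65632) (L 65640)) (N (L 65636) (L 65644))) (N (N (L 65760) (L 65768)) (N (L 65764) (L 65772))))) (N (N (N (N (L 196640) (L 196648)) (N (L 196644) (L 196652))) (N (N (L 196768) (L 196776)) (N (L 196772) (L 196780))))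 (N (N (N (L 196704) (L 196712)) (N (L 196708) (L 196716))) (N (N (L 196832) (L 196840)) (N (L 196836) (L 196844))))))) (N (N (N (N (N (N (L 8224) (L 8232)) (N (L 8228) (L 8236))) (N (N (L 8352) (L 8360)) (N (L 8356) (L 8364)))) (N (N (N (L 8288) (L 8296)) (N (L 8292) (L 8300))) (N (N (L 8416) (L 8424)) (N (L 8420) (L 8428))))) (N (N (N (N (L 139296) (L 139304)) (N (L 139300) (L 139308))) (N (N (L 139424) (L 139432)) (N (L 139428) (L 139436)))) (N (N (N (L 139360) (L 139368)) (N (L 139364) (L 139372))) (N (N (L 139488) (L 139496)) (N (L 139492) (L 139500)))))) (N (N (N (N (N (L 73760) (L 73768)) (N (L 73764) (L 73772))) (N (N (L 73888) (L 73896)) (N (L 73892) (L 73900)))) (N (N (N (L 73824) (L 73832)) (N (L 73828) (L 73836))) (N (N (L 73952) (L 73960)) (N (L 73956) (L 73964))))) (N (N (N (N (L 204832) (L 204840)) (N (L 204836) (L 204844))) (N (N (L 204960) (L 204968)) (N (L 204964) (L 204972)))) (N (N (N (L 204896) (L 204904)) (N (L 204900) (L 204908))) (N (N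 (L 205024) (L 205032)) (N (L 205028) (L 205036)))))))) (N (N (N (N (N (N (N (L 4128) (L 4136)) (N (L 4132) (L 4140))) (N (N (L 4256) (L 4264)) (N (L 4260) (L 4268)))) (N (N (N (L 4192) (L 4200)) (N (L 4196) (L 4204))) (N (N (L 4320) (L 4328)) (N (L 4324) (L 4332))))) (N (N (N (N (L 135200) (L 135208)) (N (L 135204) (L 135212))) (N (N (L 135328) (L 135336)) (N (L 135332) (L 135340)))) (N (N (N (L 135264) (L 135272)) (N (L 135268) (L 135276))) (N (N (L 135392) (L 135400)) (N (L 135396) (L 135404)))))) (N (N (N (N (N (L 69664) (L 69672)) (N (L 69668) (L 69676))) (N (N (L 69792) (L 69800)) (N (L 69796) (L 69804)))) (N (N (N (L 69728) (L 69736)) (N (L 69732) (L 69740))) (N (N (L 69856) (L 69864)) (N (L 69860) (L 69868))))) (N (N (N (N (L 200736) (L 200744)) (N (L 200740) (L 200748))) (N (N (L 200864) (L 200872)) (N (L 200868) (L 200876)))) (N (N (N (L 200800) (L 200808)) (N (L 200804) (L 200812))) (N (N (L 200928) (L 200936)) (N (L 200932) (L 200940))))))) (N (N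 (N (N (N (N (L 12320) (L 12328)) (N (L 12324) (L 12332))) (N (N (L 12448) (L 12456)) (N (L 12452) (L 12460)))) (N (N (N (L 12384) (L 12392)) (N (L 12388) (L 12396))) (N (N (L 12512) (L 12520)) (N (L 12516) (L 12524))))) (N (N (N (N (L 143392) (L 143400)) (N (L 143396) (L 143404))) (N (N (L 143520) (L 143528)) (N (L 143524) (L 143532)))) (N (N (N (L 143456) (L 143464)) (N (L 143460) (L 143468))) (N (N (L 143584) (L 143592)) (N (L 143588) (L 143596)))))) (N (N (N (N (N (L 77856) (L 77864)) (N (L 77860) (L 77868))) (N (N (L 77984) (L 77992)) (N (L 77988) (L 77996)))) (N (N (N (L 77920) (L 77928)) (N (L 77924) (L 77932))) (N (N (L 78048) (L 78056)) (N (L 78052) (L 78060))))) (N (N (N (N (L 208928) (L 208936)) (N (L 208932) (L 208940))) (N (N (L 209056) (L 209064)) (N (L 209060) (L 209068)))) (N (N (N (L 208992) (L 209000)) (N (L 208996) (L 209004))) (N (N (L 209120) (L 209128)) (N (L 209124) (L 209132))))))))))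

def tabLo1 : Tr :=
  (N (N (N (N (N (N (N (N (N (L 0) (L 768)) (N (L 192) (L 960))) (N (N (L 128) (L 896)) (N (L 64) (L 832)))) (N (N (N (L 48) (L 816)) (N (L 240) (L 1008))) (N (N (L 176) (L 944)) (N (L 112) (L 880))))) (N (N (N (N (L 32) (L 800)) (N (L 224) (L 992))) (N (N (L 160) (L 928)) (N (L 96) (L 864)))) (N (N (N (L 16) (L 784)) (N (L 208) (L 976))) (N (N (L 144) (L 912)) (N (L 80) (L 848)))))) (N (N (N (N (N (L 12) (L 780)) (N (L 204) (L 972))) (N (N (L 140) (L 908)) (N (L 76) (L 844)))) (N (N (N (L 60) (L 828)) (N (L 252) (L 1020))) (N (N (L 188) (L 956)) (N (L 124) (L 892))))) (N (N (N (N (L 44) (L 812)) (N (L 236) (L 1004))) (N (N (L 172) (L 940)) (N (L 108) (L 876)))) (N (N (N (L 28) (L 796)) (N (L 220) (L 988))) (N (N (L 156) (L 924)) (N (L 92) (L 860))))))) (N (N (N (N (N (N (L 8) (L 776)) (N (L 200) (L 968))) (N (N (L 136) (L 904)) (N (L 72) (L 840)))) (N (N (N (L 56) (L 824)) (N (L 248) (L 1016))) (N (N (L 184) (L 952)) (N (L 120) (L 888)))))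 (N (N (N (N (L 40) (L 808)) (N (L 232) (L 1000))) (N (N (L 168) (L 936)) (N (L 104) (L 872)))) (N (N (N (L 24) (L 792)) (N (L 216) (L 984))) (N (N (L 152) (L 920)) (N (L 88) (L 856)))))) (N (N (N (N (N (L 4) (L 772)) (N (L 196) (L 964))) (N (N (L 132) (L 900)) (N (L 68) (L 836)))) (N (N (N (L 52) (L 820)) (N (L 244) (L 1012))) (N (N (L 180) (L 948)) (N (L 116) (L 884))))) (N (N (N (N (L 36) (L 804)) (N (L 228) (L 996))) (N (N (L 164) (L 932)) (N (L 100) (L 868)))) (N (N (N (L 20) (L 788)) (N (L 212) (L 980))) (N (N (L 148) (L 916)) (N (L 84) (L 852)))))))) (N (N (N (N (N (N (N (L 2) (L 770)) (N (L 194) (L 962))) (N (N (L 130) (L 898)) (N (L 66) (L 834)))) (N (N (N (L 50) (L 818)) (N (L 242) (L 1010))) (N (N (L 178) (L 946)) (N (L 114) (L 882))))) (N (N (N (N (L 34) (L 802)) (N (L 226) (L 994))) (N (N (L 162) (L 930)) (N (L 98) (L 866)))) (N (N (N (L 18) (L 786)) (N (L 210) (L 978))) (N (N (L 146) (L 914)) (N (L 82) (L 850)))))) (N (N (N (N (N (L 14) (L 782))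 (N (L 206) (L 974))) (N (N (L 142) (L 910)) (N (L 78) (L 846)))) (N (N (N (L 62) (L 830)) (N (L 254) (L 1022))) (N (N (L 190) (L 958)) (N (L 126) (L 894))))) (N (N (N (N (L 46) (L 814)) (N (L 238) (L 1006))) (N (N (L 174) (L 942)) (N (L 110) (L 878)))) (N (N (N (L 30) (L 798)) (N (L 222) (L 990))) (N (N (L 158) (L 926)) (N (L 94) (L 862))))))) (N (N (N (N (N (N (L 10) (L 778)) (N (L 202) (L 970))) (N (N (L 138) (L 906)) (N (L 74) (L 842)))) (N (N (N (L 58) (L 826)) (N (L 250) (L 1018))) (N (N (L 186) (L 954)) (N (L 122) (L 890))))) (N (N (N (N (L 42) (L 810)) (N (L 234) (L 1002))) (N (N (L 170) (L 938)) (N (L 106) (L 874)))) (N (N (N (L 26) (L 794)) (N (L 218) (L 986))) (N (N (L 154) (L 922)) (N (L 90) (L 858)))))) (N (N (N (N (N (L 6) (L 774)) (N (L 198) (L 966))) (N (N (L 134) (L 902)) (N (L 70) (L 838)))) (N (N (N (L 54) (L 822)) (N (L 246) (L 1014))) (N (N (L 182) (L 950)) (N (L 118) (L 886))))) (N (N (N (N (L 38) (L 806)) (N (L 230) (L 998))) (N (N (L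 166) (L 934)) (N (L 102) (L 870)))) (N (N (N (L 22) (L 790)) (N (L 214) (L 982))) (N (N (L 150) (L 918)) (N (L 86) (L 854))))))))) (N (N (N (N (N (N (N (N (L 1) (L 769)) (N (L 193) (L 961))) (N (N (L 129) (L 897)) (N (L 65) (L 833)))) (N (N (N (L 49) (L 817)) (N (L 241) (L 1009))) (N (N (L 177) (L 945)) (N (L 113) (L 881))))) (N (N (N (N (L 33) (L 801)) (N (L 225) (L 993))) (N (N (L 161) (L 929)) (N (L 97) (L 865)))) (N (N (N (L 17) (L 785)) (N (L 209) (L 977))) (N (N (L 145) (L 913)) (N (L 81) (L 849)))))) (N (N (N (N (N (L 13) (L 781)) (N (L 205) (L 973))) (N (N (L 141) (L 909)) (N (L 77) (L 845)))) (N (N (N (L 61) (L 829)) (N (L 253) (L 1021))) (N (N (L 189) (L 957)) (N (L 125) (L 893))))) (N (N (N (N (L 45) (L 813)) (N (L 237) (L 1005))) (N (N (L 173) (L 941)) (N (L 109) (L 877)))) (N (N (N (L 29) (L 797)) (N (L 221) (L 989))) (N (N (L 157) (L 925)) (N (L 93) (L 861))))))) (N (N (N (N (N (N (L 9) (L 777)) (N (L 201) (L 969))) (N (N (L 137) (L 905)) (N (L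 73) (L 841)))) (N (N (N (L 57) (L 825)) (N (L 249) (L 1017))) (N (N (L 185) (L 953)) (N (L 121) (L 889))))) (N (N (N (N (L 41) (L 809)) (N (L 233) (L 1001))) (N (N (L 169) (L 937)) (N (L 105) (L 873)))) (N (N (N (L 25) (L 793)) (N (L 217) (L 985))) (N (N (L 153) (L 921)) (N (L 89) (L 857)))))) (N (N (N (N (N (L 5) (L 773)) (N (L 197) (L 965))) (N (N (L 133) (L 901)) (N (L 69) (L 837)))) (N (N (N (L 53) (L 821)) (N (L 245) (L 1013))) (N (N (L 181) (L 949)) (N (L 117) (L 885))))) (N (N (N (N (L 37) (L 805)) (N (L 229) (L 997))) (N (N (L 165) (L 933)) (N (L 101) (L 869)))) (N (N (N (L 21) (L 789)) (N (L 213) (L 981))) (N (N (L 149) (L 917)) (N (L 85) (L 853)))))))) (N (N (N (N (N (N (N (L 3) (L 771)) (N (L 195) (L 963))) (N (N (L 131) (L 899)) (N (L 67) (L 835)))) (N (N (N (L 51) (L 819)) (N (L 243) (L 1011))) (N (N (L 179) (L 947)) (N (L 115) (L 883))))) (N (N (N (N (L 35) (L 803)) (N (L 227) (L 995))) (N (N (L 163) (L 931)) (N (L 99) (L 867)))) (N (N (N (L 19)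 (L 787)) (N (L 211) (L 979))) (N (N (L 147) (L 915)) (N (L 83) (L 851)))))) (N (N (N (N (N (L 15) (L 783)) (N (L 207) (L 975))) (N (N (L 143) (L 911)) (N (L 79) (L 847)))) (N (N (N (L 63) (L 831)) (N (L 255) (L 1023))) (N (N (L 191) (L 959)) (N (L 127) (L 895))))) (N (N (N (N (L 47) (L 815)) (N (L 239) (L 1007))) (N (N (L 175) (L 943)) (N (L 111) (L 879)))) (N (N (N (L 31) (L 799)) (N (L 223) (L 991))) (N (N (L 159) (L 927)) (N (L 95) (L 863))))))) (N (N (N (N (N (N (L 11) (L 779)) (N (L 203) (L 971))) (N (N (L 139) (L 907)) (N (L 75) (L 843)))) (N (N (N (L 59) (L 827)) (N (L 251) (L 1019))) (N (N (L 187) (L 955)) (N (L 123) (L 891))))) (N (N (N (N (L 43) (L 811)) (N (L 235) (L 1003))) (N (N (L 171) (L 939)) (N (L 107) (L 875)))) (N (N (N (L 27) (L 795)) (N (L 219) (L 987))) (N (N (L 155) (L 923)) (N (L 91) (L 859)))))) (N (N (N (N (N (L 7) (L 775)) (N (L 199) (L 967))) (N (N (L 135) (L 903)) (N (L 71) (L 839)))) (N (N (N (L 55) (L 823)) (N (L 247) (L 1015)))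 (N (N (L 183) (L 951)) (N (L 119) (L 887))))) (N (N (N (N (L 39) (L 807)) (N (L 231) (L 999))) (N (N (L 167) (L 935)) (N (L 103) (L 871)))) (N (N (N (L 23) (L 791)) (N (L 215) (L 983))) (N (N (L 151) (L 919)) (N (L 87) (L 855))))))))))

def tabHi1 : Tr :=
  (N (N (N (N (N (N (N (N (N (L 0) (L 65536)) (N (L 196608) (L 131072))) (N (N (L 16384) (L 81920)) (N (L 212992) (L 147456)))) (N (N (N (L 49152) (L 114688)) (N (L 245760) (L 180224))) (N (N (L 32768) (L 98304)) (N (L 229376) (L 163840))))) (N (N (N (N (L 12288) (L 77824)) (N (L 208896) (L 143360))) (N (N (L 28672) (L 94208)) (N (L 225280) (L 159744)))) (N (N (N (L 61440) (L 126976)) (N (L 258048) (L 192512))) (N (N (L 45056) (L 110592)) (N (L 241664) (L 176128)))))) (N (N (N (N (N (L 8192) (L 73728)) (N (L 204800) (L 139264))) (N (N (L 24576) (L 90112)) (N (L 221184) (L 155648)))) (N (N (N (L 57344) (L 122880)) (N (L 253952) (L 188416))) (N (N (L 40960) (L 106496)) (N (L 237568) (L 172032))))) (N (N (N (N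 (L 4096) (L 69632)) (N (L 200704) (L 135168))) (N (N (L 20480) (L 86016)) (N (L 217088) (L 151552)))) (N (N (N (L 53248) (L 118784)) (N (L 249856) (L 184320))) (N (N (L 36864) (L 102400)) (N (L 233472) (L 167936))))))) (N (N (N (N (N (N (L 1024) (L 66560)) (N (L 197632) (L 132096))) (N (N (L 17408) (L 82944)) (N (L 214016) (L 148480)))) (N (N (N (L 50176) (L 115712)) (N (L 246784) (L 181248))) (N (N (L 33792) (L 99328)) (N (L 230400) (L 164864))))) (N (N (N (N (L 13312) (L 78848)) (N (L 209920) (L 144384))) (N (N (L 29696) (L 95232)) (N (L 226304) (L 160768)))) (N (N (N (L 62464) (L 128000)) (N (L 259072) (L 193536))) (N (N (L 46080) (L 111616)) (N (L 242688) (L 177152)))))) (N (N (N (N (N (L 9216) (L 74752)) (N (L 205824) (L 140288))) (N (N (L 25600) (L 91136)) (N (L 222208) (L 156672)))) (N (N (N (L 58368) (L 123904)) (N (L 254976) (L 189440))) (N (N (L 41984) (L 107520)) (N (L 238592) (L 173056))))) (N (N (N (N (L 5120) (L 70656)) (N (L 201728) (L 136192)))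 (N (N (L 21504) (L 87040)) (N (L 218112) (L 152576)))) (N (N (N (L 54272) (L 119808)) (N (L 250880) (L 185344))) (N (N (L 37888) (L 103424)) (N (L 234496) (L 168960)))))))) (N (N (N (N (N (N (N (L 3072) (L 68608)) (N (L 199680) (L 134144))) (N (N (L 19456) (L 84992)) (N (L 216064) (L 150528)))) (N (N (N (L 52224) (L 117760)) (N (L 248832) (L 183296))) (N (N (L 35840) (L 101376)) (N (L 232448) (L 166912))))) (N (N (N (N (L 15360) (L 80896)) (N (L 211968) (L 146432))) (N (N (L 31744) (L 97280)) (N (L 228352) (L 162816)))) (N (N (N (L 64512) (L 130048)) (N (L 261120) (L 195584))) (N (N (L 48128) (L 113664)) (N (L 244736) (L 179200)))))) (N (N (N (N (N (L 11264) (L 76800)) (N (L 207872) (L 142336))) (N (N (L 27648) (L 93184)) (N (L 224256) (L 158720)))) (N (N (N (L 60416) (L 125952)) (N (L 257024) (L 191488))) (N (N (L 44032) (L 109568)) (N (L 240640) (L 175104))))) (N (N (N (N (L 7168) (L 72704)) (N (L 203776) (L 138240))) (N (N (L 23552) (L 89088)) (N (L 220160)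 (L 154624)))) (N (N (N (L 56320) (L 121856)) (N (L 252928) (L 187392))) (N (N (L 39936) (L 105472)) (N (L 236544) (L 171008))))))) (N (N (N (N (N (N (L 2048) (L 67584)) (N (L 198656) (L 133120))) (N (N (L 18432) (L 83968)) (N (L 215040) (L 149504)))) (N (N (N (L 51200) (L 116736)) (N (L 247808) (L 182272))) (N (N (L 34816) (L 100352)) (N (L 231424) (L 165888))))) (N (N (N (N (L 14336) (L 79872)) (N (L 210944) (L 145408))) (N (N (L 30720) (L 96256)) (N (L 227328) (L 161792)))) (N (N (N (L 63488) (L 129024)) (N (L 260096) (L 194560))) (N (N (L 47104) (L 112640)) (N (L 243712) (L 178176)))))) (N (N (N (N (N (L 10240) (L 75776)) (N (L 206848) (L 141312))) (N (N (L 26624) (L 92160)) (N (L 223232) (L 157696)))) (N (N (N (L 59392) (L 124928)) (N (L 256000) (L 190464))) (N (N (L 43008) (L 108544)) (N (L 239616) (L 174080))))) (N (N (N (N (L 6144) (L 71680)) (N (L 202752) (L 137216))) (N (N (L 22528) (L 88064)) (N (L 219136) (L 153600)))) (N (N (N (L 55296) (L 120832))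 (N (L 251904) (L 186368))) (N (N (L 38912) (L 104448)) (N (L 235520) (L 169984))))))))) (N (N (N (N (N (N (N (N (L 256) (L 65792)) (N (L 196864) (L 131328))) (N (N (L 16640) (L 82176)) (N (L 213248) (L 147712)))) (N (N (N (L 49408) (L 114944)) (N (L 246016) (L 180480))) (N (N (L 33024) (L 98560)) (N (L 229632) (L 164096))))) (N (N (N (N (L 12544) (L 78080)) (N (L 209152) (L 143616))) (N (N (L 28928) (L 94464)) (N (L 225536) (L 160000)))) (N (N (N (L 61696) (L 127232)) (N (L 258304) (L 192768))) (N (N (L 45312) (L 110848)) (N (L 241920) (L 176384)))))) (N (N (N (N (N (L 8448) (L 73984)) (N (L 205056) (L 139520))) (N (N (L 24832) (L 90368)) (N (L 221440) (L 155904)))) (N (N (N (L 57600) (L 123136)) (N (L 254208) (L 188672))) (N (N (L 41216) (L 106752)) (N (L 237824) (L 172288))))) (N (N (N (N (L 4352) (L 69888)) (N (L 200960) (L 135424))) (N (N (L 20736) (L 86272)) (N (L 217344) (L 151808)))) (N (N (N (L 53504) (L 119040)) (N (L 250112) (L 184576))) (N (N (L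 37120) (L 102656)) (N (L 233728) (L 168192))))))) (N (N (N (N (N (N (L 1280) (L 66816)) (N (L 197888) (L 132352))) (N (N (L 17664) (L 83200)) (N (L 214272) (L 148736)))) (N (N (N (L 50432) (L 115968)) (N (L 247040) (L 181504))) (N (N (L 34048) (L 99584)) (N (L 230656) (L 165120))))) (N (N (N (N (L 13568) (L 79104)) (N (L 210176) (L 144640))) (N (N (L 29952) (L 95488)) (N (L 226560) (L 161024)))) (N (N (N (L 62720) (L 128256)) (N (L 259328) (L 193792))) (N (N (L 46336) (L 111872)) (N (L 242944) (L 177408)))))) (N (N (N (N (N (L 9472) (L 75008)) (N (L 206080) (L 140544))) (N (N (L 25856) (L 91392)) (N (L 222464) (L 156928)))) (N (N (N (L 58624) (L 124160)) (N (L 255232) (L 189696))) (N (N (L 42240) (L 107776)) (N (L 238848) (L 173312))))) (N (N (N (N (L 5376) (L 70912)) (N (L 201984) (L 136448))) (N (N (L 21760) (L 87296)) (N (L 218368) (L 152832)))) (N (N (N (L 54528) (L 120064)) (N (L 251136) (L 185600))) (N (N (L 38144) (L 103680)) (N (L 234752) (L 169216))))))))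 (N (N (N (N (N (N (N (L 3328) (L 68864)) (N (L 199936) (L 134400))) (N (N (L 19712) (L 85248)) (N (L 216320) (L 150784)))) (N (N (N (L 52480) (L 118016)) (N (L 249088) (L 183552))) (N (N (L 36096) (L 101632)) (N (L 232704) (L 167168))))) (N (N (N (N (L 15616) (L 81152)) (N (L 212224) (L 146688))) (N (N (L 32000) (L 97536)) (N (L 228608) (L 163072)))) (N (N (N (L 64768) (L 130304)) (N (L 261376) (L 195840))) (N (N (L 48384) (L 113920)) (N (L 244992) (L 179456)))))) (N (N (N (N (N (L 11520) (L 77056)) (N (L 208128) (L 142592))) (N (N (L 27904) (L 93440)) (N (L 224512) (L 158976)))) (N (N (N (L 60672) (L 126208)) (N (L 257280) (L 191744))) (N (N (L 44288) (L 109824)) (N (L 240896) (L 175360))))) (N (N (N (N (L 7424) (L 72960)) (N (L 204032) (L 138496))) (N (N (L 23808) (L 89344)) (N (L 220416) (L 154880)))) (N (N (N (L 56576) (L 122112)) (N (L 253184) (L 187648))) (N (N (L 40192) (L 105728)) (N (L 236800) (L 171264))))))) (N (N (N (N (N (N (L 2304) (L 67840))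 (N (L 198912) (L 133376))) (N (N (L 18688) (L 84224)) (N (L 215296) (L 149760)))) (N (N (N (L 51456) (L 116992)) (N (L 248064) (L 182528))) (N (N (L 35072) (L 100608)) (N (L 231680) (L 166144))))) (N (N (N (N (L 14592) (L 80128)) (N (L 211200) (L 145664))) (N (N (L 30976) (L 96512)) (N (L 227584) (L 162048)))) (N (N (N (L 63744) (L 129280)) (N (L 260352) (L 194816))) (N (N (L 47360) (L 112896)) (N (L 243968) (L 178432)))))) (N (N (N (N (N (L 10496) (L 76032)) (N (L 207104) (L 141568))) (N (N (L 26880) (L 92416)) (N (L 223488) (L 157952)))) (N (N (N (L 59648) (L 125184)) (N (L 256256) (L 190720))) (N (N (L 43264) (L 108800)) (N (L 239872) (L 174336))))) (N (N (N (N (L 6400) (L 71936)) (N (L 203008) (L 137472))) (N (N (L 22784) (L 88320)) (N (L 219392) (L 153856)))) (N (N (N (L 55552) (L 121088)) (N (L 252160) (L 186624))) (N (N (L 39168) (L 104704)) (N (L 235776) (L 170240))))))))))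

def tabLo2 : Tr :=
  (N (N (N (N (N (N (N (N (N (L 0) (L 32768)) (N (L 8192) (L 40960))) (N (N (L 4096) (L 36864)) (N (L 12288) (L 45056)))) (N (N (N (L 2048) (L 34816)) (N (L 10240) (L 43008))) (N (N (L 6144) (L 38912)) (N (L 14336) (L 47104))))) (N (N (N (N (L 1024) (L 33792)) (N (L 9216) (L 41984))) (N (N (L 5120) (L 37888)) (N (L 13312) (L 46080)))) (N (N (N (L 3072) (L 35840)) (N (L 11264) (L 44032))) (N (N (L 7168) (L 39936)) (N (L 15360) (L 48128)))))) (N (N (N (N (N (L 512) (L 33280)) (N (L 8704) (L 41472))) (N (N (L 4608) (L 37376)) (N (L 12800) (L 45568)))) (N (N (N (L 2560) (L 35328)) (N (L 10752) (L 43520))) (N (N (L 6656) (L 39424)) (N (L 14848) (L 47616))))) (N (N (N (N (L 1536) (L 34304)) (N (L 9728) (L 42496))) (N (N (L 5632) (L 38400)) (N (L 13824) (L 46592)))) (N (N (N (L 3584) (L 36352)) (N (L 11776) (L 44544))) (N (N (L 7680) (L 40448)) (N (L 15872) (L 48640))))))) (N (N (N (N (N (N (L 256) (L 33024)) (N (L 8448) (L 41216))) (N (N (L 4352)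 (L 37120)) (N (L 12544) (L 45312)))) (N (N (N (L 2304) (L 35072)) (N (L 10496) (L 43264))) (N (N (L 6400) (L 39168)) (N (L 14592) (L 47360))))) (N (N (N (N (L 1280) (L 34048)) (N (L 9472) (L 42240))) (N (N (L 5376) (L 38144)) (N (L 13568) (L 46336)))) (N (N (N (L 3328) (L 36096)) (N (L 11520) (L 44288))) (N (N (L 7424) (L 40192)) (N (L 15616) (L 48384)))))) (N (N (N (N (N (L 768) (L 33536)) (N (L 8960) (L 41728))) (N (N (L 4864) (L 37632)) (N (L 13056) (L 45824)))) (N (N (N (L 2816) (L 35584)) (N (L 11008) (L 43776))) (N (N (L 6912) (L 39680)) (N (L 15104) (L 47872))))) (N (N (N (N (L 1792) (L 34560)) (N (L 9984) (L 42752))) (N (N (L 5888) (L 38656)) (N (L 14080) (L 46848)))) (N (N (N (L 3840) (L 36608)) (N (L 12032) (L 44800))) (N (N (L 7936) (L 40704)) (N (L 16128) (L 48896)))))))) (N (N (N (N (N (N (N (L 128) (L 32896)) (N (L 8320) (L 41088))) (N (N (L 4224) (L 36992)) (N (L 12416) (L 45184)))) (N (N (N (L 2176) (L 34944)) (N (L 10368) (L 43136))) (N (N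 (L 6272) (L 39040)) (N (L 14464) (L 47232))))) (N (N (N (N (L 1152) (L 33920)) (N (L 9344) (L 42112))) (N (N (L 5248) (L 38016)) (N (L 13440) (L 46208)))) (N (N (N (L 3200) (L 35968)) (N (L 11392) (L 44160))) (N (N (L 7296) (L 40064)) (N (L 15488) (L 48256)))))) (N (N (N (N (N (L 640) (L 33408)) (N (L 8832) (L 41600))) (N (N (L 4736) (L 37504)) (N (L 12928) (L 45696)))) (N (N (N (L 2688) (L 35456)) (N (L 10880) (L 43648))) (N (N (L 6784) (L 39552)) (N (L 14976) (L 47744))))) (N (N (N (N (L 1664) (L 34432)) (N (L 9856) (L 42624))) (N (N (L 5760) (L 38528)) (N (L 13952) (L 46720)))) (N (N (N (L 3712) (L 36480)) (N (L 11904) (L 44672))) (N (N (L 7808) (L 40576)) (N (L 16000) (L 48768))))))) (N (N (N (N (N (N (L 384) (L 33152)) (N (L 8576) (L 41344))) (N (N (L 4480) (L 37248)) (N (L 12672) (L 45440)))) (N (N (N (L 2432) (L 35200)) (N (L 10624) (L 43392))) (N (N (L 6528) (L 39296)) (N (L 14720) (L 47488))))) (N (N (N (N (L 1408) (L 34176)) (N (L 9600) (L 42368)))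 (N (N (L 5504) (L 38272)) (N (L 13696) (L 46464)))) (N (N (N (L 3456) (L 36224)) (N (L 11648) (L 44416))) (N (N (L 7552) (L 40320)) (N (L 15744) (L 48512)))))) (N (N (N (N (N (L 896) (L 33664)) (N (L 9088) (L 41856))) (N (N (L 4992) (L 37760)) (N (L 13184) (L 45952)))) (N (N (N (L 2944) (L 35712)) (N (L 11136) (L 43904))) (N (N (L 7040) (L 39808)) (N (L 15232) (L 48000))))) (N (N (N (N (L 1920) (L 34688)) (N (L 10112) (L 42880))) (N (N (L 6016) (L 38784)) (N (L 14208) (L 46976)))) (N (N (N (L 3968) (L 36736)) (N (L 12160) (L 44928))) (N (N (L 8064) (L 40832)) (N (L 16256) (L 49024))))))))) (N (N (N (N (N (N (N (N (L 64) (L 32832)) (N (L 8256) (L 41024))) (N (N (L 4160) (L 36928)) (N (L 12352) (L 45120)))) (N (N (N (L 2112) (L 34880)) (N (L 10304) (L 43072))) (N (N (L 6208) (L 38976)) (N (L 14400) (L 47168))))) (N (N (N (N (L 1088) (L 33856)) (N (L 9280) (L 42048))) (N (N (L 5184) (L 37952)) (N (L 13376) (L 46144)))) (N (N (N (L 3136) (L 35904)) (N (L 11328)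 (L 44096))) (N (N (L 7232) (L 40000)) (N (L 15424) (L 48192)))))) (N (N (N (N (N (L 576) (L 33344)) (N (L 8768) (L 41536))) (N (N (L 4672) (L 37440)) (N (L 12864) (L 45632)))) (N (N (N (L 2624) (L 35392)) (N (L 10816) (L 43584))) (N (N (L 6720) (L 39488)) (N (L 14912) (L 47680))))) (N (N (N (N (L 1600) (L 34368)) (N (L 9792) (L 42560))) (N (N (L 5696) (L 38464)) (N (L 13888) (L 46656)))) (N (N (N (L 3648) (L 36416)) (N (L 11840) (L 44608))) (N (N (L 7744) (L 40512)) (N (L 15936) (L 48704))))))) (N (N (N (N (N (N (L 320) (L 33088)) (N (L 8512) (L 41280))) (N (N (L 4416) (L 37184)) (N (L 12608) (L 45376)))) (N (N (N (L 2368) (L 35136)) (N (L 10560) (L 43328))) (N (N (L 6464) (L 39232)) (N (L 14656) (L 47424))))) (N (N (N (N (L 1344) (L 34112)) (N (L 9536) (L 42304))) (N (N (L 5440) (L 38208)) (N (L 13632) (L 46400)))) (N (N (N (L 3392) (L 36160)) (N (L 11584) (L 44352))) (N (N (L 7488) (L 40256)) (N (L 15680) (L 48448)))))) (N (N (N (N (N (L 832) (L 33600)) (N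 (L 9024) (L 41792))) (N (N (L 4928) (L 37696)) (N (L 13120) (L 45888)))) (N (N (N (L 2880) (L 35648)) (N (L 11072) (L 43840))) (N (N (L 6976) (L 39744)) (N (L 15168) (L 47936))))) (N (N (N (N (L 1856) (L 34624)) (N (L 10048) (L 42816))) (N (N (L 5952) (L 38720)) (N (L 14144) (L 46912)))) (N (N (N (L 3904) (L 36672)) (N (L 12096) (L 44864))) (N (N (L 8000) (L 40768)) (N (L 16192) (L 48960)))))))) (N (N (N (N (N (N (N (L 192) (L 32960)) (N (L 8384) (L 41152))) (N (N (L 4288) (L 37056)) (N (L 12480) (L 45248)))) (N (N (N (L 2240) (L 35008)) (N (L 10432) (L 43200))) (N (N (L 6336) (L 39104)) (N (L 14528) (L 47296))))) (N (N (N (N (L 1216) (L 33984)) (N (L 9408) (L 42176))) (N (N (L 5312) (L 38080)) (N (L 13504) (L 46272)))) (N (N (N (L 3264) (L 36032)) (N (L 11456) (L 44224))) (N (N (L 7360) (L 40128)) (N (L 15552) (L 48320)))))) (N (N (N (N (N (L 704) (L 33472)) (N (L 8896) (L 41664))) (N (N (L 4800) (L 37568)) (N (L 12992) (L 45760)))) (N (N (N (L 2752) (L 35520))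 (N (L 10944) (L 43712))) (N (N (L 6848) (L 39616)) (N (L 15040) (L 47808))))) (N (N (N (N (L 1728) (L 34496)) (N (L 9920) (L 42688))) (N (N (L 5824) (L 38592)) (N (L 14016) (L 46784)))) (N (N (N (L 3776) (L 36544)) (N (L 11968) (L 44736))) (N (N (L 7872) (L 40640)) (N (L 16064) (L 48832))))))) (N (N (N (N (N (N (L 448) (L 33216)) (N (L 8640) (L 41408))) (N (N (L 4544) (L 37312)) (N (L 12736) (L 45504)))) (N (N (N (L 2496) (L 35264)) (N (L 10688) (L 43456))) (N (N (L 6592) (L 39360)) (N (L 14784) (L 47552))))) (N (N (N (N (L 1472) (L 34240)) (N (L 9664) (L 42432))) (N (N (L 5568) (L 38336)) (N (L 13760) (L 46528)))) (N (N (N (L 3520) (L 36288)) (N (L 11712) (L 44480))) (N (N (L 7616) (L 40384)) (N (L 15808) (L 48576)))))) (N (N (N (N (N (L 960) (L 33728)) (N (L 9152) (L 41920))) (N (N (L 5056) (L 37824)) (N (L 13248) (L 46016)))) (N (N (N (L 3008) (L 35776)) (N (L 11200) (L 43968))) (N (N (L 7104) (L 39872)) (N (L 15296) (L 48064))))) (N (N (N (N (L 1984) (L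 34752)) (N (L 10176) (L 42944))) (N (N (L 6080) (L 38848)) (N (L 14272) (L 47040)))) (N (N (N (L 4032) (L 36800)) (N (L 12224) (L 44992))) (N (N (L 8128) (L 40896)) (N (L 16320) (L 49088))))))))))

def tabHi2 : Tr :=
  (N (N (N (N (N (N (N (N (N (L 0) (L 32)) (N (L 16) (L 48))) (N (N (L 8) (L 40)) (N (L 24) (L 56)))) (N (N (N (L 4) (L 36)) (N (L 20) (L 52))) (N (N (L 12) (L 44)) (N (L 28) (L 60))))) (N (N (N (N (L 2) (L 34)) (N (L 18) (L 50))) (N (N (L 10) (L 42)) (N (L 26) (L 58)))) (N (N (N (L 6) (L 38)) (N (L 22) (L 54))) (N (N (L 14) (L 46)) (N (L 30) (L 62)))))) (N (N (N (N (N (L 1) (L 33)) (N (L 17) (L 49))) (N (N (L 9) (L 41)) (N (L 25) (L 57)))) (N (N (N (L 5) (L 37)) (N (L 21) (L 53))) (N (N (L 13) (L 45)) (N (L 29) (L 61))))) (N (N (N (N (L 3) (L 35)) (N (L 19) (L 51))) (N (N (L 11) (L 43)) (N (L 27) (L 59)))) (N (N (N (L 7) (L 39)) (N (L 23) (L 55))) (N (N (L 15) (L 47)) (N (L 31) (L 63))))))) (N (N (N (N (N (N (L 65536) (L 65568)) (N (L 65552) (L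 65584))) (N (N (L 65544) (L 65576)) (N (L 65560) (L 65592)))) (N (N (N (L 65540) (L 65572)) (N (L 65556) (L 65588))) (N (N (L 65548) (L 65580)) (N (L 65564) (L 65596))))) (N (N (N (N (L 65538) (L 65570)) (N (L 65554) (L 65586))) (N (N (L 65546) (L 65578)) (N (L 65562) (L 65594)))) (N (N (N (L 65542) (L 65574)) (N (L 65558) (L 65590))) (N (N (L 65550) (L 65582)) (N (L 65566) (L 65598)))))) (N (N (N (N (N (L 65537) (L 65569)) (N (L 65553) (L 65585))) (N (N (L 65545) (L 65577)) (N (L 65561) (L 65593)))) (N (N (N (L 65541) (L 65573)) (N (L 65557) (L 65589))) (N (N (L 65549) (L 65581)) (N (L 65565) (L 65597))))) (N (N (N (N (L 65539) (L 65571)) (N (L 65555) (L 65587))) (N (N (L 65547) (L 65579)) (N (L 65563) (L 65595)))) (N (N (N (L 65543) (L 65575)) (N (L 65559) (L 65591))) (N (N (L 65551) (L 65583)) (N (L 65567) (L 65599)))))))) (N (N (N (N (N (N (N (L 196608) (L 196640)) (N (L 196624) (L 196656))) (N (N (L 196616) (L 196648)) (N (L 196632) (L 196664)))) (N (N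 (N (L 196612) (L 196644)) (N (L 196628) (L 196660))) (N (N (L 196620) (L 196652)) (N (L 196636) (L 196668))))) (N (N (N (N (L 196610) (L 196642)) (N (L 196626) (L 196658))) (N (N (L 196618) (L 196650)) (N (L 196634) (L 196666)))) (N (N (N (L 196614) (L 196646)) (N (L 196630) (L 196662))) (N (N (L 196622) (L 196654)) (N (L 196638) (L 196670)))))) (N (N (N (N (N (L 196609) (L 196641)) (N (L 196625) (L 196657))) (N (N (L 196617) (L 196649)) (N (L 196633) (L 196665)))) (N (N (N (L 196613) (L 196645)) (N (L 196629) (L 196661))) (N (N (L 196621) (L 196653)) (N (L 196637) (L 196669))))) (N (N (N (N (L 196611) (L 196643)) (N (L 196627) (L 196659))) (N (N (L 196619) (L 196651)) (N (L 196635) (L 196667)))) (N (N (N (L 196615) (L 196647)) (N (L 196631) (L 196663))) (N (N (L 196623) (L 196655)) (N (L 196639) (L 196671))))))) (N (N (N (N (N (N (L 131072) (L 131104)) (N (L 131088) (L 131120))) (N (N (L 131080) (L 131112)) (N (L 131096) (L 131128)))) (N (N (N (L 131076) (L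 131108)) (N (L 131092) (L 131124))) (N (N (L 131084) (L 131116)) (N (L 131100) (L 131132))))) (N (N (N (N (L 131074) (L 131106)) (N (L 131090) (L 131122))) (N (N (L 131082) (L 131114)) (N (L 131098) (L 131130)))) (N (N (N (L 131078) (L 131110)) (N (L 131094) (L 131126))) (N (N (L 131086) (L 131118)) (N (L 131102) (L 131134)))))) (N (N (N (N (N (L 131073) (L 131105)) (N (L 131089) (L 131121))) (N (N (L 131081) (L 131113)) (N (L 131097) (L 131129)))) (N (N (N (L 131077) (L 131109)) (N (L 131093) (L 131125))) (N (N (L 131085) (L 131117)) (N (L 131101) (L 131133))))) (N (N (N (N (L 131075) (L 131107)) (N (L 131091) (L 131123))) (N (N (L 131083) (L 131115)) (N (L 131099) (L 131131)))) (N (N (N (L 131079) (L 131111)) (N (L 131095) (L 131127))) (N (N (L 131087) (L 131119)) (N (L 131103) (L 131135))))))))) (N (N (N (N (N (N (N (N (L 49152) (L 49184)) (N (L 49168) (L 49200))) (N (N (L 49160) (L 49192)) (N (L 49176) (L 49208)))) (N (N (N (L 49156) (L 49188)) (N (L 49172)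 (L 49204))) (N (N (L 49164) (L 49196)) (N (L 49180) (L 49212))))) (N (N (N (N (L 49154) (L 49186)) (N (L 49170) (L 49202))) (N (N (L 49162) (L 49194)) (N (L 49178) (L 49210)))) (N (N (N (L 49158) (L 49190)) (N (L 49174) (L 49206))) (N (N (L 49166) (L 49198)) (N (L 49182) (L 49214)))))) (N (N (N (N (N (L 49153) (L 49185)) (N (L 49169) (L 49201))) (N (N (L 49161) (L 49193)) (N (L 49177) (L 49209)))) (N (N (N (L 49157) (L 49189)) (N (L 49173) (L 49205))) (N (N (L 49165) (L 49197)) (N (L 49181) (L 49213))))) (N (N (N (N (L 49155) (L 49187)) (N (L 49171) (L 49203))) (N (N (L 49163) (L 49195)) (N (L 49179) (L 49211)))) (N (N (N (L 49159) (L 49191)) (N (L 49175) (L 49207))) (N (N (L 49167) (L 49199)) (N (L 49183) (L 49215))))))) (N (N (N (N (N (N (L 114688) (L 114720)) (N (L 114704) (L 114736))) (N (N (L 114696) (L 114728)) (N (L 114712) (L 114744)))) (N (N (N (L 114692) (L 114724)) (N (L 114708) (L 114740))) (N (N (L 114700) (L 114732)) (N (L 114716) (L 114748)))))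 (N (N (N (N (L 114690) (L 114722)) (N (L 114706) (L 114738))) (N (N (L 114698) (L 114730)) (N (L 114714) (L 114746)))) (N (N (N (L 114694) (L 114726)) (N (L 114710) (L 114742))) (N (N (L 114702) (L 114734)) (N (L 114718) (L 114750)))))) (N (N (N (N (N (L 114689) (L 114721)) (N (L 114705) (L 114737))) (N (N (L 114697) (L 114729)) (N (L 114713) (L 114745)))) (N (N (N (L 114693) (L 114725)) (N (L 114709) (L 114741))) (N (N (L 114701) (L 114733)) (N (L 114717) (L 114749))))) (N (N (N (N (L 114691) (L 114723)) (N (L 114707) (L 114739))) (N (N (L 114699) (L 114731)) (N (L 114715) (L 114747)))) (N (N (N (L 114695) (L 114727)) (N (L 114711) (L 114743))) (N (N (L 114703) (L 114735)) (N (L 114719) (L 114751)))))))) (N (N (N (N (N (N (N (L 245760) (L 245792)) (N (L 245776) (L 245808))) (N (N (L 245768) (L 245800)) (N (L 245784) (L 245816)))) (N (N (N (L 245764) (L 245796)) (N (L 245780) (L 245812))) (N (N (L 245772) (L 245804)) (N (L 245788) (L 245820))))) (N (N (N (N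 (L 245762) (L 245794)) (N (L 245778) (L 245810))) (N (N (L 245770) (L 245802)) (N (L 245786) (L 245818)))) (N (N (N (L 245766) (L 245798)) (N (L 245782) (L 245814))) (N (N (L 245774) (L 245806)) (N (L 245790) (L 245822)))))) (N (N (N (N (N (L 245761) (L 245793)) (N (L 245777) (L 245809))) (N (N (L 245769) (L 245801)) (N (L 245785) (L 245817)))) (N (N (N (L 245765) (L 245797)) (N (L 245781) (L 245813))) (N (N (L 245773) (L 245805)) (N (L 245789) (L 245821))))) (N (N (N (N (L 245763) (L 245795)) (N (L 245779) (L 245811))) (N (N (L 245771) (L 245803)) (N (L 245787) (L 245819)))) (N (N (N (L 245767) (L 245799)) (N (L 245783) (L 245815))) (N (N (L 245775) (L 245807)) (N (L 245791) (L 245823))))))) (N (N (N (N (N (N (L 180224) (L 180256)) (N (L 180240) (L 180272))) (N (N (L 180232) (L 180264)) (N (L 180248) (L 180280)))) (N (N (N (L 180228) (L 180260)) (N (L 180244) (L 180276))) (N (N (L 180236) (L 180268)) (N (L 180252) (L 180284))))) (N (N (N (N (L 180226) (L 180258))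 (N (L 180242) (L 180274))) (N (N (L 180234) (L 180266)) (N (L 180250) (L 180282)))) (N (N (N (L 180230) (L 180262)) (N (L 180246) (L 180278))) (N (N (L 180238) (L 180270)) (N (L 180254) (L 180286)))))) (N (N (N (N (N (L 180225) (L 180257)) (N (L 180241) (L 180273))) (N (N (L 180233) (L 180265)) (N (L 180249) (L 180281)))) (N (N (N (L 180229) (L 180261)) (N (L 180245) (L 180277))) (N (N (L 180237) (L 180269)) (N (L 180253) (L 180285))))) (N (N (N (N (L 180227) (L 180259)) (N (L 180243) (L 180275))) (N (N (L 180235) (L 180267)) (N (L 180251) (L 180283)))) (N (N (N (L 180231) (L 180263)) (N (L 180247) (L 180279))) (N (N (L 180239) (L 180271)) (N (L 180255) (L 180287))))))))))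

def tabLo3 : Tr :=
  (N (N (N (N (N (N (N (N (N (L 0) (L 66816)) (N (L 8232) (L 75048))) (N (N (L 4116) (L 70932)) (N (L 12348) (L 79164)))) (N (N (N (L 8352) (L 75168)) (N (L 136) (L 66952))) (N (N (L 12468) (L 79284)) (N (L 4252) (L 71068))))) (N (N (N (N (L 4176) (L 70992)) (N (L 12408) (L 79224))) (N (N (L 68) (L 66884)) (N (L 8300) (L 75116)))) (N (N (N (L 12528) (L 79344)) (N (L 4312) (L 71128))) (N (N (L 8420) (L 75236)) (N (L 204) (L 67020)))))) (N (N (N (N (N (L 8328) (L 75144)) (N (L 160) (L 66976))) (N (N (L 12444) (L 79260)) (N (L 4276) (L 71092)))) (N (N (N (L 40) (L 66856)) (N (L 8192) (L 75008))) (N (N (L 4156) (L 70972)) (N (L 12308) (L 79124))))) (N (N (N (N (L 12504) (L 79320)) (N (L 4336) (L 71152))) (N (N (L 8396) (L 75212)) (N (L 228) (L 67044)))) (N (N (N (L 4216) (L 71032)) (N (L 12368) (L 79184))) (N (N (L 108) (L 66924)) (N (L 8260) (L 75076))))))) (N (N (N (N (N (N (L 4164) (L 70980)) (N (L 12396) (L 79212))) (N (N (L 80) (L 66896))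 (N (L 8312) (L 75128)))) (N (N (N (L 12516) (L 79332)) (N (L 4300) (L 71116))) (N (N (L 8432) (L 75248)) (N (L 216) (L 67032))))) (N (N (N (N (L 20) (L 66836)) (N (L 8252) (L 75068))) (N (N (L 4096) (L 70912)) (N (L 12328) (L 79144)))) (N (N (N (L 8372) (L 75188)) (N (L 156) (L 66972))) (N (N (L 12448) (L 79264)) (N (L 4232) (L 71048)))))) (N (N (N (N (N (L 12492) (L 79308)) (N (L 4324) (L 71140))) (N (N (L 8408) (L 75224)) (N (L 240) (L 67056)))) (N (N (N (L 4204) (L 71020)) (N (L 12356) (L 79172))) (N (N (L 120) (L 66936)) (N (L 8272) (L 75088))))) (N (N (N (N (L 8348) (L 75164)) (N (L 180) (L 66996))) (N (N (L 12424) (L 79240)) (N (L 4256) (L 71072)))) (N (N (N (L 60) (L 66876)) (N (L 8212) (L 75028))) (N (N (L 4136) (L 70952)) (N (L 12288) (L 79104)))))))) (N (N (N (N (N (N (N (L 2) (L 66818)) (N (L 8234) (L 75050))) (N (N (L 4118) (L 70934)) (N (L 12350) (L 79166)))) (N (N (N (L 8354) (L 75170)) (N (L 138) (L 66954))) (N (N (L 12470) (L 79286)) (N (L 4254)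 (L 71070))))) (N (N (N (N (L 4178) (L 70994)) (N (L 12410) (L 79226))) (N (N (L 70) (L 66886)) (N (L 8302) (L 75118)))) (N (N (N (L 12530) (L 79346)) (N (L 4314) (L 71130))) (N (N (L 8422) (L 75238)) (N (L 206) (L 67022)))))) (N (N (N (N (N (L 8330) (L 75146)) (N (L 162) (L 66978))) (N (N (L 12446) (L 79262)) (N (L 4278) (L 71094)))) (N (N (N (L 42) (L 66858)) (N (L 8194) (L 75010))) (N (N (L 4158) (L 70974)) (N (L 12310) (L 79126))))) (N (N (N (N (L 12506) (L 79322)) (N (L 4338) (L 71154))) (N (N (L 8398) (L 75214)) (N (L 230) (L 67046)))) (N (N (N (L 4218) (L 71034)) (N (L 12370) (L 79186))) (N (N (L 110) (L 66926)) (N (L 8262) (L 75078))))))) (N (N (N (N (N (N (L 4166) (L 70982)) (N (L 12398) (L 79214))) (N (N (L 82) (L 66898)) (N (L 8314) (L 75130)))) (N (N (N (L 12518) (L 79334)) (N (L 4302) (L 71118))) (N (N (L 8434) (L 75250)) (N (L 218) (L 67034))))) (N (N (N (N (L 22) (L 66838)) (N (L 8254) (L 75070))) (N (N (L 4098) (L 70914)) (N (L 12330) (L 79146))))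 (N (N (N (L 8374) (L 75190)) (N (L 158) (L 66974))) (N (N (L 12450) (L 79266)) (N (L 4234) (L 71050)))))) (N (N (N (N (N (L 12494) (L 79310)) (N (L 4326) (L 71142))) (N (N (L 8410) (L 75226)) (N (L 242) (L 67058)))) (N (N (N (L 4206) (L 71022)) (N (L 12358) (L 79174))) (N (N (L 122) (L 66938)) (N (L 8274) (L 75090))))) (N (N (N (N (L 8350) (L 75166)) (N (L 182) (L 66998))) (N (N (L 12426) (L 79242)) (N (L 4258) (L 71074)))) (N (N (N (L 62) (L 66878)) (N (L 8214) (L 75030))) (N (N (L 4138) (L 70954)) (N (L 12290) (L 79106))))))))) (N (N (N (N (N (N (N (N (L 1) (L 66817)) (N (L 8233) (L 75049))) (N (N (L 4117) (L 70933)) (N (L 12349) (L 79165)))) (N (N (N (L 8353) (L 75169)) (N (L 137) (L 66953))) (N (N (L 12469) (L 79285)) (N (L 4253) (L 71069))))) (N (N (N (N (L 4177) (L 70993)) (N (L 12409) (L 79225))) (N (N (L 69) (L 66885)) (N (L 8301) (L 75117)))) (N (N (N (L 12529) (L 79345)) (N (L 4313) (L 71129))) (N (N (L 8421) (L 75237)) (N (L 205) (L 67021)))))) (N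 (N (N (N (N (L 8329) (L 75145)) (N (L 161) (L 66977))) (N (N (L 12445) (L 79261)) (N (L 4277) (L 71093)))) (N (N (N (L 41) (L 66857)) (N (L 8193) (L 75009))) (N (N (L 4157) (L 70973)) (N (L 12309) (L 79125))))) (N (N (N (N (L 12505) (L 79321)) (N (L 4337) (L 71153))) (N (N (L 8397) (L 75213)) (N (L 229) (L 67045)))) (N (N (N (L 4217) (L 71033)) (N (L 12369) (L 79185))) (N (N (L 109) (L 66925)) (N (L 8261) (L 75077))))))) (N (N (N (N (N (N (L 4165) (L 70981)) (N (L 12397) (L 79213))) (N (N (L 81) (L 66897)) (N (L 8313) (L 75129)))) (N (N (N (L 12517) (L 79333)) (N (L 4301) (L 71117))) (N (N (L 8433) (L 75249)) (N (L 217) (L 67033))))) (N (N (N (N (L 21) (L 66837)) (N (L 8253) (L 75069))) (N (N (L 4097) (L 70913)) (N (L 12329) (L 79145)))) (N (N (N (L 8373) (L 75189)) (N (L 157) (L 66973))) (N (N (L 12449) (L 79265)) (N (L 4233) (L 71049)))))) (N (N (N (N (N (L 12493) (L 79309)) (N (L 4325) (L 71141))) (N (N (L 8409) (L 75225)) (N (L 241) (L 67057)))) (N (N (N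 (L 4205) (L 71021)) (N (L 12357) (L 79173))) (N (N (L 121) (L 66937)) (N (L 8273) (L 75089))))) (N (N (N (N (L 8349) (L 75165)) (N (L 181) (L 66997))) (N (N (L 12425) (L 79241)) (N (L 4257) (L 71073)))) (N (N (N (L 61) (L 66877)) (N (L 8213) (L 75029))) (N (N (L 4137) (L 70953)) (N (L 12289) (L 79105)))))))) (N (N (N (N (N (N (N (L 3) (L 66819)) (N (L 8235) (L 75051))) (N (N (L 4119) (L 70935)) (N (L 12351) (L 79167)))) (N (N (N (L 8355) (L 75171)) (N (L 139) (L 66955))) (N (N (L 12471) (L 79287)) (N (L 4255) (L 71071))))) (N (N (N (N (L 4179) (L 70995)) (N (L 12411) (L 79227))) (N (N (L 71) (L 66887)) (N (L 8303) (L 75119)))) (N (N (N (L 12531) (L 79347)) (N (L 4315) (L 71131))) (N (N (L 8423) (L 75239)) (N (L 207) (L 67023)))))) (N (N (N (N (N (L 8331) (L 75147)) (N (L 163) (L 66979))) (N (N (L 12447) (L 79263)) (N (L 4279) (L 71095)))) (N (N (N (L 43) (L 66859)) (N (L 8195) (L 75011))) (N (N (L 4159) (L 70975)) (N (L 12311) (L 79127))))) (N (N (N (N (L 12507)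 (L 79323)) (N (L 4339) (L 71155))) (N (N (L 8399) (L 75215)) (N (L 231) (L 67047)))) (N (N (N (L 4219) (L 71035)) (N (L 12371) (L 79187))) (N (N (L 111) (L 66927)) (N (L 8263) (L 75079))))))) (N (N (N (N (N (N (L 4167) (L 70983)) (N (L 12399) (L 79215))) (N (N (L 83) (L 66899)) (N (L 8315) (L 75131)))) (N (N (N (L 12519) (L 79335)) (N (L 4303) (L 71119))) (N (N (L 8435) (L 75251)) (N (L 219) (L 67035))))) (N (N (N (N (L 23) (L 66839)) (N (L 8255) (L 75071))) (N (N (L 4099) (L 70915)) (N (L 12331) (L 79147)))) (N (N (N (L 8375) (L 75191)) (N (L 159) (L 66975))) (N (N (L 12451) (L 79267)) (N (L 4235) (L 71051)))))) (N (N (N (N (N (L 12495) (L 79311)) (N (L 4327) (L 71143))) (N (N (L 8411) (L 75227)) (N (L 243) (L 67059)))) (N (N (N (L 4207) (L 71023)) (N (L 12359) (L 79175))) (N (N (L 123) (L 66939)) (N (L 8275) (L 75091))))) (N (N (N (N (L 8351) (L 75167)) (N (L 183) (L 66999))) (N (N (L 12427) (L 79243)) (N (L 4259) (L 71075)))) (N (N (N (L 63) (L 66879)) (N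 (L 8215) (L 75031))) (N (N (L 4139) (L 70955)) (N (L 12291) (L 79107))))))))))

def tabHi3 : Tr :=
  (N (N (N (N (N (N (N (N (N (L 0) (L 164352)) (N (L 82176) (L 246528))) (N (N (L 165888) (L 2560)) (N (L 248064) (L 84736)))) (N (N (N (L 82944) (L 247296)) (N (L 1280) (L 165632))) (N (N (L 248832) (L 85504)) (N (L 167168) (L 3840))))) (N (N (N (N (L 168) (L 164520)) (N (L 82344) (L 246696))) (N (N (L 166056) (L 2728)) (N (L 248232) (L 84904)))) (N (N (N (L 83112) (L 247464)) (N (L 1448) (L 165800))) (N (N (L 249000) (L 85672)) (N (L 167336) (L 4008)))))) (N (N (N (N (N (L 84) (L 164436)) (N (L 82260) (L 246612))) (N (N (L 165972) (L 2644)) (N (L 248148) (L 84820)))) (N (N (N (L 83028) (L 247380)) (N (L 1364) (L 165716))) (N (N (L 248916) (L 85588)) (N (L 167252) (L 3924))))) (N (N (N (N (L 252) (L 164604)) (N (L 82428) (L 246780))) (N (N (L 166140) (L 2812)) (N (L 248316) (L 84988)))) (N (N (N (L 83196) (L 247548)) (N (L 1532) (L 165884))) (N (N (L 249084)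 (L 85756)) (N (L 167420) (L 4092))))))) (N (N (N (N (N (N (L 35328) (L 133120)) (N (L 117504) (L 215296))) (N (N (L 131584) (L 32768)) (N (L 213760) (L 114944)))) (N (N (N (L 118272) (L 216064)) (N (L 36608) (L 134400))) (N (N (L 214528) (L 115712)) (N (L 132864) (L 34048))))) (N (N (N (N (L 35496) (L 133288)) (N (L 117672) (L 215464))) (N (N (L 131752) (L 32936)) (N (L 213928) (L 115112)))) (N (N (N (L 118440) (L 216232)) (N (L 36776) (L 134568))) (N (N (L 214696) (L 115880)) (N (L 133032) (L 34216)))))) (N (N (N (N (N (L 35412) (L 133204)) (N (L 117588) (L 215380))) (N (N (L 131668) (L 32852)) (N (L 213844) (L 115028)))) (N (N (N (L 118356) (L 216148)) (N (L 36692) (L 134484))) (N (N (L 214612) (L 115796)) (N (L 132948) (L 34132))))) (N (N (N (N (L 35580) (L 133372)) (N (L 117756) (L 215548))) (N (N (L 131836) (L 33020)) (N (L 214012) (L 115196)))) (N (N (N (L 118524) (L 216316)) (N (L 36860) (L 134652))) (N (N (L 214780) (L 115964)) (N (L 133116) (L 34300))))))))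 (N (N (N (N (N (N (N (L 17664) (L 182016)) (N (L 66560) (L 230912))) (N (N (L 183552) (L 20224)) (N (L 232448) (L 69120)))) (N (N (N (L 65792) (L 230144)) (N (L 16384) (L 180736))) (N (N (L 231680) (L 68352)) (N (L 182272) (L 18944))))) (N (N (N (N (L 17832) (L 182184)) (N (L 66728) (L 231080))) (N (N (L 183720) (L 20392)) (N (L 232616) (L 69288)))) (N (N (N (L 65960) (L 230312)) (N (L 16552) (L 180904))) (N (N (L 231848) (L 68520)) (N (L 182440) (L 19112)))))) (N (N (N (N (N (L 17748) (L 182100)) (N (L 66644) (L 230996))) (N (N (L 183636) (L 20308)) (N (L 232532) (L 69204)))) (N (N (N (L 65876) (L 230228)) (N (L 16468) (L 180820))) (N (N (L 231764) (L 68436)) (N (L 182356) (L 19028))))) (N (N (N (N (L 17916) (L 182268)) (N (L 66812) (L 231164))) (N (N (L 183804) (L 20476)) (N (L 232700) (L 69372)))) (N (N (N (L 66044) (L 230396)) (N (L 16636) (L 180988))) (N (N (L 231932) (L 68604)) (N (L 182524) (L 19196))))))) (N (N (N (N (N (N (L 52992) (L 150784)) (N (L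 101888) (L 199680))) (N (N (L 149248) (L 50432)) (N (L 198144) (L 99328)))) (N (N (N (L 101120) (L 198912)) (N (L 51712) (L 149504))) (N (N (L 197376) (L 98560)) (N (L 147968) (L 49152))))) (N (N (N (N (L 53160) (L 150952)) (N (L 102056) (L 199848))) (N (N (L 149416) (L 50600)) (N (L 198312) (L 99496)))) (N (N (N (L 101288) (L 199080)) (N (L 51880) (L 149672))) (N (N (L 197544) (L 98728)) (N (L 148136) (L 49320)))))) (N (N (N (N (N (L 53076) (L 150868)) (N (L 101972) (L 199764))) (N (N (L 149332) (L 50516)) (N (L 198228) (L 99412)))) (N (N (N (L 101204) (L 198996)) (N (L 51796) (L 149588))) (N (N (L 197460) (L 98644)) (N (L 148052) (L 49236))))) (N (N (N (N (L 53244) (L 151036)) (N (L 102140) (L 199932))) (N (N (L 149500) (L 50684)) (N (L 198396) (L 99580)))) (N (N (N (L 101372) (L 199164)) (N (L 51964) (L 149756))) (N (N (L 197628) (L 98812)) (N (L 148220) (L 49404))))))))) (N (N (N (N (N (N (N (N (L 133632) (L 34816)) (N (L 215808) (L 116992))) (N (N (L 33280)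 (L 131072)) (N (L 115456) (L 213248)))) (N (N (N (L 216576) (L 117760)) (N (L 134912) (L 36096))) (N (N (L 116224) (L 214016)) (N (L 34560) (L 132352))))) (N (N (N (N (L 133800) (L 34984)) (N (L 215976) (L 117160))) (N (N (L 33448) (L 131240)) (N (L 115624) (L 213416)))) (N (N (N (L 216744) (L 117928)) (N (L 135080) (L 36264))) (N (N (L 116392) (L 214184)) (N (L 34728) (L 132520)))))) (N (N (N (N (N (L 133716) (L 34900)) (N (L 215892) (L 117076))) (N (N (L 33364) (L 131156)) (N (L 115540) (L 213332)))) (N (N (N (L 216660) (L 117844)) (N (L 134996) (L 36180))) (N (N (L 116308) (L 214100)) (N (L 34644) (L 132436))))) (N (N (N (N (L 133884) (L 35068)) (N (L 216060) (L 117244))) (N (N (L 33532) (L 131324)) (N (L 115708) (L 213500)))) (N (N (N (L 216828) (L 118012)) (N (L 135164) (L 36348))) (N (N (L 116476) (L 214268)) (N (L 34812) (L 132604))))))) (N (N (N (N (N (N (L 163840) (L 512)) (N (L 246016) (L 82688))) (N (N (L 2048) (L 166400)) (N (L 84224) (L 248576))))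 (N (N (N (L 246784) (L 83456)) (N (L 165120) (L 1792))) (N (N (L 84992) (L 249344)) (N (L 3328) (L 167680))))) (N (N (N (N (L 164008) (L 680)) (N (L 246184) (L 82856))) (N (N (L 2216) (L 166568)) (N (L 84392) (L 248744)))) (N (N (N (L 246952) (L 83624)) (N (L 165288) (L 1960))) (N (N (L 85160) (L 249512)) (N (L 3496) (L 167848)))))) (N (N (N (N (N (L 163924) (L 596)) (N (L 246100) (L 82772))) (N (N (L 2132) (L 166484)) (N (L 84308) (L 248660)))) (N (N (N (L 246868) (L 83540)) (N (L 165204) (L 1876))) (N (N (L 85076) (L 249428)) (N (L 3412) (L 167764))))) (N (N (N (N (L 164092) (L 764)) (N (L 246268) (L 82940))) (N (N (L 2300) (L 166652)) (N (L 84476) (L 248828)))) (N (N (N (L 247036) (L 83708)) (N (L 165372) (L 2044))) (N (N (L 85244) (L 249596)) (N (L 3580) (L 167932)))))))) (N (N (N (N (N (N (N (L 151296) (L 52480)) (N (L 200192) (L 101376))) (N (N (L 50944) (L 148736)) (N (L 99840) (L 197632)))) (N (N (N (L 199424) (L 100608)) (N (L 150016) (L 51200))) (N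 (N (L 99072) (L 196864)) (N (L 49664) (L 147456))))) (N (N (N (N (L 151464) (L 52648)) (N (L 200360) (L 101544))) (N (N (L 51112) (L 148904)) (N (L 100008) (L 197800)))) (N (N (N (L 199592) (L 100776)) (N (L 150184) (L 51368))) (N (N (L 99240) (L 197032)) (N (L 49832) (L 147624)))))) (N (N (N (N (N (L 151380) (L 52564)) (N (L 200276) (L 101460))) (N (N (L 51028) (L 148820)) (N (L 99924) (L 197716)))) (N (N (N (L 199508) (L 100692)) (N (L 150100) (L 51284))) (N (N (L 99156) (L 196948)) (N (L 49748) (L 147540))))) (N (N (N (N (L 151548) (L 52732)) (N (L 200444) (L 101628))) (N (N (L 51196) (L 148988)) (N (L 100092) (L 197884)))) (N (N (N (L 199676) (L 100860)) (N (L 150268) (L 51452))) (N (N (L 99324) (L 197116)) (N (L 49916) (L 147708))))))) (N (N (N (N (N (N (L 181504) (L 18176)) (N (L 230400) (L 67072))) (N (N (L 19712) (L 184064)) (N (L 68608) (L 232960)))) (N (N (N (L 229632) (L 66304)) (N (L 180224) (L 16896))) (N (N (L 67840) (L 232192)) (N (L 18432) (L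 182784))))) (N (N (N (N (L 181672) (L 18344)) (N (L 230568) (L 67240))) (N (N (L 19880) (L 184232)) (N (L 68776) (L 233128)))) (N (N (N (L 229800) (L 66472)) (N (L 180392) (L 17064))) (N (N (L 68008) (L 232360)) (N (L 18600) (L 182952)))))) (N (N (N (N (N (L 181588) (L 18260)) (N (L 230484) (L 67156))) (N (N (L 19796) (L 184148)) (N (L 68692) (L 233044)))) (N (N (N (L 229716) (L 66388)) (N (L 180308) (L 16980))) (N (N (L 67924) (L 232276)) (N (L 18516) (L 182868))))) (N (N (N (N (L 181756) (L 18428)) (N (L 230652) (L 67324))) (N (N (L 19964) (L 184316)) (N (L 68860) (L 233212)))) (N (N (N (L 229884) (L 66556)) (N (L 180476) (L 17148))) (N (N (L 68092) (L 232444)) (N (L 18684) (L 183036))))))))))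

def tabLo4 : Tr :=
  (N (N (N (N (N (N (N (N (N (L 0) (L 512)) (N (L 192) (L 704))) (N (N (L 128) (L 640)) (N (L 64) (L 576)))) (N (N (N (L 48) (L 560)) (N (L 240) (L 752))) (N (N (L 176) (L 688)) (N (L 112) (L 624))))) (N (N (N (N (L 32) (L 544)) (N (L 224) (L 736))) (N (N (L 160) (L 672)) (N (L 96) (L 608)))) (N (N (N (L 16) (L 528)) (N (L 208) (L 720))) (N (N (L 144) (L 656)) (N (L 80) (L 592)))))) (N (N (N (N (N (L 12) (L 524)) (N (L 204) (L 716))) (N (N (L 140) (L 652)) (N (L 76) (L 588)))) (N (N (N (L 60) (L 572)) (N (L 252) (L 764))) (N (N (L 188) (L 700)) (N (L 124) (L 636))))) (N (N (N (N (L 44) (L 556)) (N (L 236) (L 748))) (N (N (L 172) (L 684)) (N (L 108) (L 620)))) (N (N (N (L 28) (L 540)) (N (L 220) (L 732))) (N (N (L 156) (L 668)) (N (L 92) (L 604))))))) (N (N (N (N (N (N (L 8) (L 520)) (N (L 200) (L 712))) (N (N (L 136) (L 648)) (N (L 72) (L 584)))) (N (N (N (L 56) (L 568)) (N (L 248) (L 760))) (N (N (L 184) (L 696)) (N (L 120) (L 632)))))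 (N (N (N (N (L 40) (L 552)) (N (L 232) (L 744))) (N (N (L 168) (L 680)) (N (L 104) (L 616)))) (N (N (N (L 24) (L 536)) (N (L 216) (L 728))) (N (N (L 152) (L 664)) (N (L 88) (L 600)))))) (N (N (N (N (N (L 4) (L 516)) (N (L 196) (L 708))) (N (N (L 132) (L 644)) (N (L 68) (L 580)))) (N (N (N (L 52) (L 564)) (N (L 244) (L 756))) (N (N (L 180) (L 692)) (N (L 116) (L 628))))) (N (N (N (N (L 36) (L 548)) (N (L 228) (L 740))) (N (N (L 164) (L 676)) (N (L 100) (L 612)))) (N (N (N (L 20) (L 532)) (N (L 212) (L 724))) (N (N (L 148) (L 660)) (N (L 84) (L 596)))))))) (N (N (N (N (N (N (N (L 3) (L 515)) (N (L 195) (L 707))) (N (N (L 131) (L 643)) (N (L 67) (L 579)))) (N (N (N (L 51) (L 563)) (N (L 243) (L 755))) (N (N (L 179) (L 691)) (N (L 115) (L 627))))) (N (N (N (N (L 35) (L 547)) (N (L 227) (L 739))) (N (N (L 163) (L 675)) (N (L 99) (L 611)))) (N (N (N (L 19) (L 531)) (N (L 211) (L 723))) (N (N (L 147) (L 659)) (N (L 83) (L 595)))))) (N (N (N (N (N (L 15) (L 527)) (N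 (L 207) (L 719))) (N (N (L 143) (L 655)) (N (L 79) (L 591)))) (N (N (N (L 63) (L 575)) (N (L 255) (L 767))) (N (N (L 191) (L 703)) (N (L 127) (L 639))))) (N (N (N (N (L 47) (L 559)) (N (L 239) (L 751))) (N (N (L 175) (L 687)) (N (L 111) (L 623)))) (N (N (N (L 31) (L 543)) (N (L 223) (L 735))) (N (N (L 159) (L 671)) (N (L 95) (L 607))))))) (N (N (N (N (N (N (L 11) (L 523)) (N (L 203) (L 715))) (N (N (L 139) (L 651)) (N (L 75) (L 587)))) (N (N (N (L 59) (L 571)) (N (L 251) (L 763))) (N (N (L 187) (L 699)) (N (L 123) (L 635))))) (N (N (N (N (L 43) (L 555)) (N (L 235) (L 747))) (N (N (L 171) (L 683)) (N (L 107) (L 619)))) (N (N (N (L 27) (L 539)) (N (L 219) (L 731))) (N (N (L 155) (L 667)) (N (L 91) (L 603)))))) (N (N (N (N (N (L 7) (L 519)) (N (L 199) (L 711))) (N (N (L 135) (L 647)) (N (L 71) (L 583)))) (N (N (N (L 55) (L 567)) (N (L 247) (L 759))) (N (N (L 183) (L 695)) (N (L 119) (L 631))))) (N (N (N (N (L 39) (L 551)) (N (L 231) (L 743))) (N (N (L 167) (L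 679)) (N (L 103) (L 615)))) (N (N (N (L 23) (L 535)) (N (L 215) (L 727))) (N (N (L 151) (L 663)) (N (L 87) (L 599))))))))) (N (N (N (N (N (N (N (N (L 2) (L 514)) (N (L 194) (L 706))) (N (N (L 130) (L 642)) (N (L 66) (L 578)))) (N (N (N (L 50) (L 562)) (N (L 242) (L 754))) (N (N (L 178) (L 690)) (N (L 114) (L 626))))) (N (N (N (N (L 34) (L 546)) (N (L 226) (L 738))) (N (N (L 162) (L 674)) (N (L 98) (L 610)))) (N (N (N (L 18) (L 530)) (N (L 210) (L 722))) (N (N (L 146) (L 658)) (N (L 82) (L 594)))))) (N (N (N (N (N (L 14) (L 526)) (N (L 206) (L 718))) (N (N (L 142) (L 654)) (N (L 78) (L 590)))) (N (N (N (L 62) (L 574)) (N (L 254) (L 766))) (N (N (L 190) (L 702)) (N (L 126) (L 638))))) (N (N (N (N (L 46) (L 558)) (N (L 238) (L 750))) (N (N (L 174) (L 686)) (N (L 110) (L 622)))) (N (N (N (L 30) (L 542)) (N (L 222) (L 734))) (N (N (L 158) (L 670)) (N (L 94) (L 606))))))) (N (N (N (N (N (N (L 10) (L 522)) (N (L 202) (L 714))) (N (N (L 138) (L 650)) (N (L 74) (L 586))))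 (N (N (N (L 58) (L 570)) (N (L 250) (L 762))) (N (N (L 186) (L 698)) (N (L 122) (L 634))))) (N (N (N (N (L 42) (L 554)) (N (L 234) (L 746))) (N (N (L 170) (L 682)) (N (L 106) (L 618)))) (N (N (N (L 26) (L 538)) (N (L 218) (L 730))) (N (N (L 154) (L 666)) (N (L 90) (L 602)))))) (N (N (N (N (N (L 6) (L 518)) (N (L 198) (L 710))) (N (N (L 134) (L 646)) (N (L 70) (L 582)))) (N (N (N (L 54) (L 566)) (N (L 246) (L 758))) (N (N (L 182) (L 694)) (N (L 118) (L 630))))) (N (N (N (N (L 38) (L 550)) (N (L 230) (L 742))) (N (N (L 166) (L 678)) (N (L 102) (L 614)))) (N (N (N (L 22) (L 534)) (N (L 214) (L 726))) (N (N (L 150) (L 662)) (N (L 86) (L 598)))))))) (N (N (N (N (N (N (N (L 1) (L 513)) (N (L 193) (L 705))) (N (N (L 129) (L 641)) (N (L 65) (L 577)))) (N (N (N (L 49) (L 561)) (N (L 241) (L 753))) (N (N (L 177) (L 689)) (N (L 113) (L 625))))) (N (N (N (N (L 33) (L 545)) (N (L 225) (L 737))) (N (N (L 161) (L 673)) (N (L 97) (L 609)))) (N (N (N (L 17) (L 529)) (N (L 209)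 (L 721))) (N (N (L 145) (L 657)) (N (L 81) (L 593)))))) (N (N (N (N (N (L 13) (L 525)) (N (L 205) (L 717))) (N (N (L 141) (L 653)) (N (L 77) (L 589)))) (N (N (N (L 61) (L 573)) (N (L 253) (L 765))) (N (N (L 189) (L 701)) (N (L 125) (L 637))))) (N (N (N (N (L 45) (L 557)) (N (L 237) (L 749))) (N (N (L 173) (L 685)) (N (L 109) (L 621)))) (N (N (N (L 29) (L 541)) (N (L 221) (L 733))) (N (N (L 157) (L 669)) (N (L 93) (L 605))))))) (N (N (N (N (N (N (L 9) (L 521)) (N (L 201) (L 713))) (N (N (L 137) (L 649)) (N (L 73) (L 585)))) (N (N (N (L 57) (L 569)) (N (L 249) (L 761))) (N (N (L 185) (L 697)) (N (L 121) (L 633))))) (N (N (N (N (L 41) (L 553)) (N (L 233) (L 745))) (N (N (L 169) (L 681)) (N (L 105) (L 617)))) (N (N (N (L 25) (L 537)) (N (L 217) (L 729))) (N (N (L 153) (L 665)) (N (L 89) (L 601)))))) (N (N (N (N (N (L 5) (L 517)) (N (L 197) (L 709))) (N (N (L 133) (L 645)) (N (L 69) (L 581)))) (N (N (N (L 53) (L 565)) (N (L 245) (L 757))) (N (N (L 181) (L 693))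 (N (L 117) (L 629))))) (N (N (N (N (L 37) (L 549)) (N (L 229) (L 741))) (N (N (L 165) (L 677)) (N (L 101) (L 613)))) (N (N (N (L 21) (L 533)) (N (L 213) (L 725))) (N (N (L 149) (L 661)) (N (L 85) (L 597))))))))))

def tabHi4 : Tr :=
  (N (N (N (N (N (N (N (N (N (L 0) (L 196608)) (N (L 131072) (L 65536))) (N (N (L 49152) (L 245760)) (N (L 180224) (L 114688)))) (N (N (N (L 32768) (L 229376)) (N (L 163840) (L 98304))) (N (N (L 16384) (L 212992)) (N (L 147456) (L 81920))))) (N (N (N (N (L 12288) (L 208896)) (N (L 143360) (L 77824))) (N (N (L 61440) (L 258048)) (N (L 192512) (L 126976)))) (N (N (N (L 45056) (L 241664)) (N (L 176128) (L 110592))) (N (N (L 28672) (L 225280)) (N (L 159744) (L 94208)))))) (N (N (N (N (N (L 8192) (L 204800)) (N (L 139264) (L 73728))) (N (N (L 57344) (L 253952)) (N (L 188416) (L 122880)))) (N (N (N (L 40960) (L 237568)) (N (L 172032) (L 106496))) (N (N (L 24576) (L 221184)) (N (L 155648) (L 90112))))) (N (N (N (N (L 4096) (L 200704))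 (N (L 135168) (L 69632))) (N (N (L 53248) (L 249856)) (N (L 184320) (L 118784)))) (N (N (N (L 36864) (L 233472)) (N (L 167936) (L 102400))) (N (N (L 20480) (L 217088)) (N (L 151552) (L 86016))))))) (N (N (N (N (N (N (L 3072) (L 199680)) (N (L 134144) (L 68608))) (N (N (L 52224) (L 248832)) (N (L 183296) (L 117760)))) (N (N (N (L 35840) (L 232448)) (N (L 166912) (L 101376))) (N (N (L 19456) (L 216064)) (N (L 150528) (L 84992))))) (N (N (N (N (L 15360) (L 211968)) (N (L 146432) (L 80896))) (N (N (L 64512) (L 261120)) (N (L 195584) (L 130048)))) (N (N (N (L 48128) (L 244736)) (N (L 179200) (L 113664))) (N (N (L 31744) (L 228352)) (N (L 162816) (L 97280)))))) (N (N (N (N (N (L 11264) (L 207872)) (N (L 142336) (L 76800))) (N (N (L 60416) (L 257024)) (N (L 191488) (L 125952)))) (N (N (N (L 44032) (L 240640)) (N (L 175104) (L 109568))) (N (N (L 27648) (L 224256)) (N (L 158720) (L 93184))))) (N (N (N (N (L 7168) (L 203776)) (N (L 138240) (L 72704))) (N (N (L 56320)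 (L 252928)) (N (L 187392) (L 121856)))) (N (N (N (L 39936) (L 236544)) (N (L 171008) (L 105472))) (N (N (L 23552) (L 220160)) (N (L 154624) (L 89088)))))))) (N (N (N (N (N (N (N (L 2048) (L 198656)) (N (L 133120) (L 67584))) (N (N (L 51200) (L 247808)) (N (L 182272) (L 116736)))) (N (N (N (L 34816) (L 231424)) (N (L 165888) (L 100352))) (N (N (L 18432) (L 215040)) (N (L 149504) (L 83968))))) (N (N (N (N (L 14336) (L 210944)) (N (L 145408) (L 79872))) (N (N (L 63488) (L 260096)) (N (L 194560) (L 129024)))) (N (N (N (L 47104) (L 243712)) (N (L 178176) (L 112640))) (N (N (L 30720) (L 227328)) (N (L 161792) (L 96256)))))) (N (N (N (N (N (L 10240) (L 206848)) (N (L 141312) (L 75776))) (N (N (L 59392) (L 256000)) (N (L 190464) (L 124928)))) (N (N (N (L 43008) (L 239616)) (N (L 174080) (L 108544))) (N (N (L 26624) (L 223232)) (N (L 157696) (L 92160))))) (N (N (N (N (L 6144) (L 202752)) (N (L 137216) (L 71680))) (N (N (L 55296) (L 251904)) (N (L 186368) (L 120832))))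 (N (N (N (L 38912) (L 235520)) (N (L 169984) (L 104448))) (N (N (L 22528) (L 219136)) (N (L 153600) (L 88064))))))) (N (N (N (N (N (N (L 1024) (L 197632)) (N (L 132096) (L 66560))) (N (N (L 50176) (L 246784)) (N (L 181248) (L 115712)))) (N (N (N (L 33792) (L 230400)) (N (L 164864) (L 99328))) (N (N (L 17408) (L 214016)) (N (L 148480) (L 82944))))) (N (N (N (N (L 13312) (L 209920)) (N (L 144384) (L 78848))) (N (N (L 62464) (L 259072)) (N (L 193536) (L 128000)))) (N (N (N (L 46080) (L 242688)) (N (L 177152) (L 111616))) (N (N (L 29696) (L 226304)) (N (L 160768) (L 95232)))))) (N (N (N (N (N (L 9216) (L 205824)) (N (L 140288) (L 74752))) (N (N (L 58368) (L 254976)) (N (L 189440) (L 123904)))) (N (N (N (L 41984) (L 238592)) (N (L 173056) (L 107520))) (N (N (L 25600) (L 222208)) (N (L 156672) (L 91136))))) (N (N (N (N (L 5120) (L 201728)) (N (L 136192) (L 70656))) (N (N (L 54272) (L 250880)) (N (L 185344) (L 119808)))) (N (N (N (L 37888) (L 234496)) (N (L 168960)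 (L 103424))) (N (N (L 21504) (L 218112)) (N (L 152576) (L 87040))))))))) (N (N (N (N (N (N (N (N (L 768) (L 197376)) (N (L 131840) (L 66304))) (N (N (L 49920) (L 246528)) (N (L 180992) (L 115456)))) (N (N (N (L 33536) (L 230144)) (N (L 164608) (L 99072))) (N (N (L 17152) (L 213760)) (N (L 148224) (L 82688))))) (N (N (N (N (L 13056) (L 209664)) (N (L 144128) (L 78592))) (N (N (L 62208) (L 258816)) (N (L 193280) (L 127744)))) (N (N (N (L 45824) (L 242432)) (N (L 176896) (L 111360))) (N (N (L 29440) (L 226048)) (N (L 160512) (L 94976)))))) (N (N (N (N (N (L 8960) (L 205568)) (N (L 140032) (L 74496))) (N (N (L 58112) (L 254720)) (N (L 189184) (L 123648)))) (N (N (N (L 41728) (L 238336)) (N (L 172800) (L 107264))) (N (N (L 25344) (L 221952)) (N (L 156416) (L 90880))))) (N (N (N (N (L 4864) (L 201472)) (N (L 135936) (L 70400))) (N (N (L 54016) (L 250624)) (N (L 185088) (L 119552)))) (N (N (N (L 37632) (L 234240)) (N (L 168704) (L 103168))) (N (N (L 21248) (L 217856))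 (N (L 152320) (L 86784))))))) (N (N (N (N (N (N (L 3840) (L 200448)) (N (L 134912) (L 69376))) (N (N (L 52992) (L 249600)) (N (L 184064) (L 118528)))) (N (N (N (L 36608) (L 233216)) (N (L 167680) (L 102144))) (N (N (L 20224) (L 216832)) (N (L 151296) (L 85760))))) (N (N (N (N (L 16128) (L 212736)) (N (L 147200) (L 81664))) (N (N (L 65280) (L 261888)) (N (L 196352) (L 130816)))) (N (N (N (L 48896) (L 245504)) (N (L 179968) (L 114432))) (N (N (L 32512) (L 229120)) (N (L 163584) (L 98048)))))) (N (N (N (N (N (L 12032) (L 208640)) (N (L 143104) (L 77568))) (N (N (L 61184) (L 257792)) (N (L 192256) (L 126720)))) (N (N (N (L 44800) (L 241408)) (N (L 175872) (L 110336))) (N (N (L 28416) (L 225024)) (N (L 159488) (L 93952))))) (N (N (N (N (L 7936) (L 204544)) (N (L 139008) (L 73472))) (N (N (L 57088) (L 253696)) (N (L 188160) (L 122624)))) (N (N (N (L 40704) (L 237312)) (N (L 171776) (L 106240))) (N (N (L 24320) (L 220928)) (N (L 155392) (L 89856)))))))) (N (N (N (N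 (N (N (N (L 2816) (L 199424)) (N (L 133888) (L 68352))) (N (N (L 51968) (L 248576)) (N (L 183040) (L 117504)))) (N (N (N (L 35584) (L 232192)) (N (L 166656) (L 101120))) (N (N (L 19200) (L 215808)) (N (L 150272) (L 84736))))) (N (N (N (N (L 15104) (L 211712)) (N (L 146176) (L 80640))) (N (N (L 64256) (L 260864)) (N (L 195328) (L 129792)))) (N (N (N (L 47872) (L 244480)) (N (L 178944) (L 113408))) (N (N (L 31488) (L 228096)) (N (L 162560) (L 97024)))))) (N (N (N (N (N (L 11008) (L 207616)) (N (L 142080) (L 76544))) (N (N (L 60160) (L 256768)) (N (L 191232) (L 125696)))) (N (N (N (L 43776) (L 240384)) (N (L 174848) (L 109312))) (N (N (L 27392) (L 224000)) (N (L 158464) (L 92928))))) (N (N (N (N (L 6912) (L 203520)) (N (L 137984) (L 72448))) (N (N (L 56064) (L 252672)) (N (L 187136) (L 121600)))) (N (N (N (L 39680) (L 236288)) (N (L 170752) (L 105216))) (N (N (L 23296) (L 219904)) (N (L 154368) (L 88832))))))) (N (N (N (N (N (N (L 1792) (L 198400)) (N (L 132864)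 (L 67328))) (N (N (L 50944) (L 247552)) (N (L 182016) (L 116480)))) (N (N (N (L 34560) (L 231168)) (N (L 165632) (L 100096))) (N (N (L 18176) (L 214784)) (N (L 149248) (L 83712))))) (N (N (N (N (L 14080) (L 210688)) (N (L 145152) (L 79616))) (N (N (L 63232) (L 259840)) (N (L 194304) (L 128768)))) (N (N (N (L 46848) (L 243456)) (N (L 177920) (L 112384))) (N (N (L 30464) (L 227072)) (N (L 161536) (L 96000)))))) (N (N (N (N (N (L 9984) (L 206592)) (N (L 141056) (L 75520))) (N (N (L 59136) (L 255744)) (N (L 190208) (L 124672)))) (N (N (N (L 42752) (L 239360)) (N (L 173824) (L 108288))) (N (N (L 26368) (L 222976)) (N (L 157440) (L 91904))))) (N (N (N (N (L 5888) (L 202496)) (N (L 136960) (L 71424))) (N (N (L 55040) (L 251648)) (N (L 186112) (L 120576)))) (N (N (N (L 38656) (L 235264)) (N (L 169728) (L 104192))) (N (N (L 22272) (L 218880)) (N (L 153344) (L 87808))))))))))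

def tabLo5 : Tr :=
  (N (N (N (N (N (N (N (N (N (L 0) (L 768)) (N (L 64) (L 832))) (N (N (L 192) (L 960)) (N (L 128) (L 896)))) (N (N (N (L 16) (L 784)) (N (L 80) (L 848))) (N (N (L 208) (L 976)) (N (L 144) (L 912))))) (N (N (N (N (L 48) (L 816)) (N (L 112) (L 880))) (N (N (L 240) (L 1008)) (N (L 176) (L 944)))) (N (N (N (L 32) (L 800)) (N (L 96) (L 864))) (N (N (L 224) (L 992)) (N (L 160) (L 928)))))) (N (N (N (N (N (L 4) (L 772)) (N (L 68) (L 836))) (N (N (L 196) (L 964)) (N (L 132) (L 900)))) (N (N (N (L 20) (L 788)) (N (L 84) (L 852))) (N (N (L 212) (L 980)) (N (L 148) (L 916))))) (N (N (N (N (L 52) (L 820)) (N (L 116) (L 884))) (N (N (L 244) (L 1012)) (N (L 180) (L 948)))) (N (N (N (L 36) (L 804)) (N (L 100) (L 868))) (N (N (L 228) (L 996)) (N (L 164) (L 932))))))) (N (N (N (N (N (N (L 12) (L 780)) (N (L 76) (L 844))) (N (N (L 204) (L 972)) (N (L 140) (L 908)))) (N (N (N (L 28) (L 796)) (N (L 92) (L 860))) (N (N (L 220) (L 988)) (N (L 156) (L 924)))))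 (N (N (N (N (L 60) (L 828)) (N (L 124) (L 892))) (N (N (L 252) (L 1020)) (N (L 188) (L 956)))) (N (N (N (L 44) (L 812)) (N (L 108) (L 876))) (N (N (L 236) (L 1004)) (N (L 172) (L 940)))))) (N (N (N (N (N (L 8) (L 776)) (N (L 72) (L 840))) (N (N (L 200) (L 968)) (N (L 136) (L 904)))) (N (N (N (L 24) (L 792)) (N (L 88) (L 856))) (N (N (L 216) (L 984)) (N (L 152) (L 920))))) (N (N (N (N (L 56) (L 824)) (N (L 120) (L 888))) (N (N (L 248) (L 1016)) (N (L 184) (L 952)))) (N (N (N (L 40) (L 808)) (N (L 104) (L 872))) (N (N (L 232) (L 1000)) (N (L 168) (L 936)))))))) (N (N (N (N (N (N (N (L 1) (L 769)) (N (L 65) (L 833))) (N (N (L 193) (L 961)) (N (L 129) (L 897)))) (N (N (N (L 17) (L 785)) (N (L 81) (L 849))) (N (N (L 209) (L 977)) (N (L 145) (L 913))))) (N (N (N (N (L 49) (L 817)) (N (L 113) (L 881))) (N (N (L 241) (L 1009)) (N (L 177) (L 945)))) (N (N (N (L 33) (L 801)) (N (L 97) (L 865))) (N (N (L 225) (L 993)) (N (L 161) (L 929)))))) (N (N (N (N (N (L 5) (L 773))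 (N (L 69) (L 837))) (N (N (L 197) (L 965)) (N (L 133) (L 901)))) (N (N (N (L 21) (L 789)) (N (L 85) (L 853))) (N (N (L 213) (L 981)) (N (L 149) (L 917))))) (N (N (N (N (L 53) (L 821)) (N (L 117) (L 885))) (N (N (L 245) (L 1013)) (N (L 181) (L 949)))) (N (N (N (L 37) (L 805)) (N (L 101) (L 869))) (N (N (L 229) (L 997)) (N (L 165) (L 933))))))) (N (N (N (N (N (N (L 13) (L 781)) (N (L 77) (L 845))) (N (N (L 205) (L 973)) (N (L 141) (L 909)))) (N (N (N (L 29) (L 797)) (N (L 93) (L 861))) (N (N (L 221) (L 989)) (N (L 157) (L 925))))) (N (N (N (N (L 61) (L 829)) (N (L 125) (L 893))) (N (N (L 253) (L 1021)) (N (L 189) (L 957)))) (N (N (N (L 45) (L 813)) (N (L 109) (L 877))) (N (N (L 237) (L 1005)) (N (L 173) (L 941)))))) (N (N (N (N (N (L 9) (L 777)) (N (L 73) (L 841))) (N (N (L 201) (L 969)) (N (L 137) (L 905)))) (N (N (N (L 25) (L 793)) (N (L 89) (L 857))) (N (N (L 217) (L 985)) (N (L 153) (L 921))))) (N (N (N (N (L 57) (L 825)) (N (L 121) (L 889))) (N (N (L 249)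 (L 1017)) (N (L 185) (L 953)))) (N (N (N (L 41) (L 809)) (N (L 105) (L 873))) (N (N (L 233) (L 1001)) (N (L 169) (L 937))))))))) (N (N (N (N (N (N (N (N (L 3) (L 771)) (N (L 67) (L 835))) (N (N (L 195) (L 963)) (N (L 131) (L 899)))) (N (N (N (L 19) (L 787)) (N (L 83) (L 851))) (N (N (L 211) (L 979)) (N (L 147) (L 915))))) (N (N (N (N (L 51) (L 819)) (N (L 115) (L 883))) (N (N (L 243) (L 1011)) (N (L 179) (L 947)))) (N (N (N (L 35) (L 803)) (N (L 99) (L 867))) (N (N (L 227) (L 995)) (N (L 163) (L 931)))))) (N (N (N (N (N (L 7) (L 775)) (N (L 71) (L 839))) (N (N (L 199) (L 967)) (N (L 135) (L 903)))) (N (N (N (L 23) (L 791)) (N (L 87) (L 855))) (N (N (L 215) (L 983)) (N (L 151) (L 919))))) (N (N (N (N (L 55) (L 823)) (N (L 119) (L 887))) (N (N (L 247) (L 1015)) (N (L 183) (L 951)))) (N (N (N (L 39) (L 807)) (N (L 103) (L 871))) (N (N (L 231) (L 999)) (N (L 167) (L 935))))))) (N (N (N (N (N (N (L 15) (L 783)) (N (L 79) (L 847))) (N (N (L 207) (L 975)) (N (L 143)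 (L 911)))) (N (N (N (L 31) (L 799)) (N (L 95) (L 863))) (N (N (L 223) (L 991)) (N (L 159) (L 927))))) (N (N (N (N (L 63) (L 831)) (N (L 127) (L 895))) (N (N (L 255) (L 1023)) (N (L 191) (L 959)))) (N (N (N (L 47) (L 815)) (N (L 111) (L 879))) (N (N (L 239) (L 1007)) (N (L 175) (L 943)))))) (N (N (N (N (N (L 11) (L 779)) (N (L 75) (L 843))) (N (N (L 203) (L 971)) (N (L 139) (L 907)))) (N (N (N (L 27) (L 795)) (N (L 91) (L 859))) (N (N (L 219) (L 987)) (N (L 155) (L 923))))) (N (N (N (N (L 59) (L 827)) (N (L 123) (L 891))) (N (N (L 251) (L 1019)) (N (L 187) (L 955)))) (N (N (N (L 43) (L 811)) (N (L 107) (L 875))) (N (N (L 235) (L 1003)) (N (L 171) (L 939)))))))) (N (N (N (N (N (N (N (L 2) (L 770)) (N (L 66) (L 834))) (N (N (L 194) (L 962)) (N (L 130) (L 898)))) (N (N (N (L 18) (L 786)) (N (L 82) (L 850))) (N (N (L 210) (L 978)) (N (L 146) (L 914))))) (N (N (N (N (L 50) (L 818)) (N (L 114) (L 882))) (N (N (L 242) (L 1010)) (N (L 178) (L 946)))) (N (N (N (L 34)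 (L 802)) (N (L 98) (L 866))) (N (N (L 226) (L 994)) (N (L 162) (L 930)))))) (N (N (N (N (N (L 6) (L 774)) (N (L 70) (L 838))) (N (N (L 198) (L 966)) (N (L 134) (L 902)))) (N (N (N (L 22) (L 790)) (N (L 86) (L 854))) (N (N (L 214) (L 982)) (N (L 150) (L 918))))) (N (N (N (N (L 54) (L 822)) (N (L 118) (L 886))) (N (N (L 246) (L 1014)) (N (L 182) (L 950)))) (N (N (N (L 38) (L 806)) (N (L 102) (L 870))) (N (N (L 230) (L 998)) (N (L 166) (L 934))))))) (N (N (N (N (N (N (L 14) (L 782)) (N (L 78) (L 846))) (N (N (L 206) (L 974)) (N (L 142) (L 910)))) (N (N (N (L 30) (L 798)) (N (L 94) (L 862))) (N (N (L 222) (L 990)) (N (L 158) (L 926))))) (N (N (N (N (L 62) (L 830)) (N (L 126) (L 894))) (N (N (L 254) (L 1022)) (N (L 190) (L 958)))) (N (N (N (L 46) (L 814)) (N (L 110) (L 878))) (N (N (L 238) (L 1006)) (N (L 174) (L 942)))))) (N (N (N (N (N (L 10) (L 778)) (N (L 74) (L 842))) (N (N (L 202) (L 970)) (N (L 138) (L 906)))) (N (N (N (L 26) (L 794)) (N (L 90) (L 858)))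 (N (N (L 218) (L 986)) (N (L 154) (L 922))))) (N (N (N (N (L 58) (L 826)) (N (L 122) (L 890))) (N (N (L 250) (L 1018)) (N (L 186) (L 954)))) (N (N (N (L 42) (L 810)) (N (L 106) (L 874))) (N (N (L 234) (L 1002)) (N (L 170) (L 938))))))))))

def tabHi5 : Tr :=
  (N (N (N (N (N (N (N (N (N (L 0) (L 65536)) (N (L 196608) (L 131072))) (N (N (L 16384) (L 81920)) (N (L 212992) (L 147456)))) (N (N (N (L 49152) (L 114688)) (N (L 245760) (L 180224))) (N (N (L 32768) (L 98304)) (N (L 229376) (L 163840))))) (N (N (N (N (L 4096) (L 69632)) (N (L 200704) (L 135168))) (N (N (L 20480) (L 86016)) (N (L 217088) (L 151552)))) (N (N (N (L 53248) (L 118784)) (N (L 249856) (L 184320))) (N (N (L 36864) (L 102400)) (N (L 233472) (L 167936)))))) (N (N (N (N (N (L 12288) (L 77824)) (N (L 208896) (L 143360))) (N (N (L 28672) (L 94208)) (N (L 225280) (L 159744)))) (N (N (N (L 61440) (L 126976)) (N (L 258048) (L 192512))) (N (N (L 45056) (L 110592)) (N (L 241664) (L 176128))))) (N (N (N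 (N (L 8192) (L 73728)) (N (L 204800) (L 139264))) (N (N (L 24576) (L 90112)) (N (L 221184) (L 155648)))) (N (N (N (L 57344) (L 122880)) (N (L 253952) (L 188416))) (N (N (L 40960) (L 106496)) (N (L 237568) (L 172032))))))) (N (N (N (N (N (N (L 1024) (L 66560)) (N (L 197632) (L 132096))) (N (N (L 17408) (L 82944)) (N (L 214016) (L 148480)))) (N (N (N (L 50176) (L 115712)) (N (L 246784) (L 181248))) (N (N (L 33792) (L 99328)) (N (L 230400) (L 164864))))) (N (N (N (N (L 5120) (L 70656)) (N (L 201728) (L 136192))) (N (N (L 21504) (L 87040)) (N (L 218112) (L 152576)))) (N (N (N (L 54272) (L 119808)) (N (L 250880) (L 185344))) (N (N (L 37888) (L 103424)) (N (L 234496) (L 168960)))))) (N (N (N (N (N (L 13312) (L 78848)) (N (L 209920) (L 144384))) (N (N (L 29696) (L 95232)) (N (L 226304) (L 160768)))) (N (N (N (L 62464) (L 128000)) (N (L 259072) (L 193536))) (N (N (L 46080) (L 111616)) (N (L 242688) (L 177152))))) (N (N (N (N (L 9216) (L 74752)) (N (L 205824) (L 140288)))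 (N (N (L 25600) (L 91136)) (N (L 222208) (L 156672)))) (N (N (N (L 58368) (L 123904)) (N (L 254976) (L 189440))) (N (N (L 41984) (L 107520)) (N (L 238592) (L 173056)))))))) (N (N (N (N (N (N (N (L 3072) (L 68608)) (N (L 199680) (L 134144))) (N (N (L 19456) (L 84992)) (N (L 216064) (L 150528)))) (N (N (N (L 52224) (L 117760)) (N (L 248832) (L 183296))) (N (N (L 35840) (L 101376)) (N (L 232448) (L 166912))))) (N (N (N (N (L 7168) (L 72704)) (N (L 203776) (L 138240))) (N (N (L 23552) (L 89088)) (N (L 220160) (L 154624)))) (N (N (N (L 56320) (L 121856)) (N (L 252928) (L 187392))) (N (N (L 39936) (L 105472)) (N (L 236544) (L 171008)))))) (N (N (N (N (N (L 15360) (L 80896)) (N (L 211968) (L 146432))) (N (N (L 31744) (L 97280)) (N (L 228352) (L 162816)))) (N (N (N (L 64512) (L 130048)) (N (L 261120) (L 195584))) (N (N (L 48128) (L 113664)) (N (L 244736) (L 179200))))) (N (N (N (N (L 11264) (L 76800)) (N (L 207872) (L 142336))) (N (N (L 27648) (L 93184)) (N (L 224256)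 (L 158720)))) (N (N (N (L 60416) (L 125952)) (N (L 257024) (L 191488))) (N (N (L 44032) (L 109568)) (N (L 240640) (L 175104))))))) (N (N (N (N (N (N (L 2048) (L 67584)) (N (L 198656) (L 133120))) (N (N (L 18432) (L 83968)) (N (L 215040) (L 149504)))) (N (N (N (L 51200) (L 116736)) (N (L 247808) (L 182272))) (N (N (L 34816) (L 100352)) (N (L 231424) (L 165888))))) (N (N (N (N (L 6144) (L 71680)) (N (L 202752) (L 137216))) (N (N (L 22528) (L 88064)) (N (L 219136) (L 153600)))) (N (N (N (L 55296) (L 120832)) (N (L 251904) (L 186368))) (N (N (L 38912) (L 104448)) (N (L 235520) (L 169984)))))) (N (N (N (N (N (L 14336) (L 79872)) (N (L 210944) (L 145408))) (N (N (L 30720) (L 96256)) (N (L 227328) (L 161792)))) (N (N (N (L 63488) (L 129024)) (N (L 260096) (L 194560))) (N (N (L 47104) (L 112640)) (N (L 243712) (L 178176))))) (N (N (N (N (L 10240) (L 75776)) (N (L 206848) (L 141312))) (N (N (L 26624) (L 92160)) (N (L 223232) (L 157696)))) (N (N (N (L 59392) (L 124928))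 (N (L 256000) (L 190464))) (N (N (L 43008) (L 108544)) (N (L 239616) (L 174080))))))))) (N (N (N (N (N (N (N (N (L 256) (L 65792)) (N (L 196864) (L 131328))) (N (N (L 16640) (L 82176)) (N (L 213248) (L 147712)))) (N (N (N (L 49408) (L 114944)) (N (L 246016) (L 180480))) (N (N (L 33024) (L 98560)) (N (L 229632) (L 164096))))) (N (N (N (N (L 4352) (L 69888)) (N (L 200960) (L 135424))) (N (N (L 20736) (L 86272)) (N (L 217344) (L 151808)))) (N (N (N (L 53504) (L 119040)) (N (L 250112) (L 184576))) (N (N (L 37120) (L 102656)) (N (L 233728) (L 168192)))))) (N (N (N (N (N (L 12544) (L 78080)) (N (L 209152) (L 143616))) (N (N (L 28928) (L 94464)) (N (L 225536) (L 160000)))) (N (N (N (L 61696) (L 127232)) (N (L 258304) (L 192768))) (N (N (L 45312) (L 110848)) (N (L 241920) (L 176384))))) (N (N (N (N (L 8448) (L 73984)) (N (L 205056) (L 139520))) (N (N (L 24832) (L 90368)) (N (L 221440) (L 155904)))) (N (N (N (L 57600) (L 123136)) (N (L 254208) (L 188672))) (N (N (L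 41216) (L 106752)) (N (L 237824) (L 172288))))))) (N (N (N (N (N (N (L 1280) (L 66816)) (N (L 197888) (L 132352))) (N (N (L 17664) (L 83200)) (N (L 214272) (L 148736)))) (N (N (N (L 50432) (L 115968)) (N (L 247040) (L 181504))) (N (N (L 34048) (L 99584)) (N (L 230656) (L 165120))))) (N (N (N (N (L 5376) (L 70912)) (N (L 201984) (L 136448))) (N (N (L 21760) (L 87296)) (N (L 218368) (L 152832)))) (N (N (N (L 54528) (L 120064)) (N (L 251136) (L 185600))) (N (N (L 38144) (L 103680)) (N (L 234752) (L 169216)))))) (N (N (N (N (N (L 13568) (L 79104)) (N (L 210176) (L 144640))) (N (N (L 29952) (L 95488)) (N (L 226560) (L 161024)))) (N (N (N (L 62720) (L 128256)) (N (L 259328) (L 193792))) (N (N (L 46336) (L 111872)) (N (L 242944) (L 177408))))) (N (N (N (N (L 9472) (L 75008)) (N (L 206080) (L 140544))) (N (N (L 25856) (L 91392)) (N (L 222464) (L 156928)))) (N (N (N (L 58624) (L 124160)) (N (L 255232) (L 189696))) (N (N (L 42240) (L 107776)) (N (L 238848) (L 173312))))))))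 (N (N (N (N (N (N (N (L 3328) (L 68864)) (N (L 199936) (L 134400))) (N (N (L 19712) (L 85248)) (N (L 216320) (L 150784)))) (N (N (N (L 52480) (L 118016)) (N (L 249088) (L 183552))) (N (N (L 36096) (L 101632)) (N (L 232704) (L 167168))))) (N (N (N (N (L 7424) (L 72960)) (N (L 204032) (L 138496))) (N (N (L 23808) (L 89344)) (N (L 220416) (L 154880)))) (N (N (N (L 56576) (L 122112)) (N (L 253184) (L 187648))) (N (N (L 40192) (L 105728)) (N (L 236800) (L 171264)))))) (N (N (N (N (N (L 15616) (L 81152)) (N (L 212224) (L 146688))) (N (N (L 32000) (L 97536)) (N (L 228608) (L 163072)))) (N (N (N (L 64768) (L 130304)) (N (L 261376) (L 195840))) (N (N (L 48384) (L 113920)) (N (L 244992) (L 179456))))) (N (N (N (N (L 11520) (L 77056)) (N (L 208128) (L 142592))) (N (N (L 27904) (L 93440)) (N (L 224512) (L 158976)))) (N (N (N (L 60672) (L 126208)) (N (L 257280) (L 191744))) (N (N (L 44288) (L 109824)) (N (L 240896) (L 175360))))))) (N (N (N (N (N (N (L 2304) (L 67840))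 (N (L 198912) (L 133376))) (N (N (L 18688) (L 84224)) (N (L 215296) (L 149760)))) (N (N (N (L 51456) (L 116992)) (N (L 248064) (L 182528))) (N (N (L 35072) (L 100608)) (N (L 231680) (L 166144))))) (N (N (N (N (L 6400) (L 71936)) (N (L 203008) (L 137472))) (N (N (L 22784) (L 88320)) (N (L 219392) (L 153856)))) (N (N (N (L 55552) (L 121088)) (N (L 252160) (L 186624))) (N (N (L 39168) (L 104704)) (N (L 235776) (L 170240)))))) (N (N (N (N (N (L 14592) (L 80128)) (N (L 211200) (L 145664))) (N (N (L 30976) (L 96512)) (N (L 227584) (L 162048)))) (N (N (N (L 63744) (L 129280)) (N (L 260352) (L 194816))) (N (N (L 47360) (L 112896)) (N (L 243968) (L 178432))))) (N (N (N (N (L 10496) (L 76032)) (N (L 207104) (L 141568))) (N (N (L 26880) (L 92416)) (N (L 223488) (L 157952)))) (N (N (N (L 59648) (L 125184)) (N (L 256256) (L 190720))) (N (N (L 43264) (L 108800)) (N (L 239872) (L 174336))))))))))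

def tab : ℕ → Tr × Tr
  | 0 => (tabLo0, tabHi0)
  | 1 => (tabLo1, tabHi1)
  | 2 => (tabLo2, tabHi2)
  | 3 => (tabLo3, tabHi3)
  | 4 => (tabLo4, tabHi4)
  | _ => (tabLo5, tabHi5)

end Cfsg.Agent.Lib.JankoThree
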